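import Cfsg.Agent.McLLoc.CentZFive

/-!
# Similitudes related to an element of order five
-/

set_option autoImplicit false

open Subgroup

namespace Cfsg.Agent.McLLoc

namespace SympData

variable {G : Type*} [Group G] (D : SympData G)

/-- A representative of a class. -/
noncomputable def rep (w : D.W) : G := (D.cls_surj w).choose

theorem rep_mem (w : D.W) : D.rep w ∈ D.Q := (D.cls_surj w).choose_spec.1

theorem cls_rep (w : D.W) : D.cls (D.rep w) = w := (D.cls_surj w).choose_spec.2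

/-- The form on the quotient. -/
noncomputable def form (a b : D.W) : ZMod 3 := D.br (D.rep a) (D.rep b)

theorem form_cls {x y : G} (hx : x ∈ D.Q) (hy : y ∈ D.Q) : D.form (D.cls x) (D.cls y) = D.br x y :=
  D.br_congr (D.rep_mem _) hx (D.rep_mem _) hy (D.cls_rep _) (D.cls_rep _)

theorem form_mul_left (a b c : D.W) : D.form (a * b) c = D.form a c + D.form b c := by
  conv_lhs => rw [← D.cls_rep a, ← D.cls_rep b, ← D.cls_rep c, ← D.cls_mul (D.rep_mem a) (D.rep_mem b)]
  rw [D.form_cls (mul_mem (D.rep_mem a) (D.rep_mem b)) (D.rep_mem c),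
    D.br_mul_left (D.rep_mem a) (D.rep_mem b) (D.rep_mem c)]
  rfl

theorem form_swap (a b : D.W) : D.form b a = -D.form a b := D.br_swap (D.rep_mem a) (D.rep_mem b)

theorem form_mul_right (a b c : D.W) : D.form a (b * c) = D.form a b + D.form a c := by
  rw [D.form_swap, D.form_mul_left, D.form_swap a b, D.form_swap a c]; ring

theorem form_self (a : D.W) : D.form a a = 0 := D.br_self (D.rep_mem a)

theorem form_one_left (a : D.W) : D.form 1 a = 0 := by
  have h := D.form_mul_left 1 1 a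
  rw [one_mul] at h
  exact left_eq_add.1 h

theorem form_pw_left (n : ZMod 3) (a b : D.W) : D.form (D.pw n a) b = n * D.form a b := by
  have h : ∀ k : ℕ, D.form (a ^ k) b = (k : ZMod 3) * D.form a b := by
    intro k
    induction k with
    | zero => rw [pow_zero, D.form_one_left, Nat.cast_zero, zero_mul]
    | succ k ih => rw [pow_succ, D.form_mul_left, ih, Nat.cast_succ]; ring
  rw [pw, h, ZMod.natCast_zmod_val]

theorem form_pw_right (n : ZMod 3) (a b : D.W) : D.form a (D.pw n b) = n * D.form a b := by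
  rw [D.form_swap, D.form_pw_left, D.form_swap a b]; ring

theorem form_inv_inv (a b : D.W) : D.form a⁻¹ b⁻¹ = D.form a b := by
  have h : ∀ x y : D.W, D.form x⁻¹ y = -D.form x y := fun x y => by
    have := D.form_mul_left x⁻¹ x y
    rw [inv_mul_cancel, D.form_one_left] at this
    exact eq_neg_of_add_eq_zero_left this.symm
  rw [h, D.form_swap, h, D.form_swap a b]; ring

theorem form_act {g : G} (hg : g ∈ D.nm) (hz : g * D.z * g⁻¹ = D.z) (a b : D.W) :
    D.form (D.act g a) (D.act g b) = D.form a b := by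
  conv_lhs => rw [← D.cls_rep a, ← D.cls_rep b]
  rw [D.act_cls hg (D.rep_mem a), D.act_cls hg (D.rep_mem b),
    D.form_cls (D.conj_mem hg (D.rep_mem a)) (D.conj_mem hg (D.rep_mem b)),
    D.br_conj hg hz (D.rep_mem a) (D.rep_mem b)]
  rfl

theorem form_act_neg {g : G} (hg : g ∈ D.nm) (hz : g * D.z * g⁻¹ = D.z⁻¹) (a b : D.W) :
    D.form (D.act g a) (D.act g b) = -D.form a b := by
  conv_lhs => rw [← D.cls_rep a, ← D.cls_rep b]
  rw [D.act_cls hg (D.rep_mem a), D.act_cls hg (D.rep_mem b),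
    D.form_cls (D.conj_mem hg (D.rep_mem a)) (D.conj_mem hg (D.rep_mem b)),
    D.br_conj_neg hg hz (D.rep_mem a) (D.rep_mem b)]
  rfl

theorem exists_form_ne : ∃ a b : D.W, D.form a b ≠ 0 := by
  obtain ⟨x, hx, y, hy, h⟩ := D.exists_br_ne
  exact ⟨D.cls x, D.cls y, by rwa [D.form_cls hx hy]⟩

theorem exists_ne_one : ∃ u : D.W, u ≠ 1 := by
  obtain ⟨a, b, h⟩ := D.exists_form_ne
  exact ⟨a, fun e => h (by rw [e, D.form_one_left])⟩

/-- A similitude reversing the form is not scalar. -/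
theorem not_scalar {g : G} (hg : g ∈ D.nm) (hz : g * D.z * g⁻¹ = D.z⁻¹) :
    ¬ (D.Triv g ∨ D.Invert g) := by
  intro h
  obtain ⟨a, b, hne⟩ := D.exists_form_ne
  have h1 := D.form_act_neg hg hz a b
  have h2 : D.form a b = -D.form a b := by
    rcases h with h | h
    · rwa [h a, h b] at h1
    · rwa [h a, h b, D.form_inv_inv] at h1
  have key : ∀ x : ZMod 3, x = -x → x = 0 := by decide
  exact hne (key _ h2)

variable {D} {f : G} [Finite G]

theorem Five.form_ev (hf : D.Five f) (u : D.W) (c d : V4) :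
    D.form (D.ev f u c) (D.ev f u d) =
      V4.bf (D.form u (D.act f u)) (D.form u (D.act f (D.act f u))) c d := by
  obtain ⟨u1, h1⟩ : ∃ w, w = D.act f u := ⟨_, rfl⟩
  obtain ⟨u2, h2⟩ : ∃ w, w = D.act f u1 := ⟨_, rfl⟩
  obtain ⟨u3, h3⟩ : ∃ w, w = D.act f u2 := ⟨_, rfl⟩
  have hI := D.form_act hf.mem hf.fix_z
  have e12 : D.form u1 u2 = D.form u u1 := by
    have := hI u u1
    rwa [← h1, ← h2] at this
  have e23 : D.form u2 u3 = D.form u u1 := by
    have := hI u1 u2
    rwa [← h2, ← h3, e12] at this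
  have e13 : D.form u1 u3 = D.form u u2 := by
    have := hI u u2
    rwa [← h1, ← h3] at this
  have e03 : D.form u u3 = -D.form u u2 := by
    have h5 : D.act f (D.act f u3) = u := by rw [h3, h2, h1]; exact D.act_five hf.mem hf.five u
    have := (hI (D.act f u) (D.act f u3)).trans (hI u u3)
    rw [← h1, ← h2, h5] at this
    rw [← this, D.form_swap]
  simp only [ev, ← h1, ← h2, ← h3, D.form_mul_left, D.form_mul_right, D.form_pw_left, D.form_pw_right,
    D.form_self, D.form_swap u u1, D.form_swap u u2, D.form_swap u u3, D.form_swap u1 u2, D.form_swap u1 u3,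
    D.form_swap u2 u3, e12, e23, e13, e03, V4.bf]
  ring

theorem Five.ev_mv (hf : D.Five f) {g : G} (u : D.W) (m : V4)
    (hc : ∀ w, D.act g (D.act f w) = D.act f (D.act g w)) (hm : D.act g u = D.ev f u m) (c : V4) :
    D.act g (D.ev f u c) = D.ev f u (V4.mv c m) := by
  simp only [V4.mv, D.ev_add, D.ev_sm, ← hf.ev_S, ← hm]
  simp only [ev, map_mul, D.act_pw, hc]

theorem Five.ev_tv (hf : D.Five f) {g : G} (u : D.W) (m : V4)
    (hc : ∀ w, D.act g (D.act f w) = D.act f (D.act f (D.act g w))) (hm : D.act g u = D.ev f u m) (c : V4) :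
    D.act g (D.ev f u c) = D.ev f u (V4.tv c m) := by
  simp only [V4.tv, D.ev_add, D.ev_sm, ← hf.ev_S, ← hm]
  simp only [ev, map_mul, D.act_pw, hc]

/-- An isometry commuting with an element of order five is one of its powers up to sign. -/
theorem Five.cent (hf : D.Five f) {g : G} (hg : g ∈ D.nm) (hz : g * D.z * g⁻¹ = D.z)
    (hc : ∀ w, D.act g (D.act f w) = D.act f (D.act g w)) :
    ∃ k < 5, (∀ w, D.act g w = (D.act f)^[k] w) ∨ (∀ w, D.act g w = ((D.act f)^[k] w)⁻¹) := by
  obtain ⟨u, hu⟩ := D.exists_ne_one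
  have hb := hf.ev_bij hu
  obtain ⟨m, hm⟩ := hb.2 (D.act g u)
  have hev := hf.ev_mv u m hc hm.symm
  have e1 : ∀ c, D.form (D.ev f u m) (D.act g (D.ev f u c)) = D.form u (D.ev f u c) := fun c => by
    rw [hm, D.form_act hg hz]
  have h1 := e1 (V4.S V4.e0)
  have h2 := e1 (V4.S (V4.S V4.e0))
  have hS : D.act g (D.ev f u (V4.S V4.e0)) = D.ev f u (V4.S m) := by
    rw [← hf.ev_S, hc, D.ev_e0, ← hf.ev_S, hm]
  have hSS : D.act g (D.ev f u (V4.S (V4.S V4.e0))) = D.ev f u (V4.S (V4.S m)) := by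
    rw [← hf.ev_S, hc, hS, hf.ev_S]
  rw [hS, hf.form_ev, ← hf.ev_S, D.ev_e0] at h1
  rw [hSS, hf.form_ev, ← hf.ev_S, ← hf.ev_S, D.ev_e0] at h2
  rcases V4.cent_ok m _ _ h1 h2 with ⟨ha, hb'⟩ | hmem
  · exfalso
    obtain ⟨a, b, hne⟩ := D.exists_form_ne
    obtain ⟨ca, rfl⟩ := hb.2 a
    obtain ⟨cb, rfl⟩ := hb.2 b
    rw [hf.form_ev, ha, hb'] at hne
    exact hne (by simp [V4.bf])
  have key : ∀ k : ℕ, (m = V4.S^[k] V4.e0 → ∀ w, D.act g w = (D.act f)^[k] w) ∧
      (m = -(V4.S^[k] V4.e0) → ∀ w, D.act g w = ((D.act f)^[k] w)⁻¹) := by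
    intro k
    have hk : ∀ c, D.ev f u (V4.S^[k] c) = (D.act f)^[k] (D.ev f u c) := by
      intro c
      induction k with
      | zero => rfl
      | succ k ih => rw [Function.iterate_succ_apply', Function.iterate_succ_apply', ← ih, hf.ev_S]
    have hsd : ∀ a c, V4.sm a (V4.S c) = V4.S (V4.sm a c) := by decide +kernel
    have hadd : ∀ a c : V4, V4.S (a + c) = V4.S a + V4.S c := by decide +kernel
    have hiter : ∀ c j, V4.mv c (V4.S^[j] V4.e0) = V4.S^[j] c := by
      intro c j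
      induction j with
      | zero => exact (show ∀ c, V4.mv c V4.e0 = c by decide +kernel) c
      | succ j ih =>
        rw [Function.iterate_succ_apply', Function.iterate_succ_apply', ← ih]
        simp only [V4.mv, hadd, hsd]
    have hneg : ∀ c x, V4.mv c (-x) = -(V4.mv c x) := by decide +kernel
    refine ⟨fun e w => ?_, fun e w => ?_⟩
    · obtain ⟨c, rfl⟩ := hb.2 w
      rw [hev, e, hiter, hk]
    · obtain ⟨c, rfl⟩ := hb.2 w
      rw [hev, e, hneg, hiter, D.ev_neg, hk]
  simp only [V4.cands, List.mem_cons, List.not_mem_nil, or_false] at hmem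
  rcases hmem with e | e | e | e | e | e | e | e | e | e
  · exact ⟨0, by norm_num, Or.inl ((key 0).1 e)⟩
  · exact ⟨0, by norm_num, Or.inr ((key 0).2 e)⟩
  · exact ⟨1, by norm_num, Or.inl ((key 1).1 e)⟩
  · exact ⟨1, by norm_num, Or.inr ((key 1).2 e)⟩
  · exact ⟨2, by norm_num, Or.inl ((key 2).1 e)⟩
  · exact ⟨2, by norm_num, Or.inr ((key 2).2 e)⟩
  · exact ⟨3, by norm_num, Or.inl ((key 3).1 e)⟩
  · exact ⟨3, by norm_num, Or.inr ((key 3).2 e)⟩
  · exact ⟨4, by norm_num, Or.inl ((key 4).1 e)⟩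
  · exact ⟨4, by norm_num, Or.inr ((key 4).2 e)⟩

/-- An operator of square one commuting with an element of order five is `±1`. -/
theorem Five.sq (hf : D.Five f) {g : G} (hc : ∀ w, D.act g (D.act f w) = D.act f (D.act g w))
    (h2 : ∀ w, D.act g (D.act g w) = w) : D.Triv g ∨ D.Invert g := by
  obtain ⟨u, hu⟩ := D.exists_ne_one
  have hb := hf.ev_bij hu
  obtain ⟨m, hm⟩ := hb.2 (D.act g u)
  have hev := hf.ev_mv u m hc hm.symm
  have h := h2 u
  rw [← hm, hev] at h
  conv_rhs at h => rw [← D.ev_e0 f u]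
  have h0 : ∀ c, V4.mv c V4.e0 = c ∧ V4.mv c (-V4.e0) = -c := by decide +kernel
  rcases V4.sq_ok m (hb.1 h) with e | e
  · refine Or.inl fun w => ?_
    obtain ⟨c, rfl⟩ := hb.2 w
    rw [hev, e, (h0 c).1]
  · refine Or.inr fun w => ?_
    obtain ⟨c, rfl⟩ := hb.2 w
    rw [hev, e, (h0 c).2, D.ev_neg]

/-- A square root of `-1` centralising an element of order five is negated by an element squaring it. -/
theorem Five.neg (hf : D.Five f) {i g : G} (hi : ∀ w, D.act i (D.act f w) = D.act f (D.act i w))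
    (hi2 : ∀ w, D.act i (D.act i w) = w⁻¹)
    (hg : ∀ w, D.act g (D.act f w) = D.act f (D.act f (D.act g w))) (w : D.W) :
    D.act g (D.act i w) = (D.act i (D.act g w))⁻¹ := by
  by_cases hw : w = 1
  · subst hw; simp
  have hb := hf.ev_bij hw
  obtain ⟨n, hn⟩ := hb.2 (D.act i w)
  obtain ⟨m, hm⟩ := hb.2 (D.act g w)
  have h := hi2 w
  rw [← hn, hf.ev_mv w n hi hn.symm] at h
  conv_rhs at h => rw [← D.ev_e0 f w, ← D.ev_neg]
  rw [← hn, hf.ev_tv w m hg hm.symm, ← hm, hf.ev_mv w n hi hn.symm, V4.neg_ok n (hb.1 h), D.ev_neg]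

end SympData

end Cfsg.Agent.McLLoc
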