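import Mathlib

/-!
# A central element of order three outside the kernel of a transfer
-/

set_option autoImplicit false

open Subgroup
open scoped IsMulCommutative commutatorElement

namespace Cfsg.Agent.McLLoc

/-- A central element of order three with abelian Sylow subgroups of order nine lies outside a
normal subgroup containing the commutators and the square roots of its members. -/
theorem exists_killer {H : Type*} [Group H] [Finite H] {z : H} (hc : ∀ h, Commute z h)
    (hz : orderOf z = 3) (h9 : 9 ∣ Nat.card H) (h27 : ¬ 27 ∣ Nat.card H) :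
    ∃ K : Subgroup H, K.Normal ∧ z ∉ K ∧ (∀ a b : H, ⁅a, b⁆ ∈ K) ∧ (∀ g : H, g * g ∈ K → g ∈ K) ∧
      K.index ∣ 9 := by
  classical
  haveI : Fact (Nat.Prime 3) := ⟨Nat.prime_three⟩
  let P : Sylow 3 H := default
  have hP : Nat.card (P : Subgroup H) = 3 ^ 2 := by
    rw [P.card_eq_multiplicity]
    congr 1
    refine le_antisymm ?_ ((Nat.prime_three.pow_dvd_iff_le_factorization Nat.card_pos.ne').1 h9)
    by_contra hlt
    exact h27 ((Nat.prime_three.pow_dvd_iff_le_factorization (k := 3) Nat.card_pos.ne').2 (by omega))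
  haveI : IsMulCommutative (P : Subgroup H) := IsPGroup.isMulCommutative_of_card_eq_prime_sq hP
  haveI : (zpowers z).Normal := ⟨fun a ha g => by
    obtain ⟨k, rfl⟩ := mem_zpowers_iff.1 ha
    rw [((hc g).zpow_left k).symm.eq, mul_inv_cancel_right]
    exact zpow_mem (mem_zpowers z) k⟩
  have hzP : z ∈ (P : Subgroup H) :=
    (IsPGroup.of_card (n := 1) (by rw [Nat.card_zpowers, hz, pow_one])).le_sylow_of_normal P (mem_zpowers z)
  let τ : H →* (P : Subgroup H) := MonoidHom.transfer (MonoidHom.id _)
  have hτz : τ z ≠ 1 := by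
    rw [show τ z = MonoidHom.transfer (MonoidHom.id (P : Subgroup H)) z from rfl,
      MonoidHom.transfer_eq_pow _ z fun k g0 _ => by
        rw [((hc g0).pow_left k).eq.symm |> fun e => show g0⁻¹ * z ^ k * g0 = z ^ k by
          rw [mul_assoc, ← e]; group]]
    intro h
    have h' : z ^ (P : Subgroup H).index = 1 := congrArg Subtype.val h
    have hd := orderOf_dvd_of_pow_eq_one h'
    rw [hz] at hd
    exact P.not_dvd_index hd
  refine ⟨τ.ker, inferInstance, fun h => hτz h, fun a b => ?_, fun g hg => ?_, ?_⟩
  · rw [MonoidHom.mem_ker, map_commutatorElement, commutatorElement_eq_one_iff_commute]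
    exact Commute.all _ _
  · rw [MonoidHom.mem_ker, map_mul] at hg
    rw [MonoidHom.mem_ker]
    have h1 : orderOf (τ g) ∣ 3 ^ 2 := by
      rw [← hP]; exact orderOf_dvd_natCard _
    have h2 : orderOf (τ g) ∣ 2 := orderOf_dvd_of_pow_eq_one (by rw [pow_two]; exact hg)
    exact orderOf_eq_one_iff.1 (Nat.eq_one_of_dvd_coprimes (by norm_num) h1 h2)
  · rw [index_ker]
    exact (card_subgroup_dvd_card τ.range).trans (by rw [hP]; norm_num)

end Cfsg.Agent.McLLoc
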