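import Cfsg.Agent.S2119
import Cfsg.Agent.A8ThreeLocal.Setup

/-!
Recognising the normalisers `(Sym(3) × Sym(5))⁺`, `Sym(3) × Sym(5)` and the dihedral automiser.
-/

set_option autoImplicit false

open Equiv Equiv.Perm Subgroup

namespace Cfsg.Agent.McLLoc.IsoTools

/-- A group of order six with an inverted element of order three. -/
theorem iso_perm_three {Y : Type*} [Group Y] [Finite Y] (h6 : Nat.card Y = 6) {x y : Y}
    (hx : x ^ 3 = 1) (hx1 : x ≠ 1) (hy : y * x * y⁻¹ = x⁻¹) : Nonempty (Y ≃* Perm (Fin 3)) := by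
  classical
  have hox : orderOf x = 3 := orderOf_eq_prime (by exact hx) hx1
  have hxx : x ≠ x⁻¹ := fun e => hx1 (by
    calc x = x ^ 3 * (x * x)⁻¹ := by group
      _ = 1 := by rw [hx]; nth_rw 1 [e]; group)
  have hyX : y ∉ zpowers x := fun hm => by
    obtain ⟨n, rfl⟩ := mem_zpowers_iff.1 hm
    exact hxx (by rw [← hy]; group)
  have hidx : (zpowers x).index = 2 := by
    have h := (zpowers x).card_mul_index
    rw [Nat.card_zpowers, hox, h6] at h
    omega
  have hyy : y * y = 1 := by
    have hm : y * y ∈ zpowers x := by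
      rw [Subgroup.mul_mem_iff_of_index_two hidx]
    obtain ⟨n, hn⟩ := mem_zpowers_iff.1 hm
    have h1 : y * (x ^ n) * y⁻¹ = (x⁻¹) ^ n := by rw [← conj_zpow, hy]
    rw [hn, show y * (y * y) * y⁻¹ = y * y by group, ← hn, inv_zpow] at h1
    calc y * y = x ^ n := hn.symm
      _ = (x ^ 3) ^ n * (x ^ n * x ^ n)⁻¹ := by rw [← zpow_natCast, ← zpow_mul]; group
      _ = 1 := by rw [hx, one_zpow, one_mul]; nth_rw 1 [h1]; group
  have hy1 : y ≠ 1 := fun e => hyX (e ▸ one_mem _)
  have hoy : orderOf y = 2 := orderOf_eq_prime (by rw [pow_two]; exact hyy) hy1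
  have h3 : Nat.card (Y ⧸ zpowers y) = 3 := by
    have h := (zpowers y).card_mul_index
    rw [Nat.card_zpowers, hoy, h6] at h
    show (zpowers y).index = 3
    omega
  let a := MulAction.toPermHom Y (Y ⧸ zpowers y)
  have hinj : Function.Injective a := by
    rw [← MonoidHom.ker_eq_bot_iff]
    show (MulAction.toPermHom Y (Y ⧸ zpowers y)).ker = ⊥
    rw [← Subgroup.normalCore_eq_ker]
    have hle := Subgroup.normalCore_le (zpowers y)
    rw [eq_bot_iff]
    intro g hg
    have hg' : g = 1 ∨ g = y := by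
      obtain ⟨n, rfl⟩ := mem_zpowers_iff.1 (hle hg)
      rcases Int.emod_two_eq_zero_or_one n with e | e
      · left; rw [← zpow_mod_orderOf y n, hoy]; simp [e]
      · right; rw [← zpow_mod_orderOf y n, hoy]; simp [e]
    rcases hg' with rfl | rfl
    · exact one_mem _
    · exfalso
      have hm := (Subgroup.normalCore_normal (zpowers g)).conj_mem g hg x
      obtain ⟨n, hn⟩ := mem_zpowers_iff.1 (hle hm)
      rcases Int.emod_two_eq_zero_or_one n with e | e
      · rw [← zpow_mod_orderOf g n, hoy] at hn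
        simp [e] at hn
        exact hy1 (conj_eq_one_iff.1 hn.symm)
      · rw [← zpow_mod_orderOf g n, hoy] at hn
        simp [e] at hn
        have h1 : g * x * g⁻¹ = x := by
          rw [eq_mul_inv_iff_mul_eq] at hn
          rw [mul_inv_eq_iff_eq_mul]
          exact hn
        exact hxx (h1.symm.trans hy)
  have e3 : Y ⧸ zpowers y ≃ Fin 3 := (Finite.equivFin _).trans (finCongr h3)
  refine ⟨MulEquiv.ofBijective (e3.permCongrHom.toMonoidHom.comp a)
    ((Nat.bijective_iff_injective_and_card _).2 ⟨e3.permCongrHom.injective.comp hinj, ?_⟩)⟩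
  rw [h6, Nat.card_perm, Nat.card_fin]
  rfl

variable {N : Type*} [Group N] [Finite N]

omit [Finite N] in
/-- The action on a normal alternating subgroup of degree five by permutations. -/
theorem exists_perm_five (A : Subgroup N) [A.Normal] (eA : A ≃* alternatingGroup (Fin 5)) :
    ∃ ρ : N →* Perm (Fin 5),
      (∀ g : N, g ∈ ρ.ker ↔ g ∈ centralizer (A : Set N)) ∧
      (∀ a : A, ρ (a : N) = ((eA a : alternatingGroup (Fin 5)) : Perm (Fin 5))) ∧
      ∀ g : N, sign (ρ g) = 1 → ∃ a : A, g * (a : N)⁻¹ ∈ centralizer (A : Set N) := by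
  have hb := S2119.result 5 (by norm_num) (by norm_num)
  let c := MulEquiv.ofBijective _ hb
  let ρ : N →* Perm (Fin 5) :=
    c.symm.toMonoidHom.comp ((MulAut.congr eA).toMonoidHom.comp MulAut.conjNormal)
  have key : ∀ (g : N) (a : A), ρ g * ((eA a : alternatingGroup (Fin 5)) : Perm (Fin 5)) * (ρ g)⁻¹ =
      ((eA (MulAut.conjNormal g a) : alternatingGroup (Fin 5)) : Perm (Fin 5)) := by
    intro g a
    have h1 : c (ρ g) = MulAut.congr eA (MulAut.conjNormal g) := c.apply_symm_apply _
    have h2 := congrArg (fun φ : MulAut (alternatingGroup (Fin 5)) =>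
      ((φ (eA a) : alternatingGroup (Fin 5)) : Perm (Fin 5))) h1
    simpa [c, MulAut.conjNormal_apply] using h2
  have hA : ∀ a : A, ρ (a : N) = ((eA a : alternatingGroup (Fin 5)) : Perm (Fin 5)) := by
    intro a
    refine hb.1 (MulEquiv.ext fun b => Subtype.ext ?_)
    obtain ⟨b', rfl⟩ := eA.surjective b
    rw [MulAut.conjNormal_apply, MulAut.conjNormal_apply, key,
      show MulAut.conjNormal (a : N) b' = a * b' * a⁻¹ from Subtype.ext (by simp [MulAut.conjNormal_apply])]
    simp
  have hk : ∀ g : N, g ∈ ρ.ker ↔ g ∈ centralizer (A : Set N) := by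
    intro g
    rw [MonoidHom.mem_ker, mem_centralizer_iff]
    constructor
    · intro h b hb'
      have h1 := key g ⟨b, hb'⟩
      rw [h, one_mul, inv_one, mul_one] at h1
      have h2 : g * b * g⁻¹ = b := by
        have := congrArg Subtype.val (eA.injective (Subtype.ext h1))
        rw [MulAut.conjNormal_apply] at this
        exact this.symm
      exact (mul_inv_eq_iff_eq_mul.1 h2).symm
    · intro h
      refine hb.1 (MulEquiv.ext fun b => Subtype.ext ?_)
      obtain ⟨b', rfl⟩ := eA.surjective b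
      rw [MulAut.conjNormal_apply, key, map_one, MulAut.one_apply,
        show MulAut.conjNormal g b' = b' from Subtype.ext (by
          rw [MulAut.conjNormal_apply, ← h b' b'.2, mul_inv_cancel_right])]
  refine ⟨ρ, hk, hA, fun g hg => ⟨eA.symm ⟨ρ g, mem_alternatingGroup.2 hg⟩, (hk _).1 ?_⟩⟩
  rw [MonoidHom.mem_ker, map_mul, map_inv, hA, MulEquiv.apply_symm_apply, mul_inv_cancel]

/-- The map onto the two factors. -/
theorem exists_pair (A S : Subgroup N) [A.Normal] [S.Normal] (eA : A ≃* alternatingGroup (Fin 5))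
    (hS : S.index = 6) (hSc : ∀ g ∈ S, g ∈ centralizer (A : Set N) → g = 1)
    {z g : N} (hz : z ^ 3 = 1) (hzS : z ∉ S) (hg : g * z * g⁻¹ = z⁻¹) :
    ∃ φ : N →* Perm (Fin 3) × Perm (Fin 5), Function.Injective φ ∧
      (∀ x : N, x ∈ S → (φ x).1 = 1) ∧ (φ z).1 ≠ 1 ∧
      (∀ x : N, (φ x).2 = 1 ↔ x ∈ centralizer (A : Set N)) ∧
      (∀ a : A, (φ (a : N)).2 = ((eA a : alternatingGroup (Fin 5)) : Perm (Fin 5))) ∧
      ∀ x : N, sign (φ x).2 = 1 → ∃ a : A, x * (a : N)⁻¹ ∈ centralizer (A : Set N) := by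
  obtain ⟨ρ, hk, hA, hev⟩ := exists_perm_five A eA
  obtain ⟨e⟩ := iso_perm_three (Y := N ⧸ S) (h6 := hS) (x := (z : N ⧸ S)) (y := (g : N ⧸ S))
    (by rw [← QuotientGroup.mk_pow, hz]; rfl) (fun h => hzS ((QuotientGroup.eq_one_iff _).1 h))
    (by rw [← QuotientGroup.mk_inv, ← QuotientGroup.mk_mul, ← QuotientGroup.mk_mul, hg, QuotientGroup.mk_inv])
  let φ : N →* Perm (Fin 3) × Perm (Fin 5) :=
    MonoidHom.prod (e.toMonoidHom.comp (QuotientGroup.mk' S)) ρ
  refine ⟨φ, (injective_iff_map_eq_one φ).2 fun x hx => ?_, fun x hx => ?_, ?_, fun x => hk x, hA,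
    fun x hx => hev x hx⟩
  · have h1 : e (x : N ⧸ S) = 1 := congrArg Prod.fst hx
    rw [← map_one e] at h1
    exact hSc x ((QuotientGroup.eq_one_iff _).1 (e.injective h1)) ((hk x).1 (congrArg Prod.snd hx))
  · show e (x : N ⧸ S) = 1
    rw [(QuotientGroup.eq_one_iff _).2 hx, map_one]
  · show e (z : N ⧸ S) ≠ 1
    intro h
    rw [← map_one e] at h
    exact hzS ((QuotientGroup.eq_one_iff _).1 (e.injective h))

/-- `Sym(3) × Sym(5)`. -/
theorem iso_prod (A S : Subgroup N) [A.Normal] [S.Normal] (eA : A ≃* alternatingGroup (Fin 5))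
    (hN : Nat.card N = 720) (hS : Nat.card S = 120)
    (hSc : ∀ g ∈ S, g ∈ centralizer (A : Set N) → g = 1)
    {z g : N} (hz : z ^ 3 = 1) (hzS : z ∉ S) (hg : g * z * g⁻¹ = z⁻¹) :
    Nonempty (N ≃* Perm (Fin 3) × Perm (Fin 5)) := by
  have h6 : S.index = 6 := by
    have h := S.card_mul_index
    rw [hS, hN] at h
    omega
  obtain ⟨φ, hφ, -⟩ := exists_pair A S eA h6 hSc hz hzS hg
  refine ⟨MulEquiv.ofBijective φ ((Nat.bijective_iff_injective_and_card φ).2 ⟨hφ, ?_⟩)⟩
  rw [hN, Nat.card_prod, Nat.card_perm, Nat.card_perm, Nat.card_fin, Nat.card_fin]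
  rfl

/-- The even pairs in `Sym(3) × Sym(5)`. -/
theorem iso_even (A : Subgroup N) [A.Normal] (eA : A ≃* alternatingGroup (Fin 5))
    (hN : Nat.card N = 360) {z g : N} (hz : z ^ 3 = 1) (hz1 : z ≠ 1) (hg : g * z * g⁻¹ = z⁻¹)
    (hzc : z ∈ centralizer (A : Set N))
    (hout : ∀ x : N, x * z * x⁻¹ = z⁻¹ → x ∉ centralizer (A : Set N)) :
    Nonempty (N ≃* A8ThreeLocal.KK) := by
  classical
  have h60 : Nat.card A = 60 := by
    rw [Nat.card_congr eA.toEquiv, nat_card_alternatingGroup, Nat.card_fin]; rfl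
  have h6 : A.index = 6 := by
    have h := A.card_mul_index
    rw [h60, hN] at h
    omega
  have hAc : ∀ x ∈ A, x ∈ centralizer (A : Set N) → x = 1 := by
    intro x hx hxc
    obtain ⟨ρ, hk, hA, -⟩ := exists_perm_five A eA
    have h1 : ρ x = 1 := MonoidHom.mem_ker.1 ((hk x).2 hxc)
    rw [show x = ((⟨x, hx⟩ : A) : N) from rfl, hA] at h1
    exact congrArg Subtype.val (eA.injective (show eA ⟨x, hx⟩ = eA 1 from (Subtype.ext h1).trans (map_one eA).symm))
  have hzA : z ∉ A := fun h => hz1 (hAc z h hzc)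
  obtain ⟨φ, hφ, hφS, hφz, hφk, hφA, hev⟩ := exists_pair A A eA h6 hAc hz hzA hg
  -- the two signs agree
  let u : N →* ℤˣ := sign.comp ((MonoidHom.fst _ _).comp φ)
  let v : N →* ℤˣ := sign.comp ((MonoidHom.snd _ _).comp φ)
  have hgens : ∀ x : N, u x = v x := by
    have huA : ∀ a : A, u (a : N) = v (a : N) := fun a => by
      show sign (φ (a : N)).1 = sign (φ (a : N)).2
      rw [hφS _ a.2, map_one, hφA, mem_alternatingGroup.1 (eA a).2]
    have huz : u z = 1 ∧ v z = 1 := by
      constructor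
      · rcases Int.units_eq_one_or (u z) with h | h
        · exact h
        · have := congrArg u hz
          rw [map_pow, h, map_one] at this
          exact absurd this (by decide)
      · show sign (φ z).2 = 1
        rw [(hφk z).2 hzc, map_one]
    have hcases : ∀ s : Perm (Fin 3), s ^ 3 = 1 → s ≠ 1 → ∀ p : Perm (Fin 3),
        (p = 1 ∨ p = s ∨ p = s⁻¹) ∨ p * s * p⁻¹ = s⁻¹ := by decide
    have hu : ∀ p : Perm (Fin 3), ∀ s : Perm (Fin 3), s ^ 3 = 1 → s ≠ 1 → p * s * p⁻¹ = s⁻¹ →
        sign p = -1 := by decide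
    have hz3 : (φ z).1 ^ 3 = 1 := by
      have := congrArg (fun y => (φ y).1) hz
      simpa using this
    intro x
    rcases hcases _ hz3 hφz (φ x).1 with h | h
    · -- `x` lies in `<z> A`
      have hx : ∃ k : N, (u k = v k) ∧ (φ (x * k⁻¹)).1 = 1 := by
        rcases h with h | h | h
        · exact ⟨1, by rw [map_one, map_one], by simp [h]⟩
        · exact ⟨z, by rw [huz.1, huz.2], by simp [h]⟩
        · exact ⟨z⁻¹, by rw [map_inv, map_inv, huz.1, huz.2], by simp [h]⟩
      obtain ⟨k, hk, hxk⟩ := hx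
      have hm : x * k⁻¹ ∈ A := by
        by_contra hA'
        have hker : (x * k⁻¹) ∈ ((MonoidHom.fst _ _).comp φ).ker := hxk
        have hkc : Nat.card ((MonoidHom.fst _ _).comp φ).ker = Nat.card A := by
          have hle : A ≤ ((MonoidHom.fst _ _).comp φ).ker := fun a ha => hφS a ha
          have h2 : ((MonoidHom.fst _ _).comp φ).ker.index = 6 := by
            rw [Subgroup.index_ker]
            have hr : (((MonoidHom.fst _ _).comp φ)).range = ⊤ := by
              by_contra hne
              have hgr : (φ g).1 * (φ z).1 * ((φ g).1)⁻¹ = ((φ z).1)⁻¹ := by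
                have := congrArg (fun y => (φ y).1) hg
                simpa using this
              have hall : ∀ s : Perm (Fin 3), s ^ 3 = 1 → s ≠ 1 → ∀ p : Perm (Fin 3), p * s * p⁻¹ = s⁻¹ →
                  ∀ r : Perm (Fin 3), r = 1 ∨ r = s ∨ r = s⁻¹ ∨ r = p ∨ r = p * s ∨ r = p * s⁻¹ := by decide
              refine hne (eq_top_iff.2 fun r _ => ?_)
              rcases hall _ hz3 hφz _ hgr r with e | e | e | e | e | e
              · exact e ▸ one_mem _
              · exact ⟨z, e.symm⟩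
              · exact ⟨z⁻¹, by simp [e]⟩
              · exact ⟨g, e.symm⟩
              · exact ⟨g * z, by simp [e]⟩
              · exact ⟨g * z⁻¹, by simp [e]⟩
            rw [hr, Subgroup.card_top, Nat.card_perm, Nat.card_fin]
            rfl
          have h3 := ((MonoidHom.fst _ _).comp φ).ker.card_mul_index
          rw [h2, ← A.card_mul_index, h6] at h3
          omega
        exact hA' ((Subgroup.eq_of_le_of_card_ge (fun a ha => hφS a ha) hkc.le) ▸ hker)
      have := huA ⟨_, hm⟩
      simp only [map_mul, map_inv, hk] at this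
      exact mul_right_cancel this
    · -- `x` inverts `z`
      have h1 : u x = -1 := hu _ _ hz3 hφz h
      have h2 : v x = -1 := by
        rcases Int.units_eq_one_or (v x) with h2 | h2
        · exfalso
          obtain ⟨a, ha⟩ := hev x h2
          refine hout (x * (a : N)⁻¹) (hφ ?_) ha
          refine Prod.ext ?_ ?_
          · simp only [map_mul, map_inv, Prod.fst_mul, Prod.fst_inv, hφS _ a.2, inv_one, mul_one]
            exact h
          · simp only [map_mul, map_inv, Prod.snd_mul, Prod.snd_inv, (hφk z).2 hzc]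
            simp
        · exact h2
      rw [h1, h2]
  let ψ : N →* A8ThreeLocal.KK := φ.codRestrict A8ThreeLocal.KK fun x => by
    rw [A8ThreeLocal.mem_KK]
    exact hgens x
  refine ⟨MulEquiv.ofBijective ψ ((Nat.bijective_iff_injective_and_card ψ).2
    ⟨fun a b h => hφ (congrArg Subtype.val h), ?_⟩)⟩
  rw [hN, Nat.card_eq_fintype_card]
  decide +kernel

/-- A group of order eight with two non-commuting involutions is dihedral. -/
theorem iso_dihedral {Y : Type*} [Group Y] [Finite Y] (h8 : Nat.card Y = 8) {a b : Y}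
    (ha : a * a = 1) (hb : b * b = 1) (hab : a * b ≠ b * a) : Nonempty (Y ≃* DihedralGroup 4) := by
  classical
  set d := a * b with hd
  have had : a * d * a⁻¹ = d⁻¹ := by
    rw [hd, mul_inv_rev, inv_eq_of_mul_eq_one_right ha, inv_eq_of_mul_eq_one_right hb]
    rw [← mul_assoc, ha, one_mul]
  have hd2 : d ^ 2 ≠ 1 := fun e => hab (by
    have : d = d⁻¹ := eq_inv_of_mul_eq_one_left (by rw [← pow_two]; exact e)
    rw [hd, mul_inv_rev, inv_eq_of_mul_eq_one_right ha, inv_eq_of_mul_eq_one_right hb] at this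
    exact this)
  have hd4 : d ^ 4 = 1 := by
    have hdvd : orderOf d ∣ 2 ^ 3 := by
      rw [show (2 : ℕ) ^ 3 = Nat.card Y by rw [h8]; rfl]
      exact orderOf_dvd_natCard d
    obtain ⟨k, hk, hk'⟩ := (Nat.dvd_prime_pow Nat.prime_two).1 hdvd
    by_cases hk3 : k = 3
    · exfalso
      subst hk3
      have htop : zpowers d = ⊤ := Subgroup.eq_top_of_card_eq _ (by rw [Nat.card_zpowers, hk', h8]; rfl)
      obtain ⟨n, hn⟩ := mem_zpowers_iff.1 (show a ∈ zpowers d from htop ▸ mem_top _)
      have : a * d * a⁻¹ = d := by rw [← hn]; group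
      rw [had] at this
      exact hd2 (by rw [pow_two]; nth_rw 1 [← this]; exact inv_mul_cancel d)
    · rw [← orderOf_dvd_iff_pow_eq_one, hk', show 4 = 2 ^ 2 by norm_num]
      exact pow_dvd_pow 2 (by omega)
  have hout : ∀ n : ℕ, a ≠ d ^ n := fun n e => by
    have : a * d * a⁻¹ = d := by rw [e]; group
    rw [had] at this
    exact hd2 (by rw [pow_two]; nth_rw 1 [← this]; exact inv_mul_cancel d)
  let e : ZMod 4 → Y := fun i => d ^ i.val
  have he : ∀ i j : ZMod 4, e (i + j) = e i * e j := fun i j => by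
    show d ^ (i + j).val = d ^ i.val * d ^ j.val
    rw [← pow_add, ZMod.val_add, ← pow_eq_pow_mod _ hd4]
  have e0 : e 0 = 1 := pow_zero _
  have hneg : ∀ i, (e i)⁻¹ = e (-i) := fun i =>
    inv_eq_of_mul_eq_one_right (by rw [← he, add_neg_cancel, e0])
  have hai : a⁻¹ = a := inv_eq_of_mul_eq_one_right ha
  have hcomm : ∀ i, a * e i * a = e (-i) := fun i => by
    rw [← hneg]
    show a * d ^ i.val * a = (d ^ i.val)⁻¹
    nth_rw 2 [← hai]
    rw [← conj_pow, had, inv_pow]
  have hea : ∀ i, e i * a = a * e (-i) := fun i => by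
    rw [← hcomm, ← mul_assoc, ← mul_assoc, ha, one_mul]
  let f : DihedralGroup 4 → Y := fun x => match x with
    | .r i => e i
    | .sr i => a * e i
  let φ : DihedralGroup 4 →* Y := MonoidHom.mk' f (by
    rintro (i | i) (j | j)
    · exact he i j
    · show a * e (j - i) = e i * (a * e j)
      rw [← mul_assoc, hea, mul_assoc, ← he, neg_add_eq_sub]
    · show a * e (i + j) = a * e i * e j
      rw [he, mul_assoc]
    · show e (j - i) = a * e i * (a * e j)
      rw [← mul_assoc, hcomm, ← he, neg_add_eq_sub])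
  refine ⟨(MulEquiv.ofBijective φ ((Nat.bijective_iff_injective_and_card φ).2
    ⟨(injective_iff_map_eq_one φ).2 fun x hx => ?_, by rw [h8, DihedralGroup.nat_card]⟩)).symm⟩
  rcases x with i | i
  · have hx' : d ^ i.val = 1 := hx
    have : Fact (Nat.Prime 2) := ⟨Nat.prime_two⟩
    have hord : orderOf d = 4 := orderOf_eq_prime_pow (p := 2) (n := 1) (by simpa using hd2) (by simpa using hd4)
    have hdvd := orderOf_dvd_of_pow_eq_one hx'
    rw [hord] at hdvd
    have := ZMod.val_lt i
    have h0 : i.val = 0 := by omega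
    rw [(ZMod.val_eq_zero i).1 h0]
    rfl
  · have hx' : a * e i = 1 := hx
    exact absurd ((eq_inv_of_mul_eq_one_left hx').trans (hneg i)) (hout _)

end Cfsg.Agent.McLLoc.IsoTools
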