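import Cfsg.Agent.McLLoc.CentZCommon
import Cfsg.Agent.McLLoc.IsoTools

/-!
# The two cases for the centraliser of `Z`
-/

set_option autoImplicit false
set_option maxRecDepth 20000

open Equiv Subgroup
open scoped commutatorElement

namespace Cfsg.Agent.McLLoc

theorem alt5_cent : ∀ x y : alternatingGroup (Fin 5), x ^ 3 = 1 → x ≠ 1 → y * x = x * y →
    y = 1 ∨ y = x ∨ y = x * x := by decide +kernel

theorem alt5_invert : ∀ x : alternatingGroup (Fin 5), x ^ 3 = 1 → x ≠ 1 →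
    ∃ y : alternatingGroup (Fin 5), y * y = 1 ∧ y * x * y⁻¹ = x⁻¹ := by decide +kernel

theorem perm5_cent : ∀ x : Perm (Fin 5), x ^ 3 = 1 → x ≠ 1 →
    (Finset.univ.filter fun y : Perm (Fin 5) => y * x = x * y).card = 6 := by decide +kernel

theorem zmod3_sq : ∀ a b : ZMod 3, a * a - b * b = -1 → a * b + a * b = 0 → a = 0 ∧ (b = 1 ∨ b = -1) := by
  decide

theorem zmod3_norm : ∀ a b : ZMod 3, a * a + b * b = 0 → a = 0 ∧ b = 0 := by decide

namespace Facts

variable {G : Type*} [Group G] [Finite G] {s : Setting G} {f : Frame s}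

theorem caseA (F : Facts f) (hA : CQ f ≤ EQ f) : CaseA f := by
  have hCE : CQ f = EQ f := le_antisymm hA F.E_le_cent
  have hcardC : Nat.card (CQ f) = 180 := by rw [hCE, F.card_E]
  obtain ⟨eA, hdec⟩ := F.exists_eA
  have h60 : Nat.card (AQ f) = 60 := by
    rw [Nat.card_congr eA.toEquiv, nat_card_alternatingGroup, Nat.card_fin]; rfl
  refine ⟨?_, ?_, ?_, ?_⟩
  · refine le_antisymm (fun g hg => ?_) F.L_le_centZ
    obtain ⟨q, hq, hgX, hC, hiff⟩ := F.mem_L_of hg
    exact hiff.1 (hA hC)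
  · refine iso_times (H := CQ f) (z := ⟨f.zq, mem_centralizer_singleton_iff.2 rfl⟩)
      (by rw [← orderOf_coe]; exact F.zq_ord)
      (fun h => Subtype.ext (mem_centralizer_singleton_iff.1 h.2).symm) ((AQ f).subgroupOf (CQ f)) ?_ ?_
      ((subgroupOfEquivOfLe (F.A_le_E.trans F.E_le_cent)).trans eA)
    · intro x hx hxz
      refine Subtype.ext (F.A_disjoint x hx ?_)
      obtain ⟨k, hk⟩ := mem_zpowers_iff.1 hxz
      exact ⟨k, by rw [← hk, coe_zpow]⟩
    · rw [Nat.card_congr (subgroupOfEquivOfLe (F.A_le_E.trans F.E_le_cent)).toEquiv, h60, hcardC]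
  · haveI : ((AQ f).subgroupOf (NQ f)).Normal := ⟨fun a ha g =>
      (mem_normalizer_iff.1 (F.norm_A g.2) _).1 ha⟩
    refine IsoTools.iso_even ((AQ f).subgroupOf (NQ f)) ((subgroupOfEquivOfLe F.A_le_N).trans eA)
      (by rw [F.card_N, hcardC]) (z := ⟨f.zq, C_le_N (mem_centralizer_singleton_iff.2 rfl)⟩)
      (g := ⟨f.cq, F.cq_memN⟩) (Subtype.ext ?_) ?_ (Subtype.ext F.cq_inv) ?_ ?_
    · rw [coe_pow]
      have := pow_orderOf_eq_one f.zq
      rwa [F.zq_ord] at this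
    · intro h
      have := F.zq_ord
      rw [show f.zq = 1 from congrArg Subtype.val h, orderOf_one] at this
      omega
    · rw [mem_centralizer_iff]
      intro a ha
      exact Subtype.ext (mem_centralizer_singleton_iff.1 (F.E_le_cent (F.A_le_E ha)))
    · intro x hx hxc
      obtain ⟨g, hgx⟩ := QuotientGroup.mk'_surjective _ (x : f.Xq)
      have hgN := F.norm_of_proj (g := g) (by rw [show f.proj g = x from hgx]; exact x.2)
      have hcent : ∀ y ∈ AQ f, f.proj g * y = y * f.proj g := fun y hy => by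
        rw [show f.proj g = x from hgx]
        exact (congrArg Subtype.val (mem_centralizer_iff.1 hxc ⟨y, F.A_le_N hy⟩ hy)).symm
      have hxz : (x : f.Xq) * f.zq * (x : f.Xq)⁻¹ = f.zq⁻¹ := congrArg Subtype.val hx
      have hgz : (g : G) * f.z * (g : G)⁻¹ = f.z⁻¹ := (F.conj_z hgN).resolve_left fun e => by
        have h1 := mem_centralizer_singleton_iff.1 (F.mem_cent_iff.2 e)
        rw [show f.proj g = x from hgx] at h1
        rw [h1, mul_inv_cancel_right] at hxz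
        exact F.zq_ne_inv hxz
      let cg : f.X := ⟨f.c, f.c_memX⟩ * g⁻¹
      have hcg : f.proj cg ∈ EQ f := hA (F.mem_cent_iff.2 (by
        show f.c * (g : G)⁻¹ * f.z * (f.c * (g : G)⁻¹)⁻¹ = f.z
        have hgi : (g : G)⁻¹ * f.z * g = f.z⁻¹ := by
          calc (g : G)⁻¹ * f.z * g = (g : G)⁻¹ * ((g : G) * f.z * (g : G)⁻¹)⁻¹ * g := by rw [hgz, inv_inv]
            _ = f.z⁻¹ := by group
        rw [show f.c * (g : G)⁻¹ * f.z * (f.c * (g : G)⁻¹)⁻¹ = f.c * ((g : G)⁻¹ * f.z * g) * f.c⁻¹ by group,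
          hgi, ← conj_inv, f.c_z, inv_inv]))
      exact F.no_inner hgN hgz hcent (F.L_of_mem_E hcg) (by
        show f.c = f.c * (g : G)⁻¹ * g
        rw [inv_mul_cancel_right])
  · rw [F.cent_WQ]
    refine le_antisymm (fun x hx => ?_) ?_
    · obtain ⟨ψ, hs, hk⟩ := F.exists_psi
      have hxE := hA hx.1
      have h1 : ψ ⟨x, hxE⟩ * ψ ⟨f.z'q, F.z'q_memE⟩ = ψ ⟨f.z'q, F.z'q_memE⟩ * ψ ⟨x, hxE⟩ := by
        rw [← map_mul, ← map_mul]
        exact congrArg ψ (Subtype.ext (mem_centralizer_singleton_iff.1 hx.2))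
      have h2 : ψ ⟨f.z'q, F.z'q_memE⟩ ^ 3 = 1 := by
        rw [← map_pow]
        convert map_one ψ
        exact Subtype.ext F.z'q_cube
      have hW : ∀ y ∈ zpowers f.zq, y ∈ WQ f := fun y hy =>
        (zpowers_le.2 (subset_closure (Set.mem_insert _ _))) hy
      have hz' : f.z'q ∈ WQ f := subset_closure (Set.mem_insert_of_mem _ rfl)
      have fin : ∀ y : EQ f, ψ y = ψ ⟨x, hxE⟩ → (y : f.Xq) ∈ WQ f → x ∈ WQ f := fun y hy hyW => by
        have := hW _ ((hk (y⁻¹ * ⟨x, hxE⟩)).1 (by rw [map_mul, map_inv, hy, inv_mul_cancel]))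
        rw [coe_mul, coe_inv] at this
        have h3 := mul_mem hyW this
        rwa [mul_inv_cancel_left] at h3
      rcases alt5_cent _ _ h2 (fun h => F.z'q_notmem ((hk _).1 h)) h1 with e | e | e
      · exact fin 1 (by rw [map_one, e]) (one_mem _)
      · exact fin ⟨f.z'q, F.z'q_memE⟩ e.symm hz'
      · exact fin (⟨f.z'q, F.z'q_memE⟩ * ⟨f.z'q, F.z'q_memE⟩) (by rw [map_mul, e]) (mul_mem hz' hz')
    · rw [closure_le]
      rintro y (rfl | rfl)
      · exact ⟨mem_centralizer_singleton_iff.2 rfl, mem_centralizer_singleton_iff.2 F.zz'_comm⟩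
      · exact ⟨F.z'q_memC, mem_centralizer_singleton_iff.2 rfl⟩

theorem exists_neg (F : Facts f) {ι : f.Xq} (hι : ι * f.zq * ι⁻¹ = f.zq⁻¹)
    (hι2 : ι * ι = 1) (hιA : ∀ y ∈ AQ f, ι * y = y * ι) :
    ∃ h : G, orderOf h = 2 ∧ ∀ j ∈ s.J, h * j * h⁻¹ = j⁻¹ := by
  obtain ⟨eA, hdec⟩ := F.exists_eA
  obtain ⟨k, hk⟩ := hdec _ F.z'q_memE
  obtain ⟨α, hα⟩ : ∃ α, α = f.zq ^ k * f.z'q := ⟨_, rfl⟩
  rw [← hα] at hk
  have hcz : Commute f.z'q f.zq := F.zz'_comm.symm
  have hz3 : f.zq ^ (3 : ℕ) = 1 := by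
    have := pow_orderOf_eq_one f.zq
    rwa [F.zq_ord] at this
  have hα3 : α ^ 3 = 1 := by
    rw [hα, (hcz.zpow_right k).symm.mul_pow, F.z'q_cube, mul_one, ← zpow_natCast, ← zpow_mul, mul_comm,
      zpow_mul, zpow_natCast, hz3, one_zpow]
  have hα1 : α ≠ 1 := fun h => F.z'q_notmem ⟨-k, by
    show f.zq ^ (-k) = f.z'q
    rw [zpow_neg, inv_eq_iff_mul_eq_one, ← hα, h]⟩
  obtain ⟨y, hy2, hyα⟩ := alt5_invert (eA ⟨α, hk⟩) (by
    rw [← map_pow]
    convert map_one eA
    exact Subtype.ext hα3) (fun h => hα1 (by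
    rw [← map_one eA] at h
    exact congrArg Subtype.val (eA.injective h)))
  obtain ⟨e, he, hee, heα⟩ : ∃ e ∈ AQ f, e * e = 1 ∧ e * α * e⁻¹ = α⁻¹ := by
    refine ⟨eA.symm y, (eA.symm y).2, ?_, ?_⟩
    · rw [← coe_mul, ← map_mul, hy2, map_one]; rfl
    · have h1 : eA.symm y * ⟨α, hk⟩ * (eA.symm y)⁻¹ = (⟨α, hk⟩ : AQ f)⁻¹ := eA.injective (by
        rw [map_mul, map_mul, map_inv, map_inv, eA.apply_symm_apply]; exact hyα)
      exact congrArg Subtype.val h1
  have he1 : e ≠ 1 := fun h => by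
    rw [h, one_mul, inv_one, mul_one] at heα
    have h2 : α ^ 2 = 1 := by rw [pow_two]; nth_rewrite 1 [heα]; exact inv_mul_cancel _
    rw [pow_succ, h2, one_mul] at hα3
    exact hα1 hα3
  obtain ⟨g, rfl⟩ := QuotientGroup.mk'_surjective _ ι
  have heE := F.A_le_E he
  obtain ⟨l, hlL', rfl⟩ := heE
  have hlL : (l : G) ∈ s.L := hlL'
  have hez : f.proj l * f.zq * (f.proj l)⁻¹ = f.zq := by
    rw [show f.proj l * f.zq = f.zq * f.proj l from mem_centralizer_singleton_iff.1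
      (F.E_le_cent (F.mem_E_of hlL)), mul_inv_cancel_right]
  have hgN : (g : G) ∈ normalizer (s.Z : Set G) := F.norm_of_proj (g := g) (mem_normalizer_iff.2 fun x => by
    have key : ∀ {w : f.Xq}, w * f.zq * w⁻¹ = f.zq⁻¹ → ∀ x ∈ zpowers f.zq, w * x * w⁻¹ ∈ zpowers f.zq := by
      intro w hw x hx
      obtain ⟨j, rfl⟩ := mem_zpowers_iff.1 hx
      rw [← conj_zpow, hw]
      exact zpow_mem (inv_mem (mem_zpowers _)) j
    refine ⟨key hι x, fun hx => ?_⟩
    have hι' : (f.proj g)⁻¹ * f.zq * (f.proj g)⁻¹⁻¹ = f.zq⁻¹ := by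
      rw [inv_eq_of_mul_eq_one_right hι2]; exact hι
    have := key hι' _ hx
    rwa [show (f.proj g)⁻¹ * (f.proj g * x * (f.proj g)⁻¹) * (f.proj g)⁻¹⁻¹ = x by group] at this)
  have hgz : (g : G) * f.z * (g : G)⁻¹ = f.z⁻¹ := (F.conj_z hgN).resolve_left fun h => by
    have h1 := mem_centralizer_singleton_iff.1 (F.mem_cent_iff.2 h)
    rw [show (QuotientGroup.mk' f.T0) g * f.zq = f.zq * (QuotientGroup.mk' f.T0) g from h1,
      mul_inv_cancel_right] at hι
    exact F.zq_ne_inv hι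
  have hgc := F.act_comm hgN hιA
  have hgsq := F.sq_invert hgN hgz hιA
  have hgn := F.norm_le_nm hgN
  have hln := F.norm_le_nm (F.L_le_norm hlL)
  have hmul1 : ∀ a b : f.X, f.proj a * f.proj b = 1 → (a : G) * b = 1 ∨ (a : G) * b = f.t := by
    intro a b h
    rcases F.proj_eq' (a := 1) (b := a * b) (by rw [map_one, map_mul, h]) with e | e
    · exact Or.inl e
    · exact Or.inr (e.trans (one_mul _))
  obtain ⟨u1, hu1⟩ := F.data.exists_ne_one
  have hnoinv : ∀ w : F.data.W, w = w⁻¹ → w = 1 := fun w hw => by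
    have h3 := F.data.cube' w
    rwa [pow_succ, pow_two, show w * w = 1 by nth_rewrite 1 [hw]; exact inv_mul_cancel w, one_mul] at h3
  have hg2 : (g : G) * g = f.t := (hmul1 g g hι2).resolve_left fun h => hu1 (hnoinv _ (by
    rw [← hgsq u1, ← F.data.act_mul hgn hgn, h, F.data.act_one]))
  have hl2 : (l : G) * l = f.t := (hmul1 l l hee).resolve_left fun h => by
    obtain ⟨e5⟩ := s.hLq
    haveI := s.hQn
    have hQ : ∀ m : s.L, e5 (m : s.L ⧸ s.Q.subgroupOf s.L) = 1 ↔ (m : G) ∈ s.Q := fun m => by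
      rw [← map_one e5, e5.injective.eq_iff, QuotientGroup.eq_one_iff, mem_subgroupOf]
    let lL : s.L := ⟨l, hlL⟩
    let tL : s.L := ⟨f.t, f.t_memL⟩
    have hsq : e5 (lL : s.L ⧸ _) * e5 (lL : s.L ⧸ _) = 1 := by
      rw [← map_mul, ← QuotientGroup.mk_mul, hQ]
      show (l : G) * l ∈ s.Q
      rw [h]; exact one_mem _
    have ht : e5 (tL : s.L ⧸ _) = -1 := by
      refine (sl25_sq _ ?_).resolve_left fun h' => ?_
      · rw [← map_mul, ← QuotientGroup.mk_mul, hQ]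
        show f.t * f.t ∈ s.Q
        rw [F.t_sq]; exact one_mem _
      · have h1 := F.triv_Q ((hQ _).1 h') u1
        rw [show ((tL : s.L) : G) = f.t from rfl, F.act_t] at h1
        exact hu1 (hnoinv _ h1.symm)
    have hz : f.proj l ∈ zpowers f.zq := by
      rcases sl25_sq _ hsq with h1 | h1
      · exact F.proj_Q ((hQ lL).1 h1)
      · have h2 : (l : G) * f.t ∈ s.Q := (hQ (lL * tL)).1 (by
          rw [QuotientGroup.mk_mul, map_mul, h1, ht]; decide +kernel)
        have h3 := F.proj_Q (a := l * ⟨f.t, f.t_memX⟩) h2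
        rwa [map_mul, show f.proj ⟨f.t, f.t_memX⟩ = 1 from
          (QuotientGroup.eq_one_iff _).2 (mem_subgroupOf.2 (mem_zpowers _)), mul_one] at h3
    exact he1 (F.A_disjoint _ he hz)
  have hgl : (g : G) * l = l * g := by
    have h1 : f.proj (l * g) = f.proj (g * l) := by
      rw [map_mul, map_mul]; exact (hιA _ he).symm
    refine (F.proj_eq' h1).resolve_right fun h => hu1 (hnoinv _ ?_)
    rw [coe_mul, coe_mul] at h
    obtain ⟨v, hv⟩ : ∃ v, F.data.act ((l : G) * g) v = u1 :=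
      ⟨F.data.act ((l : G) * g)⁻¹ u1, by
        rw [← F.data.act_mul (mul_mem hln hgn) (inv_mem (mul_mem hln hgn)), mul_inv_cancel, F.data.act_one]⟩
    have h2 : F.data.act ((g : G) * l) v = F.data.act ((l : G) * g) v := by
      rw [F.data.act_mul hgn hln, F.data.act_mul hln hgn, hgc _ hlL]
    rw [h, F.data.act_mul (mul_mem hln hgn) (F.norm_le_nm (F.L_le_norm f.t_memL)), F.act_t, map_inv, hv] at h2
    exact h2.symm
  obtain ⟨h0, hh0⟩ : ∃ h0 : G, h0 = (g : G) * l := ⟨_, rfl⟩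
  have ht : f.t * f.t = 1 := F.t_sq
  have h02 : h0 * h0 = 1 := by
    rw [hh0]
    calc (g : G) * l * ((g : G) * l) = g * ((l : G) * g) * l := by group
      _ = g * ((g : G) * l) * l := by rw [hgl]
      _ = ((g : G) * g) * ((l : G) * l) := by group
      _ = 1 := by rw [hg2, hl2, ht]
  have h0z : h0 * f.z * h0⁻¹ = f.z⁻¹ := by
    rw [hh0, show (g : G) * l * f.z * ((g : G) * l)⁻¹ = g * ((l : G) * f.z * (l : G)⁻¹) * (g : G)⁻¹ by group,
      F.L_fix hlL, hgz]
  have h0q : f.proj g * f.proj l * f.z'q * (f.proj g * f.proj l)⁻¹ = f.z'q⁻¹ := by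
    have e1 : f.z'q = f.zq ^ (-k) * α := by rw [hα, zpow_neg, inv_mul_cancel_left]
    have hι' : f.proj g * α * (f.proj g)⁻¹ = α := by rw [hιA _ hk, mul_inv_cancel_right]
    have hι'' : f.proj g * f.zq * (f.proj g)⁻¹ = f.zq⁻¹ := hι
    rw [e1]
    calc f.proj g * f.proj l * (f.zq ^ (-k) * α) * (f.proj g * f.proj l)⁻¹
        = (f.proj g * (f.proj l * f.zq * (f.proj l)⁻¹) ^ (-k) * (f.proj g)⁻¹) *
          (f.proj g * (f.proj l * α * (f.proj l)⁻¹) * (f.proj g)⁻¹) := by rw [conj_zpow]; group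
      _ = (f.proj g * f.zq * (f.proj g)⁻¹) ^ (-k) * (f.proj g * α * (f.proj g)⁻¹)⁻¹ := by
          rw [hez, heα, conj_zpow]; group
      _ = (f.zq ^ (-k))⁻¹ * α⁻¹ := by rw [hι'', hι', inv_zpow]
      _ = (f.zq ^ (-k) * α)⁻¹ := by
          rw [mul_inv_rev]
          refine ((Commute.inv_inv ?_)).eq
          rw [hα]
          exact (Commute.zpow_zpow (Commute.refl _) (-k) k).mul_right (hcz.symm.zpow_left (-k))
  have hh0X : h0 ∈ f.X := hh0 ▸ mul_mem g.2 l.2
  have h0z' : h0 * f.z' * h0⁻¹ = f.z'⁻¹ := by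
    have hz'3 : f.z' ^ 3 = 1 := s.hJexp _ f.z'_mem
    have h1 := F.cube_unique (a := (⟨f.z', f.z'_memX⟩ : f.X)⁻¹) (b := g * l * ⟨f.z', f.z'_memX⟩ * (g * l)⁻¹)
      (by rw [coe_inv, inv_pow, hz'3, inv_one])
      (by rw [coe_mul, coe_mul, coe_inv, conj_pow, hz'3, mul_one, mul_inv_cancel])
      (by rw [map_inv, map_mul, map_mul, map_inv, map_mul]; exact h0q.symm)
    rw [hh0]
    exact h1
  -- the action on the fixed points of `z'`
  have hzn := F.norm_le_nm (F.L_le_norm F.z'_memL)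
  have hh0n : h0 ∈ F.data.nm := hh0 ▸ mul_mem hgn hln
  have haJ : ∀ x ∈ s.Q, x ∈ s.J → F.data.act f.z' (F.data.cls x) = F.data.cls x := by
    intro x hx hxJ
    rw [F.data.act_cls hzn hx]
    haveI := s.hJcomm
    congr 1
    rw [show f.z' * x = x * f.z' from congrArg Subtype.val (mul_comm' (⟨f.z', f.z'_mem⟩ : s.J) ⟨x, hxJ⟩),
      mul_inv_cancel_right]
  let U : Subgroup F.data.W :=
    { carrier := {w | F.data.act f.z' w = w}
      one_mem' := map_one _
      mul_mem' := fun {a b} ha hb => by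
        show F.data.act f.z' (a * b) = a * b
        rw [map_mul, ha, hb]
      inv_mem' := fun {a} ha => by
        show F.data.act f.z' a⁻¹ = a⁻¹
        rw [map_inv, ha] }
  have hUJ : ∀ x ∈ s.Q, F.data.cls x ∈ U → x ∈ s.J := by
    intro x hx hxU
    by_contra hJ
    refine F.aniso x hx hJ ?_
    have h1 : F.data.cls x = F.data.cls (f.z' * x * f.z'⁻¹) := by
      rw [← F.data.act_cls hzn hx]; exact hxU.symm
    have h2 := (F.data.cls_eq hx (F.data.conj_mem hzn hx)).1 h1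
    rw [commutatorElement_eq_one_iff_mul_comm]
    have h3 : ⁅f.z', x⁆ = x * (x⁻¹ * (f.z' * x * f.z'⁻¹)) * x⁻¹ := by
      rw [commutatorElement_def]; group
    rw [h3, ← F.data.commute_of_mem h2 hx, mul_inv_cancel_right]
    exact F.data.commute_of_mem h2 hx
  have hUcard : Nat.card U = 9 := by
    let φ : (s.Q ⊓ s.J : Subgroup G) →* F.data.W :=
      MonoidHom.mk' (fun x => F.data.cls x) fun a b => F.data.cls_mul a.2.1 b.2.1
    have hr : φ.range = U := by
      ext w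
      constructor
      · rintro ⟨x, rfl⟩
        exact haJ x x.2.1 x.2.2
      · intro hw
        obtain ⟨x, hx, rfl⟩ := F.data.cls_surj w
        exact ⟨⟨x, hx, hUJ x hx hw⟩, rfl⟩
    have hker : Nat.card φ.ker = 3 := by
      rw [← F.z_ord, ← Nat.card_zpowers]
      exact Nat.card_congr
        { toFun := fun x => ⟨((x : (s.Q ⊓ s.J : Subgroup G)) : G),
            (F.data.cls_eq_one x.1.2.1).1 x.2⟩
          invFun := fun x => ⟨⟨x, F.Z_le_QJ (f.hz.le x.2)⟩,
            (F.data.cls_eq_one ((F.Z_le_QJ (f.hz.le x.2)).1)).2 x.2⟩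
          left_inv := fun _ => rfl
          right_inv := fun _ => rfl }
    have h := φ.ker.card_mul_index
    rw [index_ker, hr, hker, F.card_QJ] at h
    omega
  obtain ⟨⟨u, huU⟩, hu⟩ : ∃ u : U, u ≠ 1 := by
    by_contra h
    push_neg at h
    haveI : Subsingleton U := ⟨fun a b => (h a).trans (h b).symm⟩
    rw [Nat.card_unique] at hUcard
    omega
  have hu0 : u ≠ 1 := fun h => hu (Subtype.ext h)
  obtain ⟨v, hv⟩ : ∃ v, v = F.data.act g u := ⟨_, rfl⟩
  have hgv : F.data.act g v = u⁻¹ := by rw [hv]; exact hgsq u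
  have hgU : ∀ w ∈ U, F.data.act g w ∈ U := fun w hw => by
    show F.data.act f.z' (F.data.act g w) = F.data.act g w
    rw [← hgc _ F.z'_memL, show F.data.act f.z' w = w from hw]
  have hvU : v ∈ U := hv ▸ hgU u huU
  have hlU : ∀ w ∈ U, F.data.act l w ∈ U := fun w hw => by
    have h1 : F.data.act h0 w ∈ U := by
      show F.data.act f.z' (F.data.act h0 w) = F.data.act h0 w
      have h2 : f.z' * h0 = h0 * f.z'⁻¹ := by
        have := congrArg (fun a => a⁻¹) h0z'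
        simp only [mul_inv_rev, inv_inv] at this
        rw [inv_eq_of_mul_eq_one_right h02] at this
        calc f.z' * h0 = h0 * (f.z'⁻¹ * h0) * h0 := by rw [this]
          _ = h0 * f.z'⁻¹ * (h0 * h0) := by group
          _ = h0 * f.z'⁻¹ := by rw [h02, mul_one]
      rw [← F.data.act_mul hzn hh0n, h2, F.data.act_mul hh0n (inv_mem hzn)]
      congr 1
      conv_lhs => rw [← show F.data.act f.z' w = w from hw]
      rw [F.data.act_inv_act hzn]
    have h3 := inv_mem (hgU _ h1)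
    rwa [hh0, F.data.act_mul hgn hln, hgsq, inv_inv] at h3
  have huniq : ∀ a b : ZMod 3, F.data.pw a u * F.data.pw b v = 1 → a = 0 ∧ b = 0 := by
    intro a b hab
    have hpm : ∀ (a b : ZMod 3) (w : F.data.W), F.data.pw a (F.data.pw b w) = F.data.pw (a * b) w :=
      fun a b w => by
        rw [SympData.pw, SympData.pw, SympData.pw, ← pow_mul, ZMod.val_mul, mul_comm b.val]
        exact pow_eq_pow_mod _ (F.data.cube' w)
    have hp : ∀ (a : ZMod 3) (x y : F.data.W), F.data.pw a (x * y) = F.data.pw a x * F.data.pw a y :=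
      fun a x y => by simp only [SympData.pw, mul_pow]
    have hpi : ∀ (a : ZMod 3) (x : F.data.W), F.data.pw a x⁻¹ = F.data.pw (-a) x := fun a x => by
      rw [F.data.pw_neg]; simp only [SympData.pw, inv_pow]
    have h1 := congrArg (F.data.pw a) hab
    have h2 := congrArg (F.data.act g) hab
    rw [map_mul, F.data.act_pw, F.data.act_pw, ← hv, hgv, map_one, hpi] at h2
    have h3 := congrArg (F.data.pw b) h2
    rw [hp, hpm, hpm] at h1 h3
    have h4 : F.data.pw (a * a + b * b) u = 1 := by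
      have h5 : F.data.pw (a * a) u * F.data.pw (a * b) v * (F.data.pw (b * a) v * F.data.pw (b * -b) u)⁻¹ = 1 := by
        rw [h1, h3]; simp [SympData.pw]
      rw [mul_inv_rev, ← mul_assoc, mul_comm b a, mul_neg, F.data.pw_neg, inv_inv] at h5
      rw [F.data.pw_add]
      calc F.data.pw (a * a) u * F.data.pw (b * b) u
          = F.data.pw (a * a) u * F.data.pw (a * b) v * F.data.pw (b * b) u * (F.data.pw (a * b) v)⁻¹ := by
            rw [mul_right_comm _ (F.data.pw (a * b) v), mul_inv_cancel_right]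
        _ = 1 := h5
    refine zmod3_norm a b ?_
    by_contra hne
    have key : ∀ c : ZMod 3, c ≠ 0 → c = 1 ∨ c = -1 := by decide
    rcases key _ hne with e | e <;> rw [e] at h4
    · exact hu0 (by rwa [F.data.pw_one] at h4)
    · rw [F.data.pw_neg, F.data.pw_one, inv_eq_one] at h4
      exact hu0 h4
  have hspan : ∀ w ∈ U, ∃ a b : ZMod 3, w = F.data.pw a u * F.data.pw b v := by
    let ψ : ZMod 3 × ZMod 3 → U := fun p =>
      ⟨F.data.pw p.1 u * F.data.pw p.2 v, mul_mem (pow_mem huU _) (pow_mem hvU _)⟩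
    have hinj : Function.Injective ψ := fun p q hpq => by
      have h1 : F.data.pw p.1 u * F.data.pw p.2 v = F.data.pw q.1 u * F.data.pw q.2 v := congrArg Subtype.val hpq
      have h2 := huniq (p.1 - q.1) (p.2 - q.2) (by
        rw [F.data.pw_sub, F.data.pw_sub]
        calc F.data.pw p.1 u * (F.data.pw q.1 u)⁻¹ * (F.data.pw p.2 v * (F.data.pw q.2 v)⁻¹)
            = F.data.pw p.1 u * F.data.pw p.2 v * (F.data.pw q.1 u * F.data.pw q.2 v)⁻¹ := by
              rw [mul_inv]; ac_rfl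
          _ = 1 := by rw [h1, mul_inv_cancel])
      exact Prod.ext (sub_eq_zero.1 h2.1) (sub_eq_zero.1 h2.2)
    have hb : Function.Bijective ψ := (Nat.bijective_iff_injective_and_card _).2 ⟨hinj, by
      rw [hUcard, Nat.card_prod, Nat.card_zmod]⟩
    intro w hw
    obtain ⟨p, hp⟩ := hb.2 ⟨w, hw⟩
    exact ⟨p.1, p.2, (congrArg Subtype.val hp).symm⟩
  obtain ⟨a, b, hab⟩ := hspan _ (hlU u huU)
  have hlv : F.data.act l v = F.data.pw a v * (F.data.pw b u)⁻¹ := by
    rw [hv, ← hgc _ hlL, hab, map_mul, F.data.act_pw, F.data.act_pw, ← hv, hgv, SympData.pw, SympData.pw,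
      SympData.pw, inv_pow]
  have hll : F.data.act l (F.data.act l u) = u⁻¹ := by
    rw [← F.data.act_mul hln hln, hl2]; exact F.act_t u
  rw [hab, map_mul, F.data.act_pw, F.data.act_pw, hab, hlv] at hll
  have hab2 := huniq (a * a - b * b + 1) (a * b + a * b) (by
    rw [F.data.pw_add, F.data.pw_sub, F.data.pw_add, F.data.pw_one]
    have hpm : ∀ (a b : ZMod 3) (w : F.data.W), F.data.pw (a * b) w = F.data.pw a (F.data.pw b w) :=
      fun a b w => by
        rw [SympData.pw, SympData.pw, SympData.pw, ← pow_mul, ZMod.val_mul, mul_comm b.val]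
        exact (pow_eq_pow_mod _ (F.data.cube' w)).symm
    have hp : ∀ (a : ZMod 3) (x y : F.data.W), F.data.pw a (x * y) = F.data.pw a x * F.data.pw a y :=
      fun a x y => by simp only [SympData.pw, mul_pow]
    rw [hpm a a, hpm b b]
    rw [hp, hp] at hll
    nth_rewrite 2 [mul_comm a b] at *
    rw [hpm a b, hpm b a]
    have hpi : F.data.pw b (F.data.pw b u)⁻¹ = (F.data.pw b (F.data.pw b u))⁻¹ := by
      simp only [SympData.pw, inv_pow]
    rw [hpi] at hll
    calc F.data.pw a (F.data.pw a u) * (F.data.pw b (F.data.pw b u))⁻¹ * u *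
          (F.data.pw a (F.data.pw b v) * F.data.pw b (F.data.pw a v))
        = (F.data.pw a (F.data.pw a u) * F.data.pw a (F.data.pw b v) *
          (F.data.pw b (F.data.pw a v) * (F.data.pw b (F.data.pw b u))⁻¹)) * u := by ac_rfl
      _ = 1 := by rw [hll, inv_mul_cancel])
  obtain ⟨ha0, hb1⟩ := zmod3_sq a b (eq_neg_of_add_eq_zero_left hab2.1) hab2.2
  subst ha0
  have h0u : F.data.act h0 u = F.data.pw (-b) u := by
    rw [hh0, F.data.act_mul hgn hln, hab, F.data.pw_zero, one_mul, F.data.act_pw, hgv, F.data.pw_neg,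
      SympData.pw, SympData.pw, inv_pow]
  have h0v : F.data.act h0 v = F.data.pw (-b) v := by
    have hc' : F.data.act h0 v = F.data.act g (F.data.act h0 u) := by
      rw [hh0, F.data.act_mul hgn hln, F.data.act_mul hgn hln, hv, ← hgc _ hlL]
    rw [hc', h0u, F.data.act_pw, ← hv]
  have h0U : ∀ w ∈ U, F.data.act h0 w = F.data.pw (-b) w := by
    intro w hw
    obtain ⟨x, y, rfl⟩ := hspan w hw
    rw [map_mul, F.data.act_pw, F.data.act_pw, h0u, h0v]
    simp only [SympData.pw, mul_pow, ← pow_mul, mul_comm]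
  obtain ⟨h, hh2, hhz, hhz', hhX, hhU⟩ : ∃ h : G, h * h = 1 ∧ h * f.z * h⁻¹ = f.z⁻¹ ∧
      h * f.z' * h⁻¹ = f.z'⁻¹ ∧ h ∈ F.data.nm ∧ ∀ w ∈ U, F.data.act h w = w⁻¹ := by
    rcases hb1 with rfl | rfl
    · exact ⟨h0, h02, h0z, h0z', hh0n, fun w hw => by rw [h0U w hw, F.data.pw_neg, F.data.pw_one]⟩
    · have htc : Commute f.t h0 := (mem_centralizer_singleton_iff.1 hh0X).symm
      have htn := F.norm_le_nm (F.L_le_norm f.t_memL)
      have htz' : f.t * f.z' * f.t⁻¹ = f.z' := by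
        rw [show f.t * f.z' = f.z' * f.t from (mem_centralizer_singleton_iff.1 f.z'_memX).symm,
          mul_inv_cancel_right]
      refine ⟨h0 * f.t, ?_, ?_, ?_, mul_mem hh0n htn, fun w hw => ?_⟩
      · rw [mul_assoc, ← mul_assoc f.t, htc.eq, mul_assoc, ht, mul_one, h02]
      · rw [show h0 * f.t * f.z * (h0 * f.t)⁻¹ = h0 * (f.t * f.z * f.t⁻¹) * h0⁻¹ by group, F.t_fix, h0z]
      · rw [show h0 * f.t * f.z' * (h0 * f.t)⁻¹ = h0 * (f.t * f.z' * f.t⁻¹) * h0⁻¹ by group, htz', h0z']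
      · rw [F.data.act_mul hh0n htn, F.act_t, map_inv, h0U w hw, neg_neg, F.data.pw_one]
  haveI : Fact (Nat.Prime 2) := ⟨Nat.prime_two⟩
  refine ⟨h, orderOf_eq_prime (by rw [pow_two]; exact hh2) (fun e => ?_), fun j hj => ?_⟩
  · rw [e, one_mul, inv_one, mul_one] at hhz
    have h3 := F.z_cube
    rw [pow_succ, pow_two, show f.z * f.z = 1 by nth_rewrite 1 [hhz]; exact inv_mul_cancel _, one_mul] at h3
    have := F.z_ord
    rw [h3, orderOf_one] at this
    omega
  haveI := s.hJcomm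
  have hJc : ∀ a ∈ s.J, ∀ b ∈ s.J, a * b = b * a := fun a ha b hb =>
    congrArg Subtype.val (mul_comm' (⟨a, ha⟩ : s.J) ⟨b, hb⟩)
  let N : Subgroup G :=
    { carrier := {j | j ∈ s.J ∧ h * j * h⁻¹ = j⁻¹}
      one_mem' := ⟨one_mem _, by group⟩
      mul_mem' := fun {a b} ha hb => ⟨mul_mem ha.1 hb.1, by
        rw [show h * (a * b) * h⁻¹ = (h * a * h⁻¹) * (h * b * h⁻¹) by group, ha.2, hb.2, hJc a ha.1 b hb.1,
          mul_inv_rev]⟩
      inv_mem' := fun {a} ha => ⟨inv_mem ha.1, by rw [← conj_inv, ha.2]⟩ }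
  have hzJ : f.z ∈ s.J := f.W_le (subset_closure (Set.mem_insert f.z {f.z'}))
  have hQJ : s.Q ⊓ s.J ≤ N := by
    intro x hx
    refine ⟨hx.2, ?_⟩
    have hxU : F.data.cls x ∈ U := haJ x hx.1 hx.2
    have hcx := F.data.conj_mem hhX hx.1
    have h1 : F.data.cls (h * x * h⁻¹) = F.data.cls x⁻¹ := by
      rw [← F.data.act_cls hhX hx.1, hhU _ hxU, F.data.cls_inv hx.1]
    have h2 := (F.data.cls_eq hcx (inv_mem hx.1)).1 h1
    obtain ⟨d, hd⟩ : ∃ d, d = (h * x * h⁻¹)⁻¹ * x⁻¹ := ⟨_, rfl⟩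
    rw [← hd] at h2
    have hdz : h * d * h⁻¹ = d⁻¹ := by
      obtain ⟨m, hm⟩ := mem_zpowers_iff.1 h2
      rw [← hm, ← conj_zpow, show h * F.data.z * h⁻¹ = F.data.z⁻¹ from hhz, inv_zpow]
    have hhi : h⁻¹ = h := inv_eq_of_mul_eq_one_right hh2
    have hdJ : d ∈ s.J := by
      obtain ⟨m, hm⟩ := mem_zpowers_iff.1 h2
      rw [← hm]; exact zpow_mem hzJ m
    have hcJ : h * x * h⁻¹ ∈ s.J := by
      have : h * x * h⁻¹ = x⁻¹ * d⁻¹ := by rw [hd]; group
      rw [this]; exact mul_mem (inv_mem hx.2) (inv_mem hdJ)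
    have hdd : h * d * h⁻¹ = d := by
      rw [hd]
      calc h * ((h * x * h⁻¹)⁻¹ * x⁻¹) * h⁻¹ = (h * h) * x⁻¹ * (h⁻¹ * h⁻¹) * (h * x * h⁻¹)⁻¹ := by group
        _ = x⁻¹ * (h * x * h⁻¹)⁻¹ := by rw [← mul_inv_rev, hh2, inv_one, one_mul, mul_one]
        _ = (h * x * h⁻¹)⁻¹ * x⁻¹ := hJc _ (inv_mem hx.2) _ (inv_mem hcJ)
    have hd1 : d = 1 := by
      obtain ⟨m, hm⟩ := mem_zpowers_iff.1 h2
      have h3 : d ^ 3 = 1 := by
        rw [← hm, ← zpow_natCast, ← zpow_mul, mul_comm, zpow_mul, zpow_natCast,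
          show F.data.z ^ 3 = 1 from F.z_cube, one_zpow]
      have h4 : d * d = 1 := by nth_rewrite 1 [← hdd, hdz]; exact inv_mul_cancel d
      rwa [pow_succ, pow_two, h4, one_mul] at h3
    rw [hd, inv_mul_eq_one] at hd1
    exact hd1
  have hN : N = s.J := by
    refine eq_of_le_of_card_ge (fun j hj => hj.1) ?_
    have hdvd : Nat.card N ∣ 3 ^ 4 := s.hJcard ▸ card_dvd_of_le (fun j hj => hj.1)
    obtain ⟨m, hm, hm'⟩ := (Nat.dvd_prime_pow Nat.prime_three).1 hdvd
    have h27 := card_le_of_le hQJ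
    rw [F.card_QJ] at h27
    have hne : Nat.card N ≠ 3 ^ 3 := fun e => by
      have := eq_of_le_of_card_ge hQJ (by rw [F.card_QJ, e])
      exact F.z'_notQ ((this ▸ (⟨f.z'_mem, hhz'⟩ : f.z' ∈ N) : f.z' ∈ s.Q ⊓ s.J)).1
    rw [s.hJcard]
    interval_cases m <;> omega
  exact (hN.ge hj : j ∈ N).2

theorem caseB (F : Facts f) {b : f.Xq} (hbC : b ∈ CQ f) (hbE : b ∉ EQ f) : CaseB f := by
  obtain ⟨eA, hdec⟩ := F.exists_eA
  haveI : ((AQ f).subgroupOf (NQ f)).Normal := ⟨fun a ha g => (mem_normalizer_iff.1 (F.norm_A g.2) _).1 ha⟩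
  obtain ⟨ρ, hρk, hρA, hρev⟩ := IsoTools.exists_perm_five ((AQ f).subgroupOf (NQ f))
    ((subgroupOfEquivOfLe F.A_le_N).trans eA)
  let ρC : CQ f →* Perm (Fin 5) := ρ.comp (inclusion C_le_N)
  have hcentA : ∀ x : NQ f, x ∈ centralizer (((AQ f).subgroupOf (NQ f)) : Set (NQ f)) →
      ∀ y ∈ AQ f, (x : f.Xq) * y = y * x := fun x hx y hy =>
    (congrArg Subtype.val (mem_centralizer_iff.1 hx ⟨y, F.A_le_N hy⟩ hy)).symm
  have hkerC : ∀ x : CQ f, ρC x = 1 ↔ (x : f.Xq) ∈ zpowers f.zq := by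
    intro x
    refine ⟨fun hx => F.cent_A x.2 (hcentA _ ((hρk (inclusion C_le_N x)).1 hx)), fun hx => ?_⟩
    refine (hρk _).2 (mem_centralizer_iff.2 fun a ha => Subtype.ext ?_)
    exact (comm_zq (F.E_le_cent (F.A_le_E ha)) hx).eq
  have hbodd : Perm.sign (ρC ⟨b, hbC⟩) ≠ 1 := by
    intro h
    obtain ⟨a, ha⟩ := hρev _ h
    have haA : ((a : NQ f) : f.Xq) ∈ AQ f := a.2
    have h1 := F.cent_A (x := b * (((a : NQ f) : f.Xq))⁻¹)
      (mul_mem hbC (inv_mem (F.E_le_cent (F.A_le_E haA)))) (hcentA _ ha)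
    have h2 := mul_mem (zpowers_le.2 F.zq_memE h1) (F.A_le_E haA)
    rw [inv_mul_cancel_right] at h2
    exact hbE h2
  have haltR : alternatingGroup (Fin 5) ≤ ρC.range := by
    intro σ hσ
    obtain ⟨a, ha⟩ := ((subgroupOfEquivOfLe F.A_le_N).trans eA).surjective ⟨σ, hσ⟩
    refine ⟨⟨((a : NQ f) : f.Xq), F.E_le_cent (F.A_le_E a.2)⟩, ?_⟩
    show ρ (a : NQ f) = σ
    rw [hρA, ha]
  have hsurj : Function.Surjective ρC := by
    rw [← MonoidHom.range_eq_top]
    refine eq_top_of_card_eq _ ?_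
    have h1 := card_le_of_le haltR
    have h2 := ρC.range.card_subgroup_dvd_card
    have h3 : Nat.card ρC.range ≠ Nat.card (alternatingGroup (Fin 5)) := fun h => by
      have := eq_of_le_of_card_ge haltR h.le
      exact hbodd (Equiv.Perm.mem_alternatingGroup.1 (this ▸ (⟨_, rfl⟩ : ρC ⟨b, hbC⟩ ∈ ρC.range)))
    rw [nat_card_alternatingGroup, Nat.card_fin, show Nat.factorial 5 / 2 = 60 from rfl] at h1 h3
    rw [Nat.card_perm, Nat.card_fin, show Nat.factorial 5 = 120 from rfl] at h2 ⊢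
    obtain ⟨m, hm⟩ := h2
    rcases m with _ | _ | m
    · omega
    · omega
    · have h4 : 61 ≤ Nat.card ρC.range := by omega
      nlinarith
  have hzC : f.zq ∈ CQ f := mem_centralizer_singleton_iff.2 rfl
  have hker3 : Nat.card ρC.ker = 3 := by
    rw [← F.zq_ord, ← Nat.card_zpowers]
    exact Nat.card_congr
      { toFun := fun x => ⟨((x : CQ f) : f.Xq), (hkerC _).1 x.2⟩
        invFun := fun x => ⟨⟨x, zpowers_le.2 hzC x.2⟩, (hkerC _).2 x.2⟩
        left_inv := fun _ => rfl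
        right_inv := fun _ => rfl }
  have hcardC : Nat.card (CQ f) = 360 := by
    have h := ρC.ker.card_mul_index
    rw [index_ker, MonoidHom.range_eq_top.2 hsurj, card_top, hker3, Nat.card_perm, Nat.card_fin] at h
    exact h.symm
  obtain ⟨ι, hιN, hι, hι2, hιA⟩ : ∃ ι : f.Xq, ι ∈ NQ f ∧ ι * f.zq * ι⁻¹ = f.zq⁻¹ ∧ ι * ι = 1 ∧
      ∀ y ∈ AQ f, ι * y = y * ι := by
    obtain ⟨x, hx⟩ := hsurj (ρ ⟨f.cq, F.cq_memN⟩)
    let i : NQ f := (inclusion C_le_N x)⁻¹ * ⟨f.cq, F.cq_memN⟩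
    have hi1 : ρ i = 1 := by
      rw [map_mul, map_inv, show ρ (inclusion C_le_N x) = ρ ⟨f.cq, F.cq_memN⟩ from hx, inv_mul_cancel]
    have hiA := hcentA i ((hρk i).1 hi1)
    have hiz : (i : f.Xq) * f.zq * (i : f.Xq)⁻¹ = f.zq⁻¹ := by
      show (x : f.Xq)⁻¹ * f.cq * f.zq * ((x : f.Xq)⁻¹ * f.cq)⁻¹ = f.zq⁻¹
      rw [show (x : f.Xq)⁻¹ * f.cq * f.zq * ((x : f.Xq)⁻¹ * f.cq)⁻¹ =
        (x : f.Xq)⁻¹ * (f.cq * f.zq * f.cq⁻¹) * x by group, F.cq_inv,
        (comm_zq (inv_mem x.2) (inv_mem (mem_zpowers _))).eq, inv_mul_cancel_right]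
    refine ⟨i, i.2, hiz, ?_, hiA⟩
    have h2 : (i : f.Xq) * i ∈ CQ f := by
      refine mem_centralizer_singleton_iff.2 (mul_inv_eq_iff_eq_mul.1 ?_)
      rw [show (i : f.Xq) * i * f.zq * ((i : f.Xq) * i)⁻¹ = i * ((i : f.Xq) * f.zq * (i : f.Xq)⁻¹) * (i : f.Xq)⁻¹
        by group, hiz, ← conj_inv, hiz, inv_inv]
    have h3 := F.cent_A h2 (fun y hy => by rw [mul_assoc, hiA y hy, ← mul_assoc, hiA y hy, mul_assoc])
    obtain ⟨m, hm⟩ := mem_zpowers_iff.1 h3
    have h4 : (i : f.Xq) * f.zq ^ m * (i : f.Xq)⁻¹ = f.zq ^ m := by rw [hm]; group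
    rw [← conj_zpow, hiz, inv_zpow] at h4
    have h5 : f.zq ^ (2 * m) = 1 := by
      rw [two_mul, zpow_add]; nth_rewrite 1 [← h4]; exact inv_mul_cancel _
    have h6 : (3 : ℤ) ∣ 2 * m := by
      have := orderOf_dvd_iff_zpow_eq_one.2 h5
      rwa [F.zq_ord] at this
    rw [← hm, ← orderOf_dvd_iff_zpow_eq_one, F.zq_ord]
    omega
  have hzc : ∀ h : CQ f, Commute (⟨f.zq, hzC⟩ : CQ f) h := fun h =>
    Subtype.ext (mem_centralizer_singleton_iff.1 h.2).symm
  obtain ⟨K, hKn, hzK, hcK, hsK, hKi⟩ := exists_killer hzc (by rw [← orderOf_coe]; exact F.zq_ord)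
    (by rw [hcardC]; norm_num) (by rw [hcardC]; norm_num)
  have hAC : AQ f ≤ CQ f := F.A_le_E.trans F.E_le_cent
  have hAK : ∀ x (hx : x ∈ AQ f), (⟨x, hAC hx⟩ : CQ f) ∈ K := by
    have hle : AQ f ≤ K.map (CQ f).subtype := commutator_le.2 fun a ha b hb =>
      ⟨⁅⟨a, F.E_le_cent ha⟩, ⟨b, F.E_le_cent hb⟩⁆, hcK _ _, rfl⟩
    intro x hx
    obtain ⟨y, hy, e⟩ := hle hx
    rwa [show (⟨x, hAC hx⟩ : CQ f) = y from Subtype.ext e.symm]
  have hKdisj : ∀ x ∈ K, (x : f.Xq) ∈ zpowers f.zq → x = 1 := by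
    intro x hx hxz
    by_contra hne
    haveI : Fact (Nat.Prime 3) := ⟨Nat.prime_three⟩
    have h3 : Nat.card (zpowers (⟨f.zq, hzC⟩ : CQ f)) = 3 := by
      rw [Nat.card_zpowers, ← orderOf_coe]; exact F.zq_ord
    have hxz' : x ∈ zpowers (⟨f.zq, hzC⟩ : CQ f) := by
      obtain ⟨m, hm⟩ := mem_zpowers_iff.1 hxz
      exact ⟨m, Subtype.ext (by rw [coe_zpow]; exact hm)⟩
    have hgen : zpowers (⟨f.zq, hzC⟩ : CQ f) ≤ zpowers x := by
      intro y hy
      have := mem_zpowers_of_prime_card (G := zpowers (⟨f.zq, hzC⟩ : CQ f)) (g := ⟨x, hxz'⟩) (g' := ⟨y, hy⟩)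
        h3 (fun e => hne (congrArg Subtype.val e))
      obtain ⟨m, hm⟩ := this
      exact ⟨m, congrArg Subtype.val hm⟩
    exact hzK (zpowers_le.2 hx (hgen (mem_zpowers _)))
  have hKcard : Nat.card K = 120 := by
    have h60 : Nat.card (AQ f) = 60 := by
      rw [Nat.card_congr eA.toEquiv, nat_card_alternatingGroup, Nat.card_fin]; rfl
    have hd : 60 ∣ Nat.card K := by
      rw [← h60]
      refine (dvd_of_eq ?_).trans (card_dvd_of_le (H := (AQ f).subgroupOf (CQ f)) fun y hy => hAK _ hy)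
      exact (Nat.card_congr (subgroupOfEquivOfLe hAC).toEquiv).symm
    have hmul := K.card_mul_index
    rw [hcardC] at hmul
    have hi1 : K.index ≠ 1 := fun h => hzK (index_eq_one.1 h ▸ mem_top _)
    obtain ⟨m, hm⟩ := hd
    have hcases : K.index = 3 ∨ K.index = 9 := by
      have h9 : K.index ∣ 3 ^ 2 := hKi
      obtain ⟨j, hj, e⟩ := (Nat.dvd_prime_pow Nat.prime_three).1 h9
      interval_cases j <;> simp_all
    rcases hcases with e | e <;> rw [e, hm] at hmul <;> omega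
  have hKchar : ∀ x : CQ f, x ∈ K ↔ (x : f.Xq) * x ∈ AQ f := by
    intro x
    constructor
    · intro hx
      have hs : Perm.sign (ρ (inclusion C_le_N (x * x))) = 1 := by
        rw [map_mul, map_mul, map_mul]
        exact Int.units_mul_self _
      obtain ⟨a, ha⟩ := hρev _ hs
      have haA : ((a : NQ f) : f.Xq) ∈ AQ f := a.2
      have h1 := F.cent_A (x := (x : f.Xq) * x * ((a : NQ f) : f.Xq)⁻¹)
        (mul_mem (mul_mem x.2 x.2) (inv_mem (hAC haA))) (hcentA _ ha)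
      have h2 := hKdisj (x * x * (⟨_, hAC haA⟩ : CQ f)⁻¹) (mul_mem (mul_mem hx hx) (inv_mem (hAK _ haA))) h1
      rw [mul_inv_eq_one] at h2
      have h3 : (x : f.Xq) * x = ((a : NQ f) : f.Xq) := congrArg Subtype.val h2
      rw [h3]; exact haA
    · intro hx
      exact hsK x (hAK _ hx)
  have hbij : Function.Bijective (ρC.comp K.subtype) := by
    refine (Nat.bijective_iff_injective_and_card _).2 ⟨(injective_iff_map_eq_one _).2 fun x hx => ?_, ?_⟩
    · exact Subtype.ext (hKdisj _ x.2 ((hkerC _).1 hx))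
    · rw [hKcard, Nat.card_perm, Nat.card_fin]; rfl
  refine ⟨?_, ?_, ?_, ?_, exists_neg F hι hι2 hιA⟩
  · -- the index of `L`
    obtain ⟨g0, hg0⟩ := QuotientGroup.mk'_surjective _ b
    have hg0C : f.proj g0 ∈ CQ f := by rw [show f.proj g0 = b from hg0]; exact hbC
    have hg0z : (g0 : G) ∈ centralizer (s.Z : Set G) := by
      rw [← f.hz, mem_centralizer_iff]
      intro y hy
      obtain ⟨m, rfl⟩ := mem_zpowers_iff.1 hy
      exact (Commute.zpow_left (show Commute f.z (g0 : G) from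
        (mul_inv_eq_iff_eq_mul.1 (F.mem_cent_iff.1 hg0C)).symm) m).eq
    have hEidx : ∀ x y : f.Xq, x ∈ CQ f → y ∈ CQ f → x ∉ EQ f → y ∉ EQ f → x * y ∈ EQ f := by
      have hi : ((EQ f).subgroupOf (CQ f)).index = 2 := by
        have h := ((EQ f).subgroupOf (CQ f)).card_mul_index
        rw [Nat.card_congr (subgroupOfEquivOfLe F.E_le_cent).toEquiv, F.card_E, hcardC] at h
        omega
      intro x y hx hy hxE hyE
      have h := mul_mem_iff_of_index_two hi (a := ⟨x, hx⟩) (b := ⟨y, hy⟩)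
      simp only [mem_subgroupOf, coe_mul] at h
      exact h.2 (iff_of_false hxE hyE)
    refine index_eq_two_iff.2 ⟨⟨g0, hg0z⟩, fun w => ?_⟩
    rw [mem_subgroupOf, mem_subgroupOf, coe_mul]
    obtain ⟨q, hq, hwX, hC, hiff⟩ := F.mem_L_of w.2
    have hg0L : (g0 : G) ∉ s.L := fun h => hbE (hg0 ▸ F.mem_E_of h)
    by_cases hw : (w : G) ∈ s.L
    · refine Or.inr ⟨hw, fun h => hg0L ?_⟩
      have := mul_mem (inv_mem hw) h
      rwa [inv_mul_cancel_left] at this
    · refine Or.inl ⟨?_, hw⟩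
      have h1 : f.proj (⟨(w : G) * q, hwX⟩ * g0) ∈ EQ f := by
        rw [map_mul]
        exact hEidx _ _ hC hg0C (fun h => hw (hiff.1 h)) (fun h => hbE (hg0 ▸ h))
      have h2 : (w : G) * q * (g0 : G) ∈ s.L := F.L_of_mem_E h1
      have hq' : (g0 : G)⁻¹ * q⁻¹ * (g0 : G) ∈ s.L := by
        refine s.hQL ?_
        have hn : (g0 : G) ∈ normalizer (s.Z : Set G) := centralizer_le_normalizer _ hg0z
        have := F.data.conj_mem (inv_mem (F.norm_le_nm hn)) (inv_mem hq)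
        rwa [inv_inv] at this
      have h3 := mul_mem h2 hq'
      rwa [show (w : G) * q * (g0 : G) * ((g0 : G)⁻¹ * q⁻¹ * (g0 : G)) = (w : G) * g0 by group] at h3
  · exact iso_times (H := CQ f) (z := ⟨f.zq, hzC⟩) (by rw [← orderOf_coe]; exact F.zq_ord) hzc K
      (fun x hx hxz => hKdisj x hx (by
        obtain ⟨m, hm⟩ := mem_zpowers_iff.1 hxz
        exact ⟨m, by rw [← hm, coe_zpow]⟩))
      (by rw [hcardC, hKcard]) (MulEquiv.ofBijective _ hbij)
  · let T : Subgroup (NQ f) := (K.map (CQ f).subtype).subgroupOf (NQ f)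
    have hTmem : ∀ x : NQ f, x ∈ T ↔ (x : f.Xq) ∈ CQ f ∧ (x : f.Xq) * x ∈ AQ f := by
      intro x
      constructor
      · intro h
        obtain ⟨y, hy, e⟩ := mem_subgroupOf.1 h
        rw [← show (y : f.Xq) = x from e]
        exact ⟨y.2, (hKchar y).1 hy⟩
      · rintro ⟨h1, h2⟩
        exact mem_subgroupOf.2 ⟨⟨x, h1⟩, (hKchar _).2 h2, rfl⟩
    haveI : T.Normal := ⟨fun x hx g => by
      rw [hTmem] at hx ⊢
      rw [coe_mul, coe_mul, coe_inv]
      constructor
      · refine mem_centralizer_singleton_iff.2 (mul_inv_eq_iff_eq_mul.1 ?_)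
        have hx' : ∀ y ∈ zpowers f.zq, (x : f.Xq) * y * (x : f.Xq)⁻¹ = y := fun y hy => by
          rw [(comm_zq hx.1 hy).eq, mul_inv_cancel_right]
        have hgi : (g : f.Xq)⁻¹ * f.zq * g ∈ zpowers f.zq := by
          have := (mem_normalizer_iff.1 (inv_mem g.2) _).1 (mem_zpowers f.zq)
          rwa [inv_inv] at this
        calc (g : f.Xq) * x * (g : f.Xq)⁻¹ * f.zq * ((g : f.Xq) * x * (g : f.Xq)⁻¹)⁻¹
            = g * ((x : f.Xq) * ((g : f.Xq)⁻¹ * f.zq * g) * (x : f.Xq)⁻¹) * (g : f.Xq)⁻¹ := by group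
          _ = f.zq := by rw [hx' _ hgi]; group
      · rw [show (g : f.Xq) * x * (g : f.Xq)⁻¹ * ((g : f.Xq) * x * (g : f.Xq)⁻¹) =
          g * ((x : f.Xq) * x) * (g : f.Xq)⁻¹ by group]
        exact (mem_normalizer_iff.1 (F.norm_A g.2) _).1 hx.2⟩
    refine IsoTools.iso_prod ((AQ f).subgroupOf (NQ f)) T ((subgroupOfEquivOfLe F.A_le_N).trans eA)
      (by rw [F.card_N, hcardC]) ?_ ?_ (z := ⟨f.zq, C_le_N hzC⟩) (g := ⟨f.cq, F.cq_memN⟩) (Subtype.ext ?_)
      ?_ (Subtype.ext F.cq_inv)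
    · rw [Nat.card_congr (subgroupOfEquivOfLe ((map_subtype_le K).trans C_le_N)).toEquiv,
        card_map_of_injective (CQ f).subtype_injective, hKcard]
    · intro x hx hxc
      obtain ⟨y, hy, e⟩ := mem_subgroupOf.1 hx
      have h1 := F.cent_A (x := (x : f.Xq)) ((hTmem x).1 hx).1 (hcentA x hxc)
      have := hKdisj y hy (by rw [show (y : f.Xq) = x from e]; exact h1)
      refine Subtype.ext ?_
      rw [← show (y : f.Xq) = x from e, this]
      rfl
    · rw [coe_pow]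
      have := pow_orderOf_eq_one f.zq
      rwa [F.zq_ord] at this
    · intro h
      obtain ⟨y, hy, e⟩ := mem_subgroupOf.1 h
      exact hzK (by rwa [show (⟨f.zq, hzC⟩ : CQ f) = y from Subtype.ext e.symm])
  · rw [F.cent_WQ]
    obtain ⟨σ, hσdef⟩ : ∃ σ, σ = ρC ⟨f.z'q, F.z'q_memC⟩ := ⟨_, rfl⟩
    have hσ3 : σ ^ 3 = 1 := by
      rw [hσdef, ← map_pow]
      convert map_one ρC
      exact Subtype.ext F.z'q_cube
    have hσ1 : σ ≠ 1 := fun h => F.z'q_notmem ((hkerC _).1 (hσdef ▸ h))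
    have hcard6 : Nat.card (centralizer ({σ} : Set (Perm (Fin 5)))) = 6 := by
      rw [← perm5_cent σ hσ3 hσ1, ← Fintype.card_subtype, ← Nat.card_eq_fintype_card]
      exact Nat.card_congr (Equiv.subtypeEquivRight fun y => by rw [mem_centralizer_singleton_iff])
    have hmap : CQ f ⊓ centralizer ({f.z'q} : Set f.Xq) =
        ((centralizer ({σ} : Set (Perm (Fin 5)))).comap ρC).map (CQ f).subtype := by
      ext x
      constructor
      · rintro ⟨h1, h2⟩
        refine ⟨⟨x, h1⟩, mem_centralizer_singleton_iff.2 ?_, rfl⟩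
        rw [hσdef, ← map_mul, ← map_mul]
        exact congrArg ρC (Subtype.ext (mem_centralizer_singleton_iff.1 h2))
      · rintro ⟨y, hy, rfl⟩
        refine ⟨y.2, mem_centralizer_singleton_iff.2 ?_⟩
        have h1 : ρC ⁅y, ⟨f.z'q, F.z'q_memC⟩⁆ = 1 := by
          rw [map_commutatorElement, ← hσdef, commutatorElement_eq_one_iff_mul_comm]
          exact mem_centralizer_singleton_iff.1 hy
        have h2 := hKdisj _ (hcK _ _) ((hkerC _).1 h1)
        exact congrArg Subtype.val (commutatorElement_eq_one_iff_mul_comm.1 h2)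
    rw [hmap, card_map_of_injective (CQ f).subtype_injective]
    have h := ((centralizer ({σ} : Set (Perm (Fin 5)))).comap ρC).card_mul_index
    rw [index_comap_of_surjective _ hsurj, hcardC] at h
    have h2 := (centralizer ({σ} : Set (Perm (Fin 5)))).card_mul_index
    rw [hcard6, Nat.card_perm, Nat.card_fin, show Nat.factorial 5 = 120 from rfl] at h2
    have hi : (centralizer ({σ} : Set (Perm (Fin 5)))).index = 20 := by omega
    rw [hi] at h
    omega

end Facts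

/-- **The two cases.** -/
theorem cases {G : Type*} [Group G] {s : Setting G} {f : Frame s} [Finite G] (F : Facts f) :
    CaseA f ∨ CaseB f := by
  by_cases hA : Facts.CQ f ≤ EQ f
  · exact Or.inl (F.caseA hA)
  · obtain ⟨b, hbC, hbE⟩ := Set.not_subset.1 hA
    exact Or.inr (F.caseB hbC hbE)

end Cfsg.Agent.McLLoc
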