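import Cfsg.Agent.McLLoc.CentZLocal

/-!
# Orders of the local subgroups modulo the involution
-/

set_option autoImplicit false
set_option maxRecDepth 20000

open Subgroup

namespace Cfsg.Agent.McLLoc

/-- A central subgroup of order three with a complement splits off as a direct factor. -/
theorem iso_times {H : Type*} [Group H] [Finite H] {T : Type*} [Group T] {z : H}
    (hz : orderOf z = 3) (hc : ∀ h : H, Commute z h) (S : Subgroup H)
    (hS : ∀ x ∈ S, x ∈ zpowers z → x = 1) (hcard : Nat.card H = 3 * Nat.card S) (e : S ≃* T) :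
    Nonempty (H ≃* Multiplicative (ZMod 3) × T) := by
  let Φ : zpowers z × S →* H :=
    MonoidHom.noncommCoprod (zpowers z).subtype S.subtype fun a b => by
      obtain ⟨k, hk⟩ := mem_zpowers_iff.1 a.2
      show Commute (a : H) (b : H)
      rw [← hk]
      exact (hc _).zpow_left k
  have hinj : Function.Injective Φ := (injective_iff_map_eq_one Φ).2 fun p hp => by
    have h1 : (p.1 : H) * (p.2 : H) = 1 := hp
    have h2 : (p.2 : H) = 1 := hS _ p.2.2 (by
      rw [show (p.2 : H) = (p.1 : H)⁻¹ from eq_inv_of_mul_eq_one_right h1]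
      exact inv_mem p.1.2)
    rw [h2, mul_one] at h1
    exact Prod.ext (Subtype.ext h1) (Subtype.ext h2)
  have hb : Function.Bijective Φ := (Nat.bijective_iff_injective_and_card _).2 ⟨hinj, by
    rw [Nat.card_prod, Nat.card_zpowers, hz, hcard]⟩
  haveI : IsCyclic (zpowers z) := by
    exact isCyclic_iff_exists_zpowers_eq_top.2 ⟨⟨z, mem_zpowers z⟩, eq_top_iff.2 fun x _ => by
      obtain ⟨k, hk⟩ := mem_zpowers_iff.1 x.2
      exact ⟨k, Subtype.ext hk⟩⟩
  have h3 : Nat.card (zpowers z) = 3 := by rw [Nat.card_zpowers, hz]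
  have e0 := (zmodCyclicMulEquiv (G := zpowers z) inferInstance).symm
  rw [h3] at e0
  exact ⟨(MulEquiv.ofBijective Φ hb).symm.trans (MulEquiv.prodCongr e0 e)⟩

namespace Facts

variable {G : Type*} [Group G] [Finite G] {s : Setting G} {f : Frame s}

/-- The normaliser of the image of `Z`. -/
abbrev NQ (f : Frame s) : Subgroup f.Xq := normalizer (zpowers f.zq : Set f.Xq)

/-- The centraliser of the image of `z`. -/
abbrev CQ (f : Frame s) : Subgroup f.Xq := centralizer ({f.zq} : Set f.Xq)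

theorem proj_Q (F : Facts f) {a : f.X} (ha : (a : G) ∈ s.Q) : f.proj a ∈ zpowers f.zq := by
  have h : (a : G) ∈ s.Z := F.centQt ▸ (⟨ha, a.2⟩ : (a : G) ∈ s.Q ⊓ f.X)
  rw [← f.hz, mem_zpowers_iff] at h
  obtain ⟨k, hk⟩ := h
  rw [show a = ⟨f.z, f.z_memX⟩ ^ k from Subtype.ext (by rw [coe_zpow]; exact hk.symm), map_zpow]
  exact zpow_mem (mem_zpowers _) k

theorem comm_zq {x : f.Xq} (hx : x ∈ CQ f) {y : f.Xq} (hy : y ∈ zpowers f.zq) : Commute x y := by
  obtain ⟨k, rfl⟩ := mem_zpowers_iff.1 hy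
  exact (show Commute x f.zq from mem_centralizer_singleton_iff.1 hx).zpow_right k

theorem C_le_N : CQ f ≤ NQ f := by
  intro x hx
  refine mem_normalizer_iff.2 fun y => ⟨fun hy => ?_, fun hy => ?_⟩
  · rw [(comm_zq hx hy).eq, mul_inv_cancel_right]; exact hy
  · have h1 := (comm_zq (inv_mem hx) hy).eq
    rw [show x⁻¹ * (x * y * x⁻¹) = y * x⁻¹ by group] at h1
    rwa [mul_right_cancel h1]

theorem E_le_N (F : Facts f) : EQ f ≤ NQ f := F.E_le_cent.trans C_le_N

theorem A_le_N (F : Facts f) : AQ f ≤ NQ f := F.A_le_E.trans F.E_le_N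

theorem cq_inv (_F : Facts f) : f.cq * f.zq * f.cq⁻¹ = f.zq⁻¹ := by
  rw [← map_inv, ← map_mul, ← map_mul, ← map_inv]
  exact congrArg f.proj (Subtype.ext f.c_z)

theorem cq_memN (F : Facts f) : f.cq ∈ NQ f := F.proj_norm (g := ⟨f.c, f.c_memX⟩) F.c_norm

theorem zq_ne_inv (F : Facts f) : f.zq ≠ f.zq⁻¹ := fun h => by
  have h2 : f.zq ^ 2 = 1 := by rw [pow_two]; nth_rewrite 1 [h]; exact inv_mul_cancel _
  have := orderOf_dvd_of_pow_eq_one h2
  rw [F.zq_ord] at this
  omega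

theorem N_cases (F : Facts f) {x : f.Xq} (hx : x ∈ NQ f) :
    x ∈ CQ f ∨ x * f.zq * x⁻¹ = f.zq⁻¹ := by
  obtain ⟨g, rfl⟩ := QuotientGroup.mk'_surjective _ x
  rcases F.conj_z (F.norm_of_proj hx) with e | e
  · exact Or.inl (F.mem_cent_iff.2 e)
  · refine Or.inr ?_
    show f.proj g * f.proj _ * (f.proj g)⁻¹ = (f.proj _)⁻¹
    rw [← map_inv, ← map_mul, ← map_mul, ← map_inv]
    exact congrArg f.proj (Subtype.ext e)

theorem card_N (F : Facts f) : Nat.card (NQ f) = 2 * Nat.card (CQ f) := by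
  have hi : ((CQ f).subgroupOf (NQ f)).index = 2 := by
    refine index_eq_two_iff.2 ⟨⟨f.cq, F.cq_memN⟩, fun b => ?_⟩
    rw [mem_subgroupOf, mem_subgroupOf, coe_mul]
    by_cases hb : (b : f.Xq) ∈ CQ f
    · refine Or.inr ⟨hb, fun h => ?_⟩
      have h1 : f.cq ∈ CQ f := by
        have := mul_mem (inv_mem hb) h
        rwa [inv_mul_cancel_left] at this
      have h2 := F.cq_inv
      rw [show f.cq * f.zq = f.zq * f.cq from mem_centralizer_singleton_iff.1 h1, mul_inv_cancel_right] at h2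
      exact F.zq_ne_inv h2
    · refine Or.inl ⟨mem_centralizer_singleton_iff.2 ?_, hb⟩
      have h1 := (F.N_cases b.2).resolve_left hb
      have h2 : (b : f.Xq) * f.cq * f.zq * ((b : f.Xq) * f.cq)⁻¹ = f.zq := by
        rw [show (b : f.Xq) * f.cq * f.zq * ((b : f.Xq) * f.cq)⁻¹ =
          b * (f.cq * f.zq * f.cq⁻¹) * (b : f.Xq)⁻¹ by group, F.cq_inv, ← conj_inv, h1, inv_inv]
      exact mul_inv_eq_iff_eq_mul.1 h2
  have h := ((CQ f).subgroupOf (NQ f)).card_mul_index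
  rw [hi, Nat.card_congr (subgroupOfEquivOfLe C_le_N).toEquiv] at h
  omega

theorem z'q_notmem (F : Facts f) : f.z'q ∉ zpowers f.zq := by
  intro h
  obtain ⟨k, hk⟩ := mem_zpowers_iff.1 h
  rw [← map_zpow] at hk
  have e := F.cube_unique (a := ⟨f.z, f.z_memX⟩ ^ k) (b := ⟨f.z', f.z'_memX⟩) (by
    rw [coe_zpow, ← zpow_natCast, ← zpow_mul, mul_comm, zpow_mul, zpow_natCast, F.z_cube, one_zpow])
    (s.hJexp _ f.z'_mem) hk
  refine F.z'_notQ ?_
  rw [show f.z' = f.z ^ k from e]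
  exact zpow_mem F.z_memQ k

theorem zz'_comm (F : Facts f) : f.zq * f.z'q = f.z'q * f.zq := by
  rw [← map_mul, ← map_mul]
  refine congrArg f.proj (Subtype.ext ?_)
  haveI := s.hJcomm
  have hz : f.z ∈ s.J := f.W_le (subset_closure (Set.mem_insert f.z {f.z'}))
  show f.z * f.z' = f.z' * f.z
  exact congrArg Subtype.val (mul_comm' (⟨f.z, hz⟩ : s.J) ⟨f.z', f.z'_mem⟩)

theorem z'q_memC (F : Facts f) : f.z'q ∈ CQ f := mem_centralizer_singleton_iff.2 F.zz'_comm.symm

theorem z'q_cube (_F : Facts f) : f.z'q ^ 3 = 1 := by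
  rw [← map_pow, ← map_one f.proj]
  exact congrArg f.proj (Subtype.ext (s.hJexp _ f.z'_mem))

/-- The image of `W`. -/
abbrev WQ (f : Frame s) : Subgroup f.Xq := closure ({f.zq, f.z'q} : Set f.Xq)

theorem card_WQ (F : Facts f) : Nat.card (WQ f) = 9 := by
  haveI : Fact (Nat.Prime 3) := ⟨Nat.prime_three⟩
  have hWX : f.W ≤ f.X := f.hW.le.trans inf_le_right
  have hmap : WQ f = (f.W.subgroupOf f.X).map f.proj := by
    have h1 : f.W.subgroupOf f.X = closure ({⟨f.z, f.z_memX⟩, ⟨f.z', f.z'_memX⟩} : Set f.X) := by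
      refine map_injective f.X.subtype_injective ?_
      rw [MonoidHom.map_closure, Set.image_pair, subgroupOf_map_subtype, inf_eq_left.2 hWX]
      rfl
    rw [h1, MonoidHom.map_closure, Set.image_pair]
  haveI := s.hJcomm
  have hcube : ∀ a ∈ f.W.subgroupOf f.X, (a : G) ^ 3 = 1 := fun a ha => s.hJexp _ (f.W_le ha)
  rw [hmap, ← f.card_W, ← Nat.card_congr (subgroupOfEquivOfLe hWX).toEquiv]
  refine (Nat.card_eq_of_bijective (fun a => ⟨f.proj a.1, a.1, a.2, rfl⟩) ⟨fun a b h => ?_, ?_⟩).symm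
  · refine Subtype.ext (Subtype.ext (F.cube_unique (hcube _ b.2) (hcube _ a.2) ?_))
    exact (congrArg Subtype.val h).symm
  · rintro ⟨_, a, ha, rfl⟩
    exact ⟨⟨a, ha⟩, rfl⟩

theorem cent_WQ (_F : Facts f) :
    centralizer (WQ f : Set f.Xq) = CQ f ⊓ centralizer ({f.z'q} : Set f.Xq) := by
  rw [centralizer_closure]
  ext x
  simp only [mem_inf, mem_centralizer_iff, Set.mem_insert_iff, Set.mem_singleton_iff, forall_eq_or_imp,
    forall_eq]

theorem mem_L_of (F : Facts f) {g : G} (hg : g ∈ centralizer (s.Z : Set G)) :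
    ∃ q ∈ s.Q, ∃ hgX : g * q ∈ f.X, f.proj ⟨g * q, hgX⟩ ∈ CQ f ∧
      (f.proj ⟨g * q, hgX⟩ ∈ EQ f ↔ g ∈ s.L) := by
  have hgz : g * f.z * g⁻¹ = f.z := by
    rw [← mem_centralizer_iff.1 hg f.z (f.hz ▸ mem_zpowers f.z), mul_inv_cancel_right]
  have hN : g ∈ normalizer (s.Z : Set G) := centralizer_le_normalizer _ hg
  obtain ⟨q, hq, hgX⟩ := F.exists_mem_X hN
  refine ⟨q, hq, hgX, F.mem_cent_iff.2 ?_, fun h => ?_, fun h => F.mem_E_of (mul_mem h (s.hQL hq))⟩
  · show g * q * f.z * (g * q)⁻¹ = f.z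
    rw [show g * q * f.z * (g * q)⁻¹ = g * (q * f.z * q⁻¹) * g⁻¹ by group, F.L_fix (s.hQL hq), hgz]
  · have := mul_mem (F.L_of_mem_E h) (inv_mem (s.hQL hq))
    rwa [mul_inv_cancel_right] at this

end Facts

end Cfsg.Agent.McLLoc
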