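import Cfsg.Agent.Classical.A5InPSL

/-!
# `SL(2,5)` over `Alt(5)`
-/

set_option autoImplicit false
set_option maxRecDepth 20000

open Equiv Equiv.Perm
open scoped MatrixGroups

namespace Cfsg.Agent.McLLoc

local notation "K5" => SL(2, ZMod 5)

theorem sl25_sq : ∀ g : K5, g * g = 1 → g = 1 ∨ g = -1 := by
  have h : ∀ a b c d : ZMod 5, a * d - b * c = 1 → a * a + b * c = 1 → a * b + b * d = 0 →
      c * a + d * c = 0 → c * b + d * d = 1 →
      (a = 1 ∧ b = 0 ∧ c = 0 ∧ d = 1) ∨ (a = -1 ∧ b = 0 ∧ c = 0 ∧ d = -1) := by decide +kernel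
  intro g hg
  have e : ∀ i j, (g * g) i j = (1 : K5) i j := fun i j => by rw [hg]
  have hd := g.2
  rw [Matrix.det_fin_two] at hd
  have e00 := e 0 0
  have e01 := e 0 1
  have e10 := e 1 0
  have e11 := e 1 1
  simp [Matrix.SpecialLinearGroup.coe_mul, Matrix.mul_apply, Fin.sum_univ_two] at e00 e01 e10 e11
  rcases h _ _ _ _ hd e00 e01 e10 e11 with ⟨ha, hb, hc, hd'⟩ | ⟨ha, hb, hc, hd'⟩
  · left
    ext i j
    fin_cases i <;> fin_cases j <;> simp [ha, hb, hc, hd']
  · right
    ext i j
    fin_cases i <;> fin_cases j <;> simp [ha, hb, hc, hd']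

theorem sl25_y : (Classical.A5InPSL.y₁ : K5) ^ 5 = 1 ∧ (Classical.A5InPSL.y₁ : K5) ≠ 1 ∧
    Classical.A5InPSL.y₁ * Classical.A5InPSL.x₁ ≠ Classical.A5InPSL.x₁ * Classical.A5InPSL.y₁ := by
  decide +kernel

/-- The projection of `SL(2,5)` onto `Alt(5)`. -/
theorem exists_red : ∃ r : K5 →* alternatingGroup (Fin 5),
    Function.Surjective r ∧ ∀ g, r g = 1 ↔ g = 1 ∨ g = -1 := by
  let x : alternatingGroup (Fin 5) := ⟨swap 0 1 * swap 1 2, Equiv.Perm.mem_alternatingGroup.2 (by decide)⟩
  let y : alternatingGroup (Fin 5) := ⟨finRotate 5 * finRotate 5, Equiv.Perm.mem_alternatingGroup.2 (by decide)⟩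
  have hx : x ^ 3 = 1 := by decide +kernel
  have hy : y ^ 5 = 1 := by decide +kernel
  have hxy : (x * y) ^ 2 = 1 := by decide +kernel
  have hne : x ≠ 1 ∧ y ≠ 1 ∧ x * y ≠ 1 := by decide +kernel
  obtain ⟨r, hrx, hry, hr1⟩ := Classical.A5InPSL.exists_hom hx hy hxy
  haveI : Fact (Nat.Prime 2) := ⟨Nat.prime_two⟩
  haveI : Fact (Nat.Prime 3) := ⟨Nat.prime_three⟩
  haveI : Fact (Nat.Prime 5) := ⟨Nat.prime_five⟩
  have h60 : Nat.card (alternatingGroup (Fin 5)) = 60 := by
    rw [Nat.card_eq_fintype_card]; decide +kernel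
  have h120 : Nat.card K5 = 120 := by rw [Classical.card_sl2, ZMod.card]; rfl
  have hX : x ∈ r.range := ⟨_, hrx⟩
  have hY : y ∈ r.range := ⟨_, hry⟩
  have hd : ∀ {g : alternatingGroup (Fin 5)} {n : ℕ}, g ∈ r.range → orderOf g = n → n ∣ Nat.card r.range := by
    intro g n hg hn
    rw [← hn, ← Subgroup.orderOf_mk g hg]
    exact orderOf_dvd_natCard _
  have d2 := hd (mul_mem hX hY) (orderOf_eq_prime hxy hne.2.2)
  have d3 := hd hX (orderOf_eq_prime hx hne.1)
  have d5 := hd hY (orderOf_eq_prime hy hne.2.1)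
  have d30 : 30 ∣ Nat.card r.range := by omega
  have dd := r.range.card_subgroup_dvd_card
  rw [h60] at dd
  have hmul := r.range.card_mul_index
  rw [h60] at hmul
  have htop : r.range = ⊤ := by
    obtain ⟨k, hk⟩ := d30
    have hk2 : k = 1 ∨ k = 2 := by
      rw [hk] at dd
      have := Nat.le_of_dvd (by norm_num) dd
      have := Nat.card_pos (α := r.range)
      omega
    rcases hk2 with rfl | rfl
    · exfalso
      rw [hk] at hmul
      have hi : r.range.index = 2 := by omega
      haveI := Subgroup.normal_of_index_eq_two hi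
      rcases (alternatingGroup.isSimpleGroup (α := Fin 5) (by simp)).eq_bot_or_eq_top_of_normal r.range inferInstance with h | h
      · rw [h, Subgroup.card_bot] at hk; omega
      · rw [h, Subgroup.index_top] at hi; omega
    · exact Subgroup.eq_top_of_card_eq _ (by rw [hk, h60])
  have hsurj : Function.Surjective r := MonoidHom.range_eq_top.1 htop
  have hker : Nat.card r.ker = 2 := by
    have h := r.ker.card_mul_index
    rw [Subgroup.index_ker, htop, Subgroup.card_top, h60, h120] at h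
    omega
  have hneg : (-1 : K5) ≠ 1 := by decide +kernel
  refine ⟨r, hsurj, fun g => ⟨fun hg => ?_, ?_⟩⟩
  · by_cases h1 : g = 1
    · exact Or.inl h1
    right
    obtain ⟨a, b, hab, huniv⟩ := Nat.card_eq_two_iff.1 hker
    have mem : ∀ k : r.ker, k = a ∨ k = b := fun k => by
      have := huniv.symm ▸ Set.mem_univ k
      simpa using this
    have e1 := mem 1
    have e2 := mem ⟨g, hg⟩
    have e3 := mem ⟨-1, hr1⟩
    rcases e1 with e1 | e1 <;> rcases e2 with e2 | e2 <;> rcases e3 with e3 | e3 <;>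
      first
        | exact absurd (congrArg Subtype.val (e2.trans e1.symm)) h1
        | exact absurd (congrArg Subtype.val (e3.trans e1.symm)) hneg
        | exact congrArg Subtype.val (e2.trans e3.symm)
  · rintro (rfl | rfl)
    · exact map_one r
    · exact hr1

end Cfsg.Agent.McLLoc
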