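import Cfsg.Agent.McLLoc.Defs
import Cfsg.Agent.McLLoc.CentZSimil
import Cfsg.Agent.McLLoc.CentZSL
import Cfsg.Agent.Core.PCore

/-!
# The normaliser of `Z` acting on `Q / Z`
-/

set_option autoImplicit false

open Subgroup
open scoped commutatorElement

namespace Cfsg.Agent.McLLoc

namespace Facts

variable {G : Type*} [Group G] [Finite G] {s : Setting G} {f : Frame s}

theorem z_ord (F : Facts f) : orderOf f.z = 3 := by
  rw [← Nat.card_zpowers, f.hz, F.card_Z]

theorem Q_le_S (F : Facts f) : s.Q ≤ s.S := F.S_eq.ge.trans' le_sup_left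

theorem z_memQ (F : Facts f) : f.z ∈ s.Q :=
  (F.Z_le_QJ.trans inf_le_left) (f.hz ▸ mem_zpowers f.z)

theorem z_commQ (F : Facts f) : ∀ v ∈ s.Q, f.z * v = v * f.z := fun v hv => by
  have h : f.z ∈ (s.S : Subgroup G) ⊓ centralizer ((s.S : Subgroup G) : Set G) :=
    s.hZ ▸ f.hz ▸ mem_zpowers f.z
  exact (mem_centralizer_iff.1 h.2 v (F.Q_le_S hv)).symm

theorem center_eq (F : Facts f) : center s.Q = (zpowers f.z).subgroupOf s.Q := by
  have hle : (zpowers f.z).subgroupOf s.Q ≤ center s.Q := fun a ha => mem_center_iff.2 fun b => by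
    obtain ⟨k, hk⟩ := mem_zpowers_iff.1 (mem_subgroupOf.1 ha)
    refine Subtype.ext ?_
    show (b : G) * a = a * b
    rw [← hk]
    exact (Commute.zpow_left (F.z_commQ b b.2) k).eq.symm
  refine (eq_of_le_of_card_ge hle ?_).symm
  rw [s.hQex.2, Nat.card_congr (subgroupOfEquivOfLe (zpowers_le.2 F.z_memQ)).toEquiv, Nat.card_zpowers, F.z_ord]

/-- The symplectic space of `Q`. -/
def data (F : Facts f) : SympData G where
  Q := s.Q
  z := f.z
  z_mem := F.z_memQ
  z_ord := F.z_ord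
  z_comm := F.z_commQ
  card := s.hQcard
  comm_mem v hv w hw := by
    have h : ⁅(⟨v, hv⟩ : s.Q), (⟨w, hw⟩ : s.Q)⁆ ∈ center s.Q :=
      s.hQex.1.2.2 ▸ commutator_mem_commutator (mem_top _) (mem_top _)
    rw [F.center_eq, mem_subgroupOf] at h
    exact h
  cube v hv := by rw [s.hQexp v hv]; exact one_mem _
  nonab := by
    by_contra h
    push_neg at h
    have htop : center s.Q = ⊤ := eq_top_iff.2 fun a _ => mem_center_iff.2 fun b =>
      Subtype.ext (h b b.2 a a.2)
    have h3 := s.hQex.2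
    rw [htop, card_top, s.hQcard] at h3
    omega

theorem zpowers_eq (F : Facts f) : zpowers F.data.z = s.Z := f.hz

theorem norm_le_nm (F : Facts f) : normalizer (s.Z : Set G) ≤ F.data.nm := by
  intro g hg
  refine mem_inf.2 ⟨?_, by rw [F.zpowers_eq]; exact hg⟩
  have h : normalizer (s.Z : Set G) ≤ normalizer ((s.Q : Subgroup G) : Set G) := by
    rw [s.hQ]
    intro g hg
    refine mem_normalizer_iff.2 fun x => ⟨fun hx => ?_, fun hx => ?_⟩
    · obtain ⟨a, ha, rfl⟩ := hx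
      exact ⟨⟨g, hg⟩ * a * ⟨g, hg⟩⁻¹, Normal.conj_mem inferInstance a ha _, rfl⟩
    · obtain ⟨a, ha, e⟩ := hx
      refine ⟨⟨g, hg⟩⁻¹ * a * ⟨g, hg⟩⁻¹⁻¹, Normal.conj_mem inferInstance a ha _, ?_⟩
      show g⁻¹ * (a : G) * g⁻¹⁻¹ = x
      rw [show (a : G) = g * x * g⁻¹ from e]
      group
  exact h hg

theorem conj_z (F : Facts f) {g : G} (hg : g ∈ normalizer (s.Z : Set G)) :
    g * f.z * g⁻¹ = f.z ∨ g * f.z * g⁻¹ = f.z⁻¹ := by
  have h := (mem_normalizer_iff.1 hg f.z).1 (f.hz ▸ mem_zpowers f.z)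
  rw [← f.hz, mem_zpowers_iff] at h
  obtain ⟨k, hk⟩ := h
  rw [← hk, ← zpow_mod_orderOf, F.z_ord]
  have h3 : k % ((3 : ℕ) : ℤ) = 0 ∨ k % ((3 : ℕ) : ℤ) = 1 ∨ k % ((3 : ℕ) : ℤ) = 2 := by omega
  rcases h3 with e | e | e <;> rw [e]
  · exfalso
    rw [← zpow_mod_orderOf, F.z_ord, e, zpow_zero, eq_comm, conj_eq_one_iff] at hk
    have := F.z_ord
    rw [hk, orderOf_one] at this
    omega
  · exact Or.inl (zpow_one _)
  · refine Or.inr ?_
    refine eq_inv_of_mul_eq_one_left ?_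
    rw [← zpow_add_one]
    have := pow_orderOf_eq_one f.z
    rw [F.z_ord] at this
    exact_mod_cast this

theorem L_le_norm (_F : Facts f) : s.L ≤ normalizer (s.Z : Set G) := by
  rw [s.hL, closure_le]
  exact fun g hg => hg.1

theorem L_fix (F : Facts f) {l : G} (hl : l ∈ s.L) : l * f.z * l⁻¹ = f.z := by
  rw [s.hL] at hl
  induction hl using closure_induction with
  | mem g hg =>
    obtain ⟨hgN, k, hk⟩ := hg
    refine (F.conj_z hgN).resolve_right fun h => ?_
    have hit : ∀ n : ℕ, g ^ n * f.z * (g ^ n)⁻¹ = if Even n then f.z else f.z⁻¹ := by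
      intro n
      induction n with
      | zero => simp
      | succ n ih =>
        rw [pow_succ', show g * g ^ n * f.z * (g * g ^ n)⁻¹ = g * (g ^ n * f.z * (g ^ n)⁻¹) * g⁻¹ by group, ih]
        by_cases he : Even n
        · rw [if_pos he, if_neg (by simp [Nat.even_add_one, he]), h]
        · rw [if_neg he, if_pos (by simp [Nat.even_add_one, he]), ← conj_inv, h, inv_inv]
    have h1 := hit (3 ^ k)
    rw [← hk, pow_orderOf_eq_one, one_mul, inv_one, mul_one, hk,
      if_neg (Nat.not_even_iff_odd.2 (Odd.pow (by decide)))] at h1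
    have h2 : f.z ^ 2 = 1 := by rw [pow_two]; nth_rewrite 1 [h1]; exact inv_mul_cancel _
    have := orderOf_dvd_of_pow_eq_one h2
    rw [F.z_ord] at this
    omega
  | one => group
  | mul a b _ _ ha hb =>
    rw [show a * b * f.z * (a * b)⁻¹ = a * (b * f.z * b⁻¹) * a⁻¹ by group, hb, ha]
  | inv a _ ha => nth_rewrite 1 [← ha]; group

theorem L_le_centZ (F : Facts f) : s.L ≤ centralizer (s.Z : Set G) := by
  intro l hl
  rw [← f.hz, mem_centralizer_iff]
  intro h hh
  obtain ⟨k, rfl⟩ := mem_zpowers_iff.1 hh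
  exact (Commute.zpow_left (show Commute f.z l from (mul_inv_eq_iff_eq_mul.1 (F.L_fix hl)).symm) k).eq

theorem triv_Q (F : Facts f) {q : G} (hq : q ∈ s.Q) : F.data.Triv q := by
  have hn : q ∈ F.data.nm := F.norm_le_nm (F.L_le_norm (s.hQL hq))
  intro w
  obtain ⟨x, hx, rfl⟩ := F.data.cls_surj w
  rw [F.data.act_cls hn hx, F.data.cls_eq (F.data.conj_mem hn hx) hx]
  have h := F.data.comm_mem q hq x⁻¹ (inv_mem hx)
  rwa [commutatorElement_def, inv_inv, ← show (q * x * q⁻¹)⁻¹ * x = q * x⁻¹ * q⁻¹ * x by group] at h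

theorem act_congr (F : Facts f) {g h : G} (hg : g ∈ normalizer (s.Z : Set G))
    (hh : g⁻¹ * h ∈ s.Q) (w : F.data.W) : F.data.act h w = F.data.act g w := by
  rw [show h = g * (g⁻¹ * h) by group, F.data.act_mul (F.norm_le_nm hg)
    (F.norm_le_nm (F.L_le_norm (s.hQL hh))), F.triv_Q hh]

theorem act_t (F : Facts f) : F.data.Invert f.t := by
  have hn := F.norm_le_nm (F.L_le_norm f.t_memL)
  intro w
  obtain ⟨x, hx, rfl⟩ := F.data.cls_surj w
  rw [F.data.act_cls hn hx, ← F.data.cls_inv hx, F.data.cls_eq (F.data.conj_mem hn hx) (inv_mem hx),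
    F.zpowers_eq, show (f.t * x * f.t⁻¹)⁻¹ * x⁻¹ = (x * (f.t * x * f.t⁻¹))⁻¹ by group]
  refine inv_mem ?_
  have h := f.t_Q x hx
  have h2 : x * (f.t * x * f.t⁻¹) = x * (f.t * x * f.t⁻¹ * x) * x⁻¹ := by group
  rw [h2]
  rw [← F.zpowers_eq] at h ⊢
  rwa [← F.data.commute_of_mem h hx, mul_inv_cancel_right]

theorem fix_of_triv (F : Facts f) {g : G} (hg : g ∈ normalizer (s.Z : Set G))
    (h : F.data.Triv g ∨ F.data.Invert g) : g * f.z * g⁻¹ = f.z :=
  (F.conj_z hg).resolve_right fun h' => F.data.not_scalar (F.norm_le_nm hg) h' h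

/-- Only `Q` acts trivially. -/
theorem mem_of_triv (F : Facts f) {g : G} (hg : g ∈ normalizer (s.Z : Set G)) (h : F.data.Triv g) :
    g ∈ s.Q := by
  obtain ⟨e⟩ := s.hLq
  haveI := s.hQn
  have cube : ∀ {a : G}, a ∈ normalizer (s.Z : Set G) → F.data.Triv a → a ^ 3 ∈ s.Q := by
    intro a ha hat
    have hz := F.fix_of_triv ha (Or.inl hat)
    suffices a ^ 3 ∈ centralizer (s.Q : Set G) by
      rw [F.centQ] at this
      exact (F.Z_le_QJ.trans inf_le_left) this
    rw [mem_centralizer_iff]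
    intro x hx
    have hn := F.norm_le_nm ha
    have h1 := hat (F.data.cls x)
    rw [F.data.act_cls hn hx, eq_comm, F.data.cls_eq hx (F.data.conj_mem hn hx)] at h1
    obtain ⟨c, hc⟩ : ∃ c, c = x⁻¹ * (a * x * a⁻¹) := ⟨_, rfl⟩
    rw [← hc] at h1
    obtain ⟨k, hk⟩ := mem_zpowers_iff.1 h1
    have hac : a * c * a⁻¹ = c := by rw [← hk, ← conj_zpow, show a * F.data.z * a⁻¹ = F.data.z from hz]
    have hx1 : a * x * a⁻¹ = x * c := by rw [hc]; group
    have hcc : c * c * c = 1 := by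
      have h3 : F.data.z ^ (3 : ℤ) = 1 := by
        have := pow_orderOf_eq_one F.data.z
        rw [show orderOf F.data.z = 3 from F.z_ord] at this
        exact_mod_cast this
      rw [← hk, ← zpow_add, ← zpow_add, show k + k + k = 3 * k by ring, zpow_mul, h3, one_zpow]
    have e2 : a * (a * x * a⁻¹) * a⁻¹ = x * c * c := by
      calc a * (a * x * a⁻¹) * a⁻¹ = a * (x * c) * a⁻¹ := by rw [hx1]
        _ = a * x * a⁻¹ * (a * c * a⁻¹) := by group
        _ = x * c * c := by rw [hx1, hac]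
    have h3 : a ^ 3 * x * (a ^ 3)⁻¹ = x := by
      calc a ^ 3 * x * (a ^ 3)⁻¹ = a * (a * (a * x * a⁻¹) * a⁻¹) * a⁻¹ := by rw [pow_succ, pow_two]; group
        _ = a * (x * c * c) * a⁻¹ := by rw [e2]
        _ = a * x * a⁻¹ * (a * c * a⁻¹) * (a * c * a⁻¹) := by group
        _ = x * (c * c * c) := by rw [hx1, hac]; group
        _ = x := by rw [hcc, mul_one]
    exact (mul_inv_eq_iff_eq_mul.1 h3).symm
  have hgL : g ∈ s.L := by
    rw [s.hL]
    refine subset_closure ⟨hg, ?_⟩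
    have h9 : g ^ (3 ^ 2) = 1 := by
      rw [pow_two (3 : ℕ), pow_mul]
      exact s.hQexp _ (cube hg h)
    obtain ⟨k, -, hk⟩ := (Nat.dvd_prime_pow Nat.prime_three).1 (orderOf_dvd_of_pow_eq_one h9)
    exact ⟨k, hk⟩
  obtain ⟨r, hrs, hr⟩ := exists_red
  let ψ : s.L →* alternatingGroup (Fin 5) := r.comp (e.toMonoidHom.comp (QuotientGroup.mk' (s.Q.subgroupOf s.L)))
  have hψ : Function.Surjective ψ := hrs.comp (e.surjective.comp (QuotientGroup.mk'_surjective _))
  let T : Subgroup s.L :=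
    { carrier := {l | F.data.Triv (l : G)}
      one_mem' := F.data.act_one
      mul_mem' := fun {a b} ha hb w => by
        rw [coe_mul, F.data.act_mul (F.norm_le_nm (F.L_le_norm a.2)) (F.norm_le_nm (F.L_le_norm b.2)), hb, ha]
      inv_mem' := fun {a} ha w => by
        rw [coe_inv]
        conv_lhs => rw [← ha w]
        exact F.data.act_inv_act (F.norm_le_nm (F.L_le_norm a.2)) w }
  haveI : T.Normal := ⟨fun l hl a w => by
    have ha := F.norm_le_nm (F.L_le_norm a.2)
    have hl' := F.norm_le_nm (F.L_le_norm l.2)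
    rw [coe_mul, coe_mul, coe_inv, F.data.act_mul (mul_mem ha hl') (inv_mem ha), F.data.act_mul ha hl', hl,
      ← F.data.act_mul ha (inv_mem ha), mul_inv_cancel, F.data.act_one]⟩
  haveI := Normal.map (H := T) inferInstance ψ hψ
  have hT3 : ∀ x ∈ T.map ψ, x ^ 3 = 1 := by
    rintro _ ⟨l, hl, rfl⟩
    rw [← map_pow]
    have hq : l ^ 3 ∈ s.Q.subgroupOf s.L := by
      rw [mem_subgroupOf, coe_pow]
      exact cube (F.L_le_norm l.2) hl
    show r (e ((l ^ 3 : s.L) : s.L ⧸ s.Q.subgroupOf s.L)) = 1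
    rw [(QuotientGroup.eq_one_iff _).2 hq, map_one, map_one]
  have hbot : T.map ψ = ⊥ := by
    refine ((alternatingGroup.isSimpleGroup (α := Fin 5) (by simp)).eq_bot_or_eq_top_of_normal _
      inferInstance).resolve_right fun htop => ?_
    let p : alternatingGroup (Fin 5) := ⟨finRotate 5 * finRotate 5, Equiv.Perm.mem_alternatingGroup.2 (by decide)⟩
    have hp : p ^ 3 ≠ 1 := by decide +kernel
    exact hp (hT3 p (htop ▸ mem_top p))
  have hg1 : ψ ⟨g, hgL⟩ = 1 := by
    have : ψ ⟨g, hgL⟩ ∈ T.map ψ := ⟨⟨g, hgL⟩, h, rfl⟩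
    rwa [hbot, mem_bot] at this
  have hq : (⟨g, hgL⟩ : s.L) ^ 3 ∈ s.Q.subgroupOf s.L := by
    rw [mem_subgroupOf, coe_pow]
    exact cube hg h
  have hq' : e ((⟨g, hgL⟩ : s.L) : s.L ⧸ s.Q.subgroupOf s.L) ^ 3 = 1 := by
    rw [← map_pow, ← QuotientGroup.mk_pow, (QuotientGroup.eq_one_iff _).2 hq, map_one]
  rcases (hr _).1 hg1 with h1 | h1
  · rw [← map_one e] at h1
    exact mem_subgroupOf.1 ((QuotientGroup.eq_one_iff _).1 (e.injective h1))
  · exfalso
    have hm : (-1 : Matrix.SpecialLinearGroup (Fin 2) (ZMod 5)) ^ 3 ≠ 1 := by decide +kernel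
    exact hm (by
      rw [← h1]
      exact hq')

theorem mem_of_invert (F : Facts f) {g : G} (hg : g ∈ normalizer (s.Z : Set G)) (h : F.data.Invert g) :
    g * f.t ∈ s.Q :=
  F.mem_of_triv (mul_mem hg (F.L_le_norm f.t_memL)) fun w => by
    rw [F.data.act_mul (F.norm_le_nm hg) (F.norm_le_nm (F.L_le_norm f.t_memL)), F.act_t, h, inv_inv]

/-- An element of order five of `L`. -/
theorem exists_five (F : Facts f) : ∃ g ∈ s.L, F.data.Five g ∧ ∀ k, 0 < k → k < 5 →
    ∃ l ∈ s.L, ¬ ∀ w, F.data.act (g ^ k) (F.data.act l w) = F.data.act l (F.data.act (g ^ k) w) := by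
  obtain ⟨e⟩ := s.hLq
  haveI := s.hQn
  obtain ⟨g0, hg0⟩ := QuotientGroup.mk_surjective (e.symm Classical.A5InPSL.y₁)
  obtain ⟨l0, hl0⟩ := QuotientGroup.mk_surjective (e.symm Classical.A5InPSL.x₁)
  have hg5 : ((g0 : G)) ^ 5 ∈ s.Q := by
    rw [← coe_pow, ← mem_subgroupOf, ← QuotientGroup.eq_one_iff, QuotientGroup.mk_pow, hg0, ← map_pow,
      sl25_y.1, map_one]
  have hn : ∀ l : s.L, (l : G) ∈ F.data.nm := fun l => F.norm_le_nm (F.L_le_norm l.2)
  refine ⟨g0, g0.2, ⟨hn g0, F.L_fix g0.2, F.triv_Q hg5, fun h => ?_⟩, fun k hk0 hk5 => ⟨l0, l0.2, fun h => ?_⟩⟩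
  · have h1 := F.mem_of_triv (F.L_le_norm g0.2) h
    rw [← mem_subgroupOf, ← QuotientGroup.eq_one_iff, hg0] at h1
    exact sl25_y.2.1 (e.symm.injective (h1.trans (map_one e.symm).symm))
  · have hc : ⁅(g0 : G) ^ k, (l0 : G)⁆ ∈ s.Q := by
      refine F.mem_of_triv (F.L_le_norm ?_) fun w => ?_
      · rw [commutatorElement_def]
        exact mul_mem (mul_mem (mul_mem (pow_mem g0.2 k) l0.2) (inv_mem (pow_mem g0.2 k))) (inv_mem l0.2)
      · have hp := pow_mem (hn g0) k
        rw [commutatorElement_def, F.data.act_mul (mul_mem (mul_mem hp (hn l0)) (inv_mem hp)) (inv_mem (hn l0)),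
          F.data.act_mul (mul_mem hp (hn l0)) (inv_mem hp), F.data.act_mul hp (hn l0), h,
          ← F.data.act_mul hp (inv_mem hp), mul_inv_cancel, F.data.act_one,
          ← F.data.act_mul (hn l0) (inv_mem (hn l0)), mul_inv_cancel, F.data.act_one]
    rw [show ⁅(g0 : G) ^ k, (l0 : G)⁆ = ((⁅g0 ^ k, l0⁆ : s.L) : G) by
        simp [commutatorElement_def],
      ← mem_subgroupOf, ← QuotientGroup.eq_one_iff] at hc
    have hc' : ⁅Classical.A5InPSL.y₁ ^ k, Classical.A5InPSL.x₁⁆ = (1 : Matrix.SpecialLinearGroup (Fin 2) (ZMod 5)) := by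
      have := congrArg e hc
      rw [commutatorElement_def, QuotientGroup.mk_mul, QuotientGroup.mk_mul, QuotientGroup.mk_mul,
        QuotientGroup.mk_inv, QuotientGroup.mk_inv, QuotientGroup.mk_pow, hg0, hl0] at this
      simpa [commutatorElement_def] using this
    have hcm : Commute (Classical.A5InPSL.y₁ ^ k) Classical.A5InPSL.x₁ :=
      commutatorElement_eq_one_iff_commute.1 hc'
    obtain ⟨j, hj⟩ : ∃ j, k * j % 5 = 1 := by
      interval_cases k
      exacts [⟨1, rfl⟩, ⟨3, rfl⟩, ⟨2, rfl⟩, ⟨4, rfl⟩]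
    have hcj := hcm.pow_left j
    rw [← pow_mul, pow_eq_pow_mod _ sl25_y.1, hj, pow_one] at hcj
    exact sl25_y.2.2 hcj.eq

theorem act_iterate (F : Facts f) {g : G} (hg : g ∈ F.data.nm) (k : ℕ) (w : F.data.W) :
    (F.data.act g)^[k] w = F.data.act (g ^ k) w := by
  induction k with
  | zero => rw [pow_zero, F.data.act_one]; rfl
  | succ k ih => rw [Function.iterate_succ_apply', ih, pow_succ', F.data.act_mul hg (pow_mem hg k)]

/-- The centraliser of `L` modulo `Q` in `C(Z)`. -/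
theorem cent_L (F : Facts f) {g : G} (hg : g ∈ normalizer (s.Z : Set G)) (hz : g * f.z * g⁻¹ = f.z)
    (hc : ∀ l ∈ s.L, ∀ w, F.data.act g (F.data.act l w) = F.data.act l (F.data.act g w)) :
    g ∈ s.Q ∨ g * f.t ∈ s.Q := by
  obtain ⟨a, haL, ha, hpow⟩ := F.exists_five
  obtain ⟨k, hk5, hk⟩ := ha.cent (F.norm_le_nm hg) hz (hc a haL)
  rcases Nat.eq_zero_or_pos k with rfl | hk0
  · rcases hk with hk | hk
    · exact Or.inl (F.mem_of_triv hg hk)
    · exact Or.inr (F.mem_of_invert hg hk)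
  exfalso
  obtain ⟨l, hl, hne⟩ := hpow k hk0 hk5
  refine hne fun w => ?_
  rw [← F.act_iterate ha.mem, ← F.act_iterate ha.mem]
  rcases hk with hk | hk
  · rw [← hk, ← hk, hc l hl]
  · have h1 := hc l hl w
    rw [hk, hk, map_inv] at h1
    exact inv_injective h1

/-- An element commuting with `L` up to sign modulo `Q` commutes with it. -/
theorem comm_of_sign (F : Facts f) {g : G} (hg : g ∈ normalizer (s.Z : Set G))
    (h : ∀ l ∈ s.L, (∀ w, F.data.act g (F.data.act l w) = F.data.act l (F.data.act g w)) ∨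
      (∀ w, F.data.act g (F.data.act l w) = (F.data.act l (F.data.act g w))⁻¹)) :
    ∀ l ∈ s.L, ∀ w, F.data.act g (F.data.act l w) = F.data.act l (F.data.act g w) := by
  intro l hl
  have hl0 := hl
  rw [s.hL] at hl0
  induction hl0 using closure_induction with
  | mem x hx =>
    refine (h x hl).resolve_right fun hneg => ?_
    obtain ⟨k, hk⟩ := hx.2
    have hxn := F.norm_le_nm hx.1
    have hit : ∀ n : ℕ, ∀ w, F.data.act g (F.data.act (x ^ n) w) =
        if Even n then F.data.act (x ^ n) (F.data.act g w) else (F.data.act (x ^ n) (F.data.act g w))⁻¹ := by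
      intro n
      induction n with
      | zero => intro w; simp [F.data.act_one]
      | succ n ih =>
        intro w
        rw [pow_succ', F.data.act_mul hxn (pow_mem hxn n), hneg, ih, F.data.act_mul hxn (pow_mem hxn n)]
        by_cases he : Even n
        · rw [if_pos he, if_neg (by simp [Nat.even_add_one, he])]
        · rw [if_neg he, if_pos (by simp [Nat.even_add_one, he]), map_inv, inv_inv]
    obtain ⟨u, hu⟩ := F.data.exists_ne_one
    obtain ⟨w, rfl⟩ : ∃ w, F.data.act g w = u :=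
      ⟨F.data.act g⁻¹ u, by rw [← F.data.act_mul (F.norm_le_nm hg) (inv_mem (F.norm_le_nm hg)),
        mul_inv_cancel, F.data.act_one]⟩
    have h1 := hit (3 ^ k) w
    rw [if_neg (Nat.not_even_iff_odd.2 (Odd.pow (by decide))), ← hk, pow_orderOf_eq_one, F.data.act_one,
      F.data.act_one] at h1
    have h2 := F.data.cube' (F.data.act g w)
    rw [pow_succ, pow_two, show F.data.act g w * F.data.act g w = 1 by
      nth_rewrite 1 [h1]; exact inv_mul_cancel _, one_mul] at h2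
    exact hu h2
  | one => intro w; rw [F.data.act_one, F.data.act_one]
  | mul a b ha' hb' iha ihb =>
    intro w
    have ha := s.hL ▸ ha'
    have hb := s.hL ▸ hb'
    have hna := F.norm_le_nm (F.L_le_norm (s.hL ▸ ha'))
    have hnb := F.norm_le_nm (F.L_le_norm (s.hL ▸ hb'))
    rw [F.data.act_mul hna hnb, F.data.act_mul hna hnb, iha (s.hL ▸ ha'), ihb (s.hL ▸ hb')]
  | inv a ha' iha =>
    intro w
    have hna := F.norm_le_nm (F.L_le_norm (s.hL ▸ ha'))
    conv_rhs => rw [← show F.data.act a (F.data.act a⁻¹ w) = w by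
      rw [← F.data.act_mul hna (inv_mem hna), mul_inv_cancel, F.data.act_one]]
    rw [iha (s.hL ▸ ha'), F.data.act_inv_act hna]

/-- Every coset of `Q` in the normaliser of `Z` meets the centraliser of `t`. -/
theorem exists_mem_X (F : Facts f) {g : G} (hg : g ∈ normalizer (s.Z : Set G)) :
    ∃ q ∈ s.Q, g * q ∈ f.X := by
  have htN := F.L_le_norm f.t_memL
  have hnt := F.norm_le_nm htN
  have hng := F.norm_le_nm hg
  obtain ⟨d, hdd⟩ : ∃ d, d = f.t * (g * f.t * g⁻¹) := ⟨_, rfl⟩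
  have ht2 : f.t * f.t = 1 := by
    have := pow_orderOf_eq_one f.t
    rwa [f.t_ord, pow_two] at this
  have hd : d ∈ s.Q := hdd ▸ F.mem_of_triv (mul_mem htN (mul_mem (mul_mem hg htN) (inv_mem hg))) fun w => by
    rw [F.data.act_mul hnt (mul_mem (mul_mem hng hnt) (inv_mem hng)), F.data.act_mul (mul_mem hng hnt) (inv_mem hng),
      F.data.act_mul hng hnt, F.act_t, F.act_t, map_inv, inv_inv, ← F.data.act_mul hng (inv_mem hng),
      mul_inv_cancel, F.data.act_one]
  have hgt : g * f.t * g⁻¹ = f.t * d := by rw [hdd, ← mul_assoc, ht2, one_mul]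
  have hinv : f.t * d * f.t = d⁻¹ := by
    refine eq_inv_of_mul_eq_one_left ?_
    calc f.t * d * f.t * d = (f.t * d) * (f.t * d) := by group
      _ = g * (f.t * f.t) * g⁻¹ := by rw [← hgt]; group
      _ = 1 := by rw [ht2]; group
  have hconj : d * f.t * d⁻¹ = g * f.t * g⁻¹ := by
    have htd : f.t⁻¹ = f.t := inv_eq_of_mul_eq_one_right ht2
    have hd3 : d * d * d = 1 := by
      have := s.hQexp d hd
      rwa [pow_succ, pow_two] at this
    rw [hgt]
    calc d * f.t * d⁻¹ = f.t * (f.t⁻¹ * d * f.t) * d⁻¹ := by group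
      _ = f.t * d⁻¹ * d⁻¹ := by rw [htd, hinv]
      _ = f.t * d⁻¹ * d⁻¹ * (d * d * d) := by rw [hd3, mul_one]
      _ = f.t * d := by group
  refine ⟨g⁻¹ * d⁻¹ * g, ?_, mem_centralizer_singleton_iff.2 ?_⟩
  · have := F.data.conj_mem (inv_mem hng) (inv_mem hd)
    rwa [inv_inv] at this
  · calc g * (g⁻¹ * d⁻¹ * g) * f.t = d⁻¹ * (g * f.t * g⁻¹) * g := by group
      _ = d⁻¹ * (d * f.t * d⁻¹) * g := by rw [hconj]
      _ = f.t * (g * (g⁻¹ * d⁻¹ * g)) := by group

end Facts

end Cfsg.Agent.McLLoc
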