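import Cfsg.Agent.McLLoc.CentZForm

/-!
# An element of order five on the symplectic space

Coordinates with respect to the translates of a vector under an element of order five, and the
similitudes commuting with it or normalising the group it generates.
-/

set_option autoImplicit false
set_option maxRecDepth 20000

open Subgroup

namespace Cfsg.Agent.McLLoc

/-- Coordinate vectors. -/
abbrev V4 := ZMod 3 × ZMod 3 × ZMod 3 × ZMod 3

namespace V4

/-- The first basis vector. -/
def e0 : V4 := (1, 0, 0, 0)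

/-- The element of order five. -/
def S (c : V4) : V4 := (-c.2.2.2, c.1 - c.2.2.2, c.2.1 - c.2.2.2, c.2.2.1 - c.2.2.2)

/-- A multiple of a vector. -/
def sm (a : ZMod 3) (c : V4) : V4 := (a * c.1, a * c.2.1, a * c.2.2.1, a * c.2.2.2)

/-- The product in the field of order `81`. -/
def mv (c x : V4) : V4 := sm c.1 x + sm c.2.1 (S x) + sm c.2.2.1 (S (S x)) + sm c.2.2.2 (S (S (S x)))

/-- The product twisted by the automorphism squaring the fifth root of unity. -/
def tv (c x : V4) : V4 :=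
  sm c.1 x + sm c.2.1 (S (S x)) + sm c.2.2.1 (S (S (S (S x)))) + sm c.2.2.2 (S (S (S (S (S (S x))))))

/-- The alternating form invariant under the element of order five. -/
def bf (a b : ZMod 3) (c d : V4) : ZMod 3 :=
  a * (c.1 * d.2.1 - c.2.1 * d.1 + (c.2.1 * d.2.2.1 - c.2.2.1 * d.2.1) +
      (c.2.2.1 * d.2.2.2 - c.2.2.2 * d.2.2.1)) +
    b * (c.1 * d.2.2.1 - c.2.2.1 * d.1 + (c.2.1 * d.2.2.2 - c.2.2.2 * d.2.1)) -
    b * (c.1 * d.2.2.2 - c.2.2.2 * d.1)

/-- The ten powers of the element of order five up to sign. -/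
def cands : List V4 :=
  [e0, -e0, S e0, -S e0, S (S e0), -S (S e0), S (S (S e0)), -S (S (S e0)), S (S (S (S e0))), -S (S (S (S e0)))]

theorem cent_ok : ∀ c : V4, ∀ a b : ZMod 3, bf a b c (S c) = a → bf a b c (S (S c)) = b →
    (a = 0 ∧ b = 0) ∨ c ∈ cands := by
  decide +kernel

theorem sq_ok : ∀ c : V4, mv c c = e0 → c = e0 ∨ c = -e0 := by decide +kernel

theorem neg_ok : ∀ c : V4, mv c c = -e0 → ∀ x : V4, tv c x = -(mv x c) := by decide +kernel

end V4

namespace SympData

variable {G : Type*} [Group G] (D : SympData G)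

noncomputable instance : CommGroup D.W :=
  { (inferInstance : Group D.W) with mul_comm := D.mul_comm' }

/-- A power with exponent modulo three. -/
noncomputable def pw (a : ZMod 3) (w : D.W) : D.W := w ^ a.val

theorem pw_add (a b : ZMod 3) (w : D.W) : D.pw (a + b) w = D.pw a w * D.pw b w := by
  rw [pw, pw, pw, ← pow_add, ZMod.val_add]
  exact (pow_eq_pow_mod _ (D.cube' w)).symm

theorem pw_zero (w : D.W) : D.pw 0 w = 1 := by rw [pw, ZMod.val_zero, pow_zero]

theorem pw_one (w : D.W) : D.pw 1 w = w := by rw [pw, ZMod.val_one, pow_one]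

theorem pw_neg (a : ZMod 3) (w : D.W) : D.pw (-a) w = (D.pw a w)⁻¹ := by
  refine eq_inv_of_mul_eq_one_left ?_
  rw [← D.pw_add, neg_add_cancel, D.pw_zero]

theorem pw_sub (a b : ZMod 3) (w : D.W) : D.pw (a - b) w = D.pw a w * (D.pw b w)⁻¹ := by
  rw [sub_eq_add_neg, D.pw_add, D.pw_neg]

theorem act_pow_cls {f x : G} (hf : f ∈ D.nm) (hx : x ∈ D.Q) (n : ℕ) :
    D.act (f ^ n) (D.cls x) = D.cls (f ^ n * x * (f ^ n)⁻¹) := D.act_cls (pow_mem hf n) hx

/-- The point with the given coordinates. -/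
noncomputable def ev (f : G) (u : D.W) (c : V4) : D.W :=
  D.pw c.1 u * D.pw c.2.1 (D.act f u) * D.pw c.2.2.1 (D.act f (D.act f u)) *
    D.pw c.2.2.2 (D.act f (D.act f (D.act f u)))

theorem ev_add (f : G) (u : D.W) (c d : V4) : D.ev f u (c + d) = D.ev f u c * D.ev f u d := by
  simp only [ev, Prod.fst_add, Prod.snd_add, D.pw_add]
  ac_rfl

theorem ev_zero (f : G) (u : D.W) : D.ev f u 0 = 1 := by
  simp [ev, D.pw_zero]

theorem ev_neg (f : G) (u : D.W) (c : V4) : D.ev f u (-c) = (D.ev f u c)⁻¹ := by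
  refine eq_inv_of_mul_eq_one_left ?_
  rw [← D.ev_add, neg_add_cancel, D.ev_zero]

theorem ev_e0 (f : G) (u : D.W) : D.ev f u V4.e0 = u := by
  simp [ev, V4.e0, D.pw_zero, D.pw_one]

theorem ev_sm (f : G) (u : D.W) (a : ZMod 3) (c : V4) : D.ev f u (V4.sm a c) = D.pw a (D.ev f u c) := by
  have h : ∀ b : ZMod 3, ∀ w : D.W, D.pw (a * b) w = D.pw a (D.pw b w) := fun b w => by
    rw [pw, pw, pw, ← pow_mul, ZMod.val_mul, mul_comm b.val]
    exact (pow_eq_pow_mod _ (D.cube' w)).symm
  simp only [ev, V4.sm, h]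
  simp only [pw, mul_pow]

theorem act_pw (g : G) (a : ZMod 3) (w : D.W) : D.act g (D.pw a w) = D.pw a (D.act g w) := map_pow _ _ _

/-- The hypotheses on the element of order five. -/
structure Five (f : G) : Prop where
  mem : f ∈ D.nm
  fix_z : f * D.z * f⁻¹ = D.z
  five : D.Triv (f ^ 5)
  ne : ¬ D.Triv f

theorem act_five {f : G} (hf : f ∈ D.nm) (h5 : D.Triv (f ^ 5)) (w : D.W) :
    D.act f (D.act f (D.act f (D.act f (D.act f w)))) = w := by
  conv_rhs => rw [← h5 w]
  simp only [pow_succ, pow_zero, one_mul]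
  rw [D.act_mul (mul_mem (mul_mem (mul_mem hf hf) hf) hf) hf, D.act_mul (mul_mem (mul_mem hf hf) hf) hf,
    D.act_mul (mul_mem hf hf) hf, D.act_mul hf hf]

variable {D} {f : G} [Finite G]

/-- Invariant subgroups have order congruent to that of their fixed points. -/
theorem Five.card_mod (hf : D.Five f) (R : Subgroup D.W) (hR : ∀ w ∈ R, D.act f w ∈ R) :
    Nat.card R % 5 = {w : D.W | w ∈ R ∧ D.act f w = w}.ncard % 5 := by
  classical
  let σ : Equiv.Perm R :=
    { toFun := fun w => ⟨D.act f w, hR w w.2⟩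
      invFun := fun w => ⟨D.act f (D.act f (D.act f (D.act f w))), hR _ (hR _ (hR _ (hR _ w.2)))⟩
      left_inv := fun w => Subtype.ext (D.act_five hf.mem hf.five w)
      right_inv := fun w => Subtype.ext (D.act_five hf.mem hf.five w) }
  have h5 : σ ^ 5 = 1 := Equiv.ext fun w => Subtype.ext (D.act_five hf.mem hf.five w)
  haveI : Fact (Nat.Prime 5) := ⟨Nat.prime_five⟩
  have hp : IsPGroup 5 (zpowers σ) := by
    intro g
    refine ⟨1, ?_⟩
    obtain ⟨k, hk⟩ := mem_zpowers_iff.1 g.2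
    refine Subtype.ext ?_
    rw [SubgroupClass.coe_pow, ← hk, pow_one, ← zpow_natCast, ← zpow_mul, mul_comm, zpow_mul,
      zpow_natCast, h5, one_zpow]
    rfl
  have h := hp.card_modEq_card_fixedPoints R
  rw [Nat.ModEq] at h
  rw [h]
  congr 1
  refine Nat.card_congr ?_ |>.trans (Nat.card_coe_set_eq _)
  refine
    { toFun := fun w => ⟨(w.1 : D.W), w.1.2, congrArg Subtype.val (w.2 ⟨σ, mem_zpowers σ⟩)⟩
      invFun := fun w => ⟨⟨w.1, w.2.1⟩, fun g => ?_⟩
      left_inv := fun _ => rfl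
      right_inv := fun _ => rfl }
  obtain ⟨k, hk⟩ := mem_zpowers_iff.1 g.2
  show (g : Equiv.Perm R) ⟨w.1, w.2.1⟩ = ⟨w.1, w.2.1⟩
  rw [← hk]
  exact Equiv.Perm.zpow_apply_eq_self_of_apply_eq_self (Subtype.ext w.2.2) k

theorem Five.fixed_eq (hf : D.Five f) {w : D.W} (hw : D.act f w = w) : w = 1 := by
  classical
  by_contra hne
  let F : Subgroup D.W :=
    { carrier := {w | D.act f w = w}
      one_mem' := map_one _
      mul_mem' := fun {a b} ha hb => by
        show D.act f (a * b) = a * b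
        rw [map_mul, ha, hb]
      inv_mem' := fun {a} ha => by
        show D.act f a⁻¹ = a⁻¹
        rw [map_inv, ha] }
  have h := hf.card_mod ⊤ fun w _ => mem_top _
  rw [Subgroup.card_top, D.card_w] at h
  have hF : {w : D.W | w ∈ (⊤ : Subgroup D.W) ∧ D.act f w = w}.ncard = Nat.card F := by
    rw [← Nat.card_coe_set_eq]
    exact Nat.card_congr (Equiv.subtypeEquivRight fun w => ⟨fun h => h.2, fun h => ⟨mem_top _, h⟩⟩)
  rw [hF] at h
  have hd : Nat.card F ∣ 3 ^ 4 := by
    have := F.card_subgroup_dvd_card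
    rwa [D.card_w] at this
  obtain ⟨k, hk, hk'⟩ := (Nat.dvd_prime_pow Nat.prime_three).1 hd
  interval_cases k <;> rw [hk'] at h <;> norm_num at h
  · rw [pow_zero, Subgroup.card_eq_one] at hk'
    exact hne ((mem_bot).1 (hk' ▸ (show w ∈ F from hw)))
  · refine hf.ne fun v => ?_
    have htop : F = ⊤ := Subgroup.eq_top_of_card_eq F (by rw [hk', D.card_w]; norm_num)
    exact htop.ge (mem_top v)

theorem Five.ev_S (hf : D.Five f) (u : D.W) (c : V4) : D.act f (D.ev f u c) = D.ev f u (V4.S c) := by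
  have h4 : D.act f (D.act f (D.act f (D.act f u))) =
      (u * D.act f u * D.act f (D.act f u) * D.act f (D.act f (D.act f u)))⁻¹ := by
    refine eq_inv_of_mul_eq_one_left (hf.fixed_eq ?_)
    simp only [map_mul]
    rw [D.act_five hf.mem hf.five]
    ac_rfl
  simp only [ev, V4.S, map_mul, D.act_pw, h4, D.pw_sub, D.pw_neg]
  simp only [pw, inv_pow, mul_pow, mul_inv]
  ac_rfl

theorem Five.ev_bij (hf : D.Five f) {u : D.W} (hu : u ≠ 1) : Function.Bijective (D.ev f u) := by
  classical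
  let R : Subgroup D.W :=
    { carrier := Set.range (D.ev f u)
      one_mem' := ⟨0, D.ev_zero f u⟩
      mul_mem' := by rintro _ _ ⟨a, rfl⟩ ⟨b, rfl⟩; exact ⟨a + b, D.ev_add f u a b⟩
      inv_mem' := by rintro _ ⟨a, rfl⟩; exact ⟨-a, D.ev_neg f u a⟩ }
  have h := hf.card_mod R (by rintro _ ⟨a, rfl⟩; exact ⟨V4.S a, (hf.ev_S u a).symm⟩)
  have h1 : {w : D.W | w ∈ R ∧ D.act f w = w} = {1} := by
    ext w
    exact ⟨fun h => hf.fixed_eq h.2, fun h => by
      rw [Set.mem_singleton_iff] at h; subst h; exact ⟨one_mem _, map_one _⟩⟩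
  rw [h1, Set.ncard_singleton] at h
  have hd : Nat.card R ∣ 3 ^ 4 := by
    have := R.card_subgroup_dvd_card
    rwa [D.card_w] at this
  obtain ⟨k, hk, hk'⟩ := (Nat.dvd_prime_pow Nat.prime_three).1 hd
  interval_cases k <;> rw [hk'] at h <;> norm_num at h
  · rw [pow_zero, Subgroup.card_eq_one] at hk'
    exact absurd ((mem_bot).1 (hk' ▸ (show u ∈ R from ⟨V4.e0, D.ev_e0 f u⟩))) hu
  · have htop : R = ⊤ := Subgroup.eq_top_of_card_eq R (by rw [hk', D.card_w]; norm_num)
    refine (Nat.bijective_iff_surjective_and_card _).2 ⟨fun w => htop.ge (mem_top w), ?_⟩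
    rw [D.card_w]
    simp [V4]

end SympData

end Cfsg.Agent.McLLoc
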