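import Mathlib.GroupTheory.Commutator.Basic
import Mathlib.GroupTheory.QuotientGroup.Basic
import Mathlib.GroupTheory.PGroup
import Mathlib.Data.ZMod.Basic
import Mathlib.Tactic.Abel
import Mathlib.Tactic.Ring
import Mathlib.Tactic.IntervalCases

/-!
# The symplectic space of an extraspecial group of order `3 ^ 5`

An element of order five fixing the centre acts irreducibly on the quotient by the centre, and its
centraliser among the symplectic similitudes is found by a check on coordinate vectors.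
-/

set_option autoImplicit false

open Subgroup
open scoped commutatorElement

namespace Cfsg.Agent.McLLoc

/-- An extraspecial group of order `3 ^ 5` with centre generated by `z`. -/
structure SympData (G : Type*) [Group G] where
  /-- the group -/
  Q : Subgroup G
  /-- the generator of the centre -/
  z : G
  z_mem : z ∈ Q
  z_ord : orderOf z = 3
  z_comm : ∀ v ∈ Q, z * v = v * z
  card : Nat.card Q = 3 ^ 5
  comm_mem : ∀ v ∈ Q, ∀ w ∈ Q, ⁅v, w⁆ ∈ zpowers z
  cube : ∀ v ∈ Q, v ^ 3 ∈ zpowers z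
  nonab : ∃ v ∈ Q, ∃ w ∈ Q, v * w ≠ w * v

namespace SympData

variable {G : Type*} [Group G] (D : SympData G)

/-- The centre inside the group. -/
abbrev Zq : Subgroup D.Q := (zpowers D.z).subgroupOf D.Q

theorem commute_of_mem {a v : G} (ha : a ∈ zpowers D.z) (hv : v ∈ D.Q) : a * v = v * a := by
  obtain ⟨k, rfl⟩ := mem_zpowers_iff.1 ha
  exact (Commute.zpow_left (D.z_comm v hv) k).eq

instance zq_normal : D.Zq.Normal := by
  refine ⟨fun a ha g => ?_⟩
  rw [mem_subgroupOf] at ha ⊢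
  show (g : G) * a * (g : G)⁻¹ ∈ zpowers D.z
  rwa [← D.commute_of_mem ha g.2, mul_inv_cancel_right]

/-- The quotient by the centre. -/
abbrev W : Type _ := D.Q ⧸ D.Zq

open Classical in
/-- The class of an element. -/
noncomputable def cls (x : G) : D.W := if h : x ∈ D.Q then QuotientGroup.mk ⟨x, h⟩ else 1

theorem cls_of {x : G} (hx : x ∈ D.Q) : D.cls x = QuotientGroup.mk (⟨x, hx⟩ : D.Q) := dif_pos hx

theorem cls_one : D.cls 1 = 1 := by rw [D.cls_of (one_mem _)]; rfl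

theorem cls_mul {x y : G} (hx : x ∈ D.Q) (hy : y ∈ D.Q) : D.cls (x * y) = D.cls x * D.cls y := by
  rw [D.cls_of (mul_mem hx hy), D.cls_of hx, D.cls_of hy, ← QuotientGroup.mk_mul]; rfl

theorem cls_inv {x : G} (hx : x ∈ D.Q) : D.cls x⁻¹ = (D.cls x)⁻¹ := by
  rw [D.cls_of (inv_mem hx), D.cls_of hx, ← QuotientGroup.mk_inv]; rfl

theorem cls_eq {x y : G} (hx : x ∈ D.Q) (hy : y ∈ D.Q) : D.cls x = D.cls y ↔ x⁻¹ * y ∈ zpowers D.z := by
  rw [D.cls_of hx, D.cls_of hy, QuotientGroup.eq, mem_subgroupOf]; rfl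

theorem cls_eq_one {x : G} (hx : x ∈ D.Q) : D.cls x = 1 ↔ x ∈ zpowers D.z := by
  rw [D.cls_of hx, QuotientGroup.eq_one_iff, mem_subgroupOf]

theorem cls_surj (w : D.W) : ∃ x ∈ D.Q, D.cls x = w := by
  obtain ⟨⟨x, hx⟩, rfl⟩ := QuotientGroup.mk_surjective w
  exact ⟨x, hx, D.cls_of hx⟩

theorem mul_comm' (a b : D.W) : a * b = b * a := by
  obtain ⟨x, hx, rfl⟩ := D.cls_surj a
  obtain ⟨y, hy, rfl⟩ := D.cls_surj b
  rw [← D.cls_mul hx hy, ← D.cls_mul hy hx, D.cls_eq (mul_mem hx hy) (mul_mem hy hx)]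
  have h := D.comm_mem y⁻¹ (inv_mem hy) x⁻¹ (inv_mem hx)
  simpa [commutatorElement_def, mul_assoc] using h

theorem cube' (a : D.W) : a ^ 3 = 1 := by
  obtain ⟨x, hx, rfl⟩ := D.cls_surj a
  rw [D.cls_of hx, ← QuotientGroup.mk_pow, QuotientGroup.eq_one_iff, mem_subgroupOf]
  exact D.cube x hx

theorem card_w [Finite G] : Nat.card D.W = 81 := by
  have h := Subgroup.card_eq_card_quotient_mul_card_subgroup D.Zq
  rw [D.card, Nat.card_congr (subgroupOfEquivOfLe (zpowers_le.2 D.z_mem)).toEquiv, Nat.card_zpowers,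
    D.z_ord] at h
  show Nat.card (D.Q ⧸ D.Zq) = 81
  omega

/-- The elements normalising the group and its centre. -/
def nm : Subgroup G := normalizer (D.Q : Set G) ⊓ normalizer (zpowers D.z : Set G)

theorem conj_mem {g x : G} (hg : g ∈ D.nm) (hx : x ∈ D.Q) : g * x * g⁻¹ ∈ D.Q :=
  (mem_normalizer_iff.1 (mem_inf.1 hg).1 x).1 hx

/-- The conjugation by a normalising element. -/
def endo {g : G} (hg : g ∈ D.nm) : D.Q →* D.Q :=
  MonoidHom.mk' (fun x => ⟨g * x * g⁻¹, D.conj_mem hg x.2⟩) fun x y => Subtype.ext (by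
    show g * (x * y : G) * g⁻¹ = g * x * g⁻¹ * (g * y * g⁻¹)
    group)

open Classical in
/-- The action on the quotient. -/
noncomputable def act (g : G) : D.W →* D.W :=
  if hg : g ∈ D.nm then
    QuotientGroup.map D.Zq D.Zq (D.endo hg) fun x hx => by
      rw [mem_comap, mem_subgroupOf]
      exact (mem_normalizer_iff.1 (mem_inf.1 hg).2 (x : G)).1 hx
  else MonoidHom.id _

theorem act_cls {g x : G} (hg : g ∈ D.nm) (hx : x ∈ D.Q) : D.act g (D.cls x) = D.cls (g * x * g⁻¹) := by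
  rw [act, dif_pos hg, D.cls_of hx, QuotientGroup.map_mk, D.cls_of (D.conj_mem hg hx)]
  rfl

theorem act_mul {g h : G} (hg : g ∈ D.nm) (hh : h ∈ D.nm) (w : D.W) :
    D.act (g * h) w = D.act g (D.act h w) := by
  obtain ⟨x, hx, rfl⟩ := D.cls_surj w
  rw [D.act_cls (mul_mem hg hh) hx, D.act_cls hh hx, D.act_cls hg (D.conj_mem hh hx)]
  congr 1
  group

theorem act_one (w : D.W) : D.act 1 w = w := by
  obtain ⟨x, hx, rfl⟩ := D.cls_surj w
  rw [D.act_cls (one_mem _) hx]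
  simp

theorem act_inv_act {g : G} (hg : g ∈ D.nm) (w : D.W) : D.act g⁻¹ (D.act g w) = w := by
  rw [← D.act_mul (inv_mem hg) hg, inv_mul_cancel, D.act_one]

/-- Trivial action on the quotient. -/
def Triv (g : G) : Prop := ∀ w : D.W, D.act g w = w

/-- Inversion of the quotient. -/
def Invert (g : G) : Prop := ∀ w : D.W, D.act g w = w⁻¹

open Classical in
/-- The value of the commutator. -/
noncomputable def br (x y : G) : ZMod 3 :=
  if h : ∃ a : ZMod 3, ⁅x, y⁆ = D.z ^ a.val then h.choose else 0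

theorem zpow_add' (a b : ZMod 3) : D.z ^ a.val * D.z ^ b.val = D.z ^ (a + b).val := by
  have h := pow_mod_orderOf D.z (a.val + b.val)
  rw [D.z_ord] at h
  rw [ZMod.val_add, h, pow_add]

theorem zpow_inj {a b : ZMod 3} (h : D.z ^ a.val = D.z ^ b.val) : a = b := by
  rw [pow_inj_mod, D.z_ord, Nat.mod_eq_of_lt (ZMod.val_lt a), Nat.mod_eq_of_lt (ZMod.val_lt b)] at h
  exact ZMod.val_injective 3 h

theorem exists_zpow {a : G} (ha : a ∈ zpowers D.z) : ∃ b : ZMod 3, a = D.z ^ b.val := by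
  obtain ⟨k, rfl⟩ := mem_zpowers_iff.1 ha
  refine ⟨(k : ZMod 3), ?_⟩
  rw [← zpow_natCast, zpow_eq_zpow_iff_modEq, D.z_ord, ← ZMod.intCast_eq_intCast_iff]
  simp

theorem br_spec {x y : G} (hx : x ∈ D.Q) (hy : y ∈ D.Q) : ⁅x, y⁆ = D.z ^ (D.br x y).val := by
  have h := D.exists_zpow (D.comm_mem x hx y hy)
  rw [br, dif_pos h]
  exact h.choose_spec

theorem br_eq {x y : G} (hx : x ∈ D.Q) (hy : y ∈ D.Q) {a : ZMod 3} (h : ⁅x, y⁆ = D.z ^ a.val) :
    D.br x y = a := D.zpow_inj ((D.br_spec hx hy).symm.trans h)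

theorem br_mul_left {x y w : G} (hx : x ∈ D.Q) (hy : y ∈ D.Q) (hw : w ∈ D.Q) :
    D.br (x * y) w = D.br x w + D.br y w := by
  refine D.br_eq (mul_mem hx hy) hw ?_
  rw [commutatorElement_mul_left_eq_conj_mul, add_comm, ← D.zpow_add', ← D.br_spec hx hw,
    ← D.br_spec hy hw]
  congr 1
  rw [← D.commute_of_mem (D.comm_mem y hy w hw) hx, mul_inv_cancel_right]

theorem br_swap {x y : G} (hx : x ∈ D.Q) (hy : y ∈ D.Q) : D.br y x = - D.br x y := by
  refine D.br_eq hy hx ?_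
  rw [← commutatorElement_inv x y, D.br_spec hx hy, inv_eq_iff_mul_eq_one, D.zpow_add', add_neg_cancel,
    ZMod.val_zero, pow_zero]

theorem br_self {x : G} (hx : x ∈ D.Q) : D.br x x = 0 :=
  D.br_eq hx hx (by rw [commutatorElement_self, ZMod.val_zero, pow_zero])

theorem br_one_left {w : G} (hw : w ∈ D.Q) : D.br 1 w = 0 :=
  D.br_eq (one_mem _) hw (by rw [commutatorElement_one_left, ZMod.val_zero, pow_zero])

theorem br_pow_left {x w : G} (hx : x ∈ D.Q) (hw : w ∈ D.Q) (n : ℕ) :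
    D.br (x ^ n) w = (n : ZMod 3) * D.br x w := by
  induction n with
  | zero => rw [pow_zero, D.br_one_left hw, Nat.cast_zero, zero_mul]
  | succ n ih => rw [pow_succ, D.br_mul_left (pow_mem hx n) hx hw, ih, Nat.cast_succ]; ring

theorem br_zero_of_center {a w : G} (ha : a ∈ zpowers D.z) (hw : w ∈ D.Q) : D.br a w = 0 :=
  D.br_eq (zpowers_le.2 D.z_mem ha) hw (by
    rw [ZMod.val_zero, pow_zero, commutatorElement_eq_one_iff_mul_comm]; exact D.commute_of_mem ha hw)

theorem br_congr_left {x x' w : G} (hx : x ∈ D.Q) (hx' : x' ∈ D.Q) (hw : w ∈ D.Q)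
    (h : D.cls x = D.cls x') : D.br x w = D.br x' w := by
  have h' := (D.cls_eq hx hx').1 h
  rw [show x' = x * (x⁻¹ * x') by group, D.br_mul_left hx (zpowers_le.2 D.z_mem h') hw,
    D.br_zero_of_center h' hw, add_zero]

theorem br_congr {x x' y y' : G} (hx : x ∈ D.Q) (hx' : x' ∈ D.Q) (hy : y ∈ D.Q) (hy' : y' ∈ D.Q)
    (h1 : D.cls x = D.cls x') (h2 : D.cls y = D.cls y') : D.br x y = D.br x' y' := by
  rw [D.br_congr_left hx hx' hy h1, D.br_swap hy hx', D.br_congr_left hy hy' hx' h2, ← D.br_swap hy' hx']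

theorem br_conj {g x y : G} (hg : g ∈ D.nm) (hz : g * D.z * g⁻¹ = D.z) (hx : x ∈ D.Q) (hy : y ∈ D.Q) :
    D.br (g * x * g⁻¹) (g * y * g⁻¹) = D.br x y := by
  refine D.br_eq (D.conj_mem hg hx) (D.conj_mem hg hy) ?_
  rw [← conjugate_commutatorElement, D.br_spec hx hy, ← conj_pow, hz]

theorem br_conj_neg {g x y : G} (hg : g ∈ D.nm) (hz : g * D.z * g⁻¹ = D.z⁻¹) (hx : x ∈ D.Q) (hy : y ∈ D.Q) :
    D.br (g * x * g⁻¹) (g * y * g⁻¹) = - D.br x y := by
  refine D.br_eq (D.conj_mem hg hx) (D.conj_mem hg hy) ?_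
  rw [← conjugate_commutatorElement, D.br_spec hx hy, ← conj_pow, hz, inv_pow, inv_eq_iff_mul_eq_one,
    D.zpow_add', add_neg_cancel, ZMod.val_zero, pow_zero]

theorem exists_br_ne : ∃ x ∈ D.Q, ∃ y ∈ D.Q, D.br x y ≠ 0 := by
  obtain ⟨x, hx, y, hy, h⟩ := D.nonab
  refine ⟨x, hx, y, hy, fun h0 => h ?_⟩
  rw [← commutatorElement_eq_one_iff_mul_comm, D.br_spec hx hy, h0, ZMod.val_zero, pow_zero]

end SympData

end Cfsg.Agent.McLLoc
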