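import Cfsg.Agent.McLLoc.CentZData
import Cfsg.Agent.McLLoc.CentZTools

/-!
# The normaliser of `Z` in the centraliser of the involution, modulo the involution
-/

set_option autoImplicit false
set_option maxRecDepth 20000

open Subgroup
open scoped commutatorElement

namespace Cfsg.Agent.McLLoc

variable {G : Type*} [Group G] [Finite G] {s : Setting G}

/-- The image of `L ⊓ C(t)`. -/
abbrev EQ (f : Frame s) : Subgroup f.Xq := (s.L.subgroupOf f.X).map f.proj

/-- Its derived subgroup. -/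
abbrev AQ (f : Frame s) : Subgroup f.Xq := ⁅EQ f, EQ f⁆

namespace Facts

variable {f : Frame s}

theorem t_sq (_F : Facts f) : f.t * f.t = 1 := by
  have := pow_orderOf_eq_one f.t
  rwa [f.t_ord, pow_two] at this

theorem t_cases (F : Facts f) {g : G} (h : g ∈ zpowers f.t) : g = 1 ∨ g = f.t := by
  obtain ⟨k, rfl⟩ := mem_zpowers_iff.1 h
  rw [← zpow_mod_orderOf, f.t_ord]
  have h2 : k % ((2 : ℕ) : ℤ) = 0 ∨ k % ((2 : ℕ) : ℤ) = 1 := by omega
  rcases h2 with e | e <;> rw [e]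
  · exact Or.inl (zpow_zero _)
  · exact Or.inr (zpow_one _)

theorem proj_eq (_F : Facts f) {a b : f.X} : f.proj a = f.proj b ↔ (a : G)⁻¹ * (b : G) ∈ zpowers f.t := by
  show (a : f.Xq) = (b : f.Xq) ↔ _
  rw [QuotientGroup.eq]
  exact mem_subgroupOf

theorem proj_eq' (F : Facts f) {a b : f.X} (h : f.proj a = f.proj b) :
    (b : G) = a ∨ (b : G) = (a : G) * f.t := by
  rcases F.t_cases (F.proj_eq.1 h) with e | e
  · exact Or.inl (inv_mul_eq_one.1 e).symm
  · exact Or.inr (by rw [← e, mul_inv_cancel_left])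

theorem cube_unique (F : Facts f) {a b : f.X} (ha : (a : G) ^ 3 = 1) (hb : (b : G) ^ 3 = 1)
    (h : f.proj a = f.proj b) : (b : G) = a := by
  refine (F.proj_eq' h).resolve_right fun e => ?_
  have hc : Commute (a : G) f.t := mem_centralizer_singleton_iff.1 a.2
  rw [e, hc.mul_pow, ha, one_mul, pow_succ, pow_two, F.t_sq, one_mul] at hb
  have := f.t_ord
  rw [hb, orderOf_one] at this
  omega

theorem t_fix (F : Facts f) : f.t * f.z * f.t⁻¹ = f.z := F.L_fix f.t_memL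

theorem z_cube (F : Facts f) : f.z ^ 3 = 1 := by
  have := pow_orderOf_eq_one f.z
  rwa [F.z_ord] at this

theorem zq_ord (F : Facts f) : orderOf f.zq = 3 := by
  haveI : Fact (Nat.Prime 3) := ⟨Nat.prime_three⟩
  refine orderOf_eq_prime ?_ fun h => ?_
  · rw [← map_pow]
    convert map_one f.proj
    exact Subtype.ext F.z_cube
  · have := F.cube_unique (a := 1) (b := ⟨f.z, f.z_memX⟩) (one_pow 3) F.z_cube (by rw [map_one]; exact h.symm)
    have h3 := F.z_ord
    rw [show f.z = 1 from this, orderOf_one] at h3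
    omega

theorem norm_of_proj (F : Facts f) {g : f.X} (h : f.proj g ∈ normalizer (zpowers f.zq : Set f.Xq)) :
    (g : G) ∈ normalizer (s.Z : Set G) := by
  have key : ∀ {g : f.X}, f.proj g ∈ normalizer (zpowers f.zq : Set f.Xq) → ∀ x ∈ s.Z,
      (g : G) * x * (g : G)⁻¹ ∈ s.Z := by
    intro g h x hx
    rw [← f.hz] at hx ⊢
    obtain ⟨j, rfl⟩ := mem_zpowers_iff.1 hx
    obtain ⟨k, hk⟩ := mem_zpowers_iff.1 ((mem_normalizer_iff.1 h _).1 (mem_zpowers f.zq))
    rw [← map_zpow, ← map_inv, ← map_mul, ← map_mul] at hk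
    have e := F.cube_unique (a := ⟨f.z, f.z_memX⟩ ^ k) (b := g * ⟨f.z, f.z_memX⟩ * g⁻¹) (by
        rw [coe_zpow, ← zpow_natCast, ← zpow_mul, mul_comm, zpow_mul, zpow_natCast, F.z_cube, one_zpow]) (by
        rw [coe_mul, coe_mul, coe_inv, conj_pow, F.z_cube, mul_one, mul_inv_cancel]) hk
    rw [coe_mul, coe_mul, coe_inv, coe_zpow] at e
    rw [← conj_zpow, show (g : G) * f.z * (g : G)⁻¹ = f.z ^ k from e]
    exact zpow_mem (zpow_mem (mem_zpowers f.z) k) j
  refine mem_normalizer_iff.2 fun x => ⟨key h x, fun hx => ?_⟩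
  have h' := inv_mem h
  rw [← map_inv] at h'
  have := key h' _ hx
  rwa [coe_inv, show (g : G)⁻¹ * ((g : G) * x * (g : G)⁻¹) * (g : G)⁻¹⁻¹ = x by group] at this

theorem proj_norm (F : Facts f) {g : f.X} (h : (g : G) ∈ normalizer (s.Z : Set G)) :
    f.proj g ∈ normalizer (zpowers f.zq : Set f.Xq) := by
  have key : ∀ {g : f.X}, (g : G) ∈ normalizer (s.Z : Set G) → ∀ x ∈ zpowers f.zq,
      f.proj g * x * (f.proj g)⁻¹ ∈ zpowers f.zq := by
    intro g h x hx
    obtain ⟨j, rfl⟩ := mem_zpowers_iff.1 hx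
    rw [← conj_zpow]
    refine zpow_mem ?_ j
    rw [← map_inv, ← map_mul, ← map_mul]
    rcases F.conj_z h with e | e
    · rw [show g * ⟨f.z, f.z_memX⟩ * g⁻¹ = (⟨f.z, f.z_memX⟩ : f.X) from Subtype.ext e]
      exact mem_zpowers _
    · rw [show g * ⟨f.z, f.z_memX⟩ * g⁻¹ = (⟨f.z, f.z_memX⟩ : f.X)⁻¹ from Subtype.ext e, map_inv]
      exact inv_mem (mem_zpowers _)
  refine mem_normalizer_iff.2 fun x => ⟨key h x, fun hx => ?_⟩
  have := key (g := g⁻¹) (inv_mem h) _ hx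
  rwa [map_inv, show (f.proj g)⁻¹ * (f.proj g * x * (f.proj g)⁻¹) * (f.proj g)⁻¹⁻¹ = x by group] at this

theorem mem_cent_iff (F : Facts f) {g : f.X} :
    f.proj g ∈ centralizer ({f.zq} : Set f.Xq) ↔ (g : G) * f.z * (g : G)⁻¹ = f.z := by
  rw [mem_centralizer_singleton_iff]
  constructor
  · intro h
    have := F.cube_unique (a := ⟨f.z, f.z_memX⟩) (b := g * ⟨f.z, f.z_memX⟩ * g⁻¹) F.z_cube (by
      rw [coe_mul, coe_mul, coe_inv, conj_pow, F.z_cube, mul_one, mul_inv_cancel]) (by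
      rw [map_mul, map_mul, map_inv, h, mul_inv_cancel_right])
    exact this
  · intro h
    rw [← map_mul, ← map_mul]
    exact congrArg f.proj (Subtype.ext (mul_inv_eq_iff_eq_mul.1 h))

theorem z'_memL (F : Facts f) : f.z' ∈ s.L := by
  rw [s.hL]
  refine subset_closure ⟨?_, ?_⟩
  · have hS := s.hJS f.z'_mem
    have h : s.Z ≤ centralizer ((s.S : Subgroup G) : Set G) := s.hZ ▸ inf_le_right
    refine mem_normalizer_iff.2 fun x => ?_
    have hc : ∀ y ∈ s.Z, f.z' * y = y * f.z' := fun y hy => mem_centralizer_iff.1 (h hy) _ hS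
    refine ⟨fun hx => by rwa [hc x hx, mul_inv_cancel_right], fun hx => ?_⟩
    have h1 := hc _ hx
    rw [show f.z' * (f.z' * x * f.z'⁻¹) = f.z' * x * f.z'⁻¹ * f.z' from h1] at h1
    have h2 : f.z' * (f.z' * x * f.z'⁻¹) = f.z' * x := by rw [hc _ hx, inv_mul_cancel_right]
    rwa [mul_left_cancel h2] at hx
  · obtain ⟨k, -, hk⟩ := (Nat.dvd_prime_pow Nat.prime_three).1
      (orderOf_dvd_of_pow_eq_one (show f.z' ^ (3 ^ 1) = 1 by rw [pow_one]; exact s.hJexp _ f.z'_mem))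
    exact ⟨k, hk⟩

theorem z_memL (F : Facts f) : f.z ∈ s.L := s.hQL F.z_memQ

theorem zq_memE (F : Facts f) : f.zq ∈ EQ f := ⟨⟨f.z, f.z_memX⟩, F.z_memL, rfl⟩

theorem z'q_memE (F : Facts f) : f.z'q ∈ EQ f := ⟨⟨f.z', f.z'_memX⟩, F.z'_memL, rfl⟩

theorem E_le_cent (F : Facts f) : EQ f ≤ centralizer ({f.zq} : Set f.Xq) := by
  rintro _ ⟨a, ha, rfl⟩
  exact F.mem_cent_iff.2 (F.L_fix ha)

theorem exists_psi (F : Facts f) : ∃ ψ : EQ f →* alternatingGroup (Fin 5),
    Function.Surjective ψ ∧ ∀ x : EQ f, ψ x = 1 ↔ (x : f.Xq) ∈ zpowers f.zq := by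
  obtain ⟨e⟩ := s.hLq
  haveI := s.hQn
  obtain ⟨r, hrs, hr⟩ := exists_red
  let E0 := s.L.subgroupOf f.X
  let toL : E0 →* s.L := MonoidHom.mk' (fun a => ⟨((a : f.X) : G), mem_subgroupOf.1 a.2⟩) fun _ _ => rfl
  let ψ0 : E0 →* alternatingGroup (Fin 5) :=
    r.comp (e.toMonoidHom.comp ((QuotientGroup.mk' (s.Q.subgroupOf s.L)).comp toL))
  let π : E0 →* EQ f := f.proj.subgroupMap E0
  have hπ : Function.Surjective π := f.proj.subgroupMap_surjective E0
  have hQ : ∀ l : s.L, e (l : s.L ⧸ s.Q.subgroupOf s.L) = 1 ↔ (l : G) ∈ s.Q := fun l => by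
    rw [← map_one e, e.injective.eq_iff, QuotientGroup.eq_one_iff, mem_subgroupOf]
  have htQ : f.t ∉ s.Q := fun h => by
    obtain ⟨u, hu⟩ := F.data.exists_ne_one
    have h1 := F.triv_Q h u
    rw [F.act_t u] at h1
    have h3 := F.data.cube' u
    rw [pow_succ, pow_two, show u * u = 1 by nth_rewrite 1 [← h1]; exact inv_mul_cancel u, one_mul] at h3
    exact hu h3
  let tL : s.L := ⟨f.t, f.t_memL⟩
  have ht : e (tL : s.L ⧸ s.Q.subgroupOf s.L) = -1 := by
    refine (sl25_sq _ ?_).resolve_left fun h => htQ ((hQ _).1 h)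
    rw [← map_mul, ← QuotientGroup.mk_mul, hQ]
    show f.t * f.t ∈ s.Q
    rw [F.t_sq]; exact one_mem _
  have hker : ∀ a : E0, ψ0 a = 1 ↔ ((a : f.X) : G) ∈ s.Q ∨ ((a : f.X) : G) * f.t ∈ s.Q := by
    intro a
    show r (e (toL a : s.L ⧸ s.Q.subgroupOf s.L)) = 1 ↔ _
    rw [hr, hQ]
    refine or_congr Iff.rfl ?_
    have h' := hQ (toL a * tL)
    rw [QuotientGroup.mk_mul, map_mul, ht] at h'
    rw [show ((a : f.X) : G) * f.t = ((toL a * tL : s.L) : G) from rfl, ← h']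
    have hn : (-1 : Matrix.SpecialLinearGroup (Fin 2) (ZMod 5)) * -1 = 1 := by decide +kernel
    exact ⟨fun h => by rw [h, hn], fun h => mul_right_cancel (h.trans hn.symm)⟩
  have hfac : π.ker ≤ ψ0.ker := by
    intro a ha
    have h1 : f.proj 1 = f.proj (a : f.X) := by rw [map_one]; exact (congrArg Subtype.val ha).symm
    rw [MonoidHom.mem_ker, hker]
    rcases F.proj_eq' h1 with e1 | e1
    · exact Or.inl (by rw [e1]; exact one_mem _)
    · exact Or.inr (by rw [e1, coe_one, one_mul, F.t_sq]; exact one_mem _)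
  refine ⟨π.liftOfSurjective hπ ⟨ψ0, hfac⟩, fun y => ?_, fun x => ?_⟩
  · obtain ⟨g, rfl⟩ := hrs y
    obtain ⟨l0, hl0⟩ := QuotientGroup.mk_surjective (e.symm g)
    obtain ⟨q, hq, hqX⟩ := F.exists_mem_X (F.L_le_norm l0.2)
    refine ⟨π ⟨⟨_, hqX⟩, mem_subgroupOf.2 (mul_mem l0.2 (s.hQL hq))⟩, ?_⟩
    rw [MonoidHom.liftOfRightInverse_comp_apply]
    show r (e ((l0 * ⟨q, s.hQL hq⟩ : s.L) : s.L ⧸ s.Q.subgroupOf s.L)) = r g
    rw [QuotientGroup.mk_mul, map_mul, hl0, (hQ ⟨q, s.hQL hq⟩).2 hq, mul_one, e.apply_symm_apply]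
  · obtain ⟨a, rfl⟩ := hπ x
    rw [MonoidHom.liftOfRightInverse_comp_apply]
    show ψ0 a = 1 ↔ f.proj (a : f.X) ∈ zpowers f.zq
    rw [hker]
    have hZ : ∀ g : f.X, (g : G) ∈ s.Q → f.proj g ∈ zpowers f.zq := fun g hg => by
      have h : (g : G) ∈ s.Z := F.centQt ▸ (⟨hg, g.2⟩ : (g : G) ∈ s.Q ⊓ f.X)
      rw [← f.hz, mem_zpowers_iff] at h
      obtain ⟨k, hk⟩ := h
      rw [show g = ⟨f.z, f.z_memX⟩ ^ k from Subtype.ext (by rw [coe_zpow]; exact hk.symm), map_zpow]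
      exact zpow_mem (mem_zpowers _) k
    constructor
    · rintro (h | h)
      · exact hZ _ h
      · have h1 := hZ ((a : f.X) * ⟨f.t, f.t_memX⟩) h
        rwa [map_mul, show f.proj ⟨f.t, f.t_memX⟩ = 1 from
          (QuotientGroup.eq_one_iff _).2 (mem_subgroupOf.2 (mem_zpowers _)), mul_one] at h1
    · intro h
      obtain ⟨k, hk⟩ := mem_zpowers_iff.1 h
      rw [← map_zpow] at hk
      have hzQ : f.z ^ k ∈ s.Q := zpow_mem F.z_memQ k
      rcases F.proj_eq' hk with e1 | e1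
      · exact Or.inl (by rw [e1, coe_zpow]; exact hzQ)
      · exact Or.inr (by rw [e1, coe_zpow, mul_assoc, F.t_sq, mul_one]; exact hzQ)

theorem card_E (F : Facts f) : Nat.card (EQ f) = 180 := by
  obtain ⟨ψ, hs, hk⟩ := F.exists_psi
  have h := ψ.ker.card_mul_index
  rw [index_ker, MonoidHom.range_eq_top.2 hs, card_top] at h
  have h3 : Nat.card ψ.ker = 3 := by
    rw [← F.zq_ord, ← Nat.card_zpowers]
    exact Nat.card_congr
      { toFun := fun x => ⟨((x : EQ f) : f.Xq), (hk _).1 x.2⟩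
        invFun := fun x => ⟨⟨x, zpowers_le.2 F.zq_memE x.2⟩, (hk _).2 x.2⟩
        left_inv := fun _ => rfl
        right_inv := fun _ => rfl }
  rw [h3, nat_card_alternatingGroup, Nat.card_fin, show Nat.factorial 5 = 120 from rfl] at h
  omega

theorem A_le_E (_F : Facts f) : AQ f ≤ EQ f := commutator_le_self _

theorem A_disjoint (F : Facts f) : ∀ x ∈ AQ f, x ∈ zpowers f.zq → x = 1 := by
  have hzc : ∀ h : EQ f, Commute (⟨f.zq, F.zq_memE⟩ : EQ f) h := fun h =>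
    Subtype.ext (mem_centralizer_singleton_iff.1 (F.E_le_cent h.2)).symm
  obtain ⟨K, -, hzK, hcK, -, -⟩ := exists_killer hzc (by rw [← orderOf_coe]; exact F.zq_ord)
    (by rw [F.card_E]; norm_num) (by rw [F.card_E]; norm_num)
  have hle : AQ f ≤ K.map (EQ f).subtype := commutator_le.2 fun a ha b hb =>
    ⟨⁅⟨a, ha⟩, ⟨b, hb⟩⁆, hcK _ _, rfl⟩
  intro x hx hxz
  obtain ⟨y, hy, rfl⟩ := hle hx
  by_contra h1
  haveI : Fact (Nat.Prime 3) := ⟨Nat.prime_three⟩
  obtain ⟨k, hk⟩ := mem_zpowers_iff.1 hxz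
  have hy' : (⟨f.zq, F.zq_memE⟩ : EQ f) ^ k = y := Subtype.ext (by rw [coe_zpow]; exact hk)
  refine hzK ?_
  have hord : orderOf (⟨f.zq, F.zq_memE⟩ : EQ f) = 3 := by rw [← orderOf_coe]; exact F.zq_ord
  have hk3 : ¬ (3 : ℤ) ∣ k := fun ⟨j, hj⟩ => h1 (by
    rw [show (EQ f).subtype y = f.zq ^ k from hk.symm, hj, zpow_mul,
      show f.zq ^ (3 : ℤ) = 1 by
        have := pow_orderOf_eq_one f.zq
        rw [F.zq_ord] at this
        exact_mod_cast this, one_zpow])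
  have h2 : k % 3 = 1 ∨ k % 3 = 2 := by omega
  have hk' : (⟨f.zq, F.zq_memE⟩ : EQ f) ^ (k % ((orderOf (⟨f.zq, F.zq_memE⟩ : EQ f) : ℕ) : ℤ)) ∈ K := by
    rw [zpow_mod_orderOf, hy']; exact hy
  rw [hord] at hk'
  rcases h2 with e | e <;> push_cast at hk' <;> rw [e] at hk'
  · simpa using hk'
  · have h4 : (⟨f.zq, F.zq_memE⟩ : EQ f) ^ (2 : ℤ) * (⟨f.zq, F.zq_memE⟩ : EQ f) ^ (2 : ℤ) = ⟨f.zq, F.zq_memE⟩ := by
      have h3 : (⟨f.zq, F.zq_memE⟩ : EQ f) ^ (3 : ℤ) = 1 := by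
        have := pow_orderOf_eq_one (⟨f.zq, F.zq_memE⟩ : EQ f)
        rw [hord] at this
        exact_mod_cast this
      rw [← zpow_add, show (2 : ℤ) + 2 = 3 + 1 from rfl, zpow_add, h3, one_mul, zpow_one]
    rw [← h4]
    exact mul_mem hk' hk'

theorem exists_eA (F : Facts f) : ∃ eA : AQ f ≃* alternatingGroup (Fin 5),
    ∀ x ∈ EQ f, ∃ k : ℤ, f.zq ^ k * x ∈ AQ f := by
  obtain ⟨ψ, hs, hk⟩ := F.exists_psi
  let χ : AQ f →* alternatingGroup (Fin 5) := ψ.comp (inclusion F.A_le_E)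
  have hperf : commutator (alternatingGroup (Fin 5)) = ⊤ := by
    refine ((alternatingGroup.isSimpleGroup (α := Fin 5) (by simp)).eq_bot_or_eq_top_of_normal _
      inferInstance).resolve_left fun h => ?_
    have h1 : ∀ a b : alternatingGroup (Fin 5), a * b = b * a := fun a b => by
      rw [← commutatorElement_eq_one_iff_mul_comm, ← mem_bot, ← h]
      exact commutator_mem_commutator (mem_top _) (mem_top _)
    have h2 : ¬ ∀ a b : alternatingGroup (Fin 5), a * b = b * a := by decide +kernel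
    exact h2 h1
  have hsurj : Function.Surjective χ := by
    rw [← MonoidHom.range_eq_top, eq_top_iff, ← hperf, commutator_def, commutator_le]
    intro a _ b _
    obtain ⟨a', rfl⟩ := hs a
    obtain ⟨b', rfl⟩ := hs b
    exact ⟨⟨⁅(a' : f.Xq), (b' : f.Xq)⁆, commutator_mem_commutator a'.2 b'.2⟩,
      (map_commutatorElement ψ a' b')⟩
  have hinj : Function.Injective χ := (injective_iff_map_eq_one χ).2 fun a ha =>
    Subtype.ext (F.A_disjoint a a.2 ((hk _).1 ha))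
  refine ⟨MulEquiv.ofBijective χ ⟨hinj, hsurj⟩, fun x hx => ?_⟩
  obtain ⟨a, ha⟩ := hsurj (ψ ⟨x, hx⟩)
  have h1 : ψ (⟨x, hx⟩ * (inclusion F.A_le_E a)⁻¹) = 1 := by
    rw [map_mul, map_inv, show ψ (inclusion F.A_le_E a) = ψ ⟨x, hx⟩ from ha, mul_inv_cancel]
  obtain ⟨k, hk'⟩ := mem_zpowers_iff.1 ((hk _).1 h1)
  refine ⟨-k, ?_⟩
  rw [zpow_neg, hk', coe_mul, coe_inv]
  simp

theorem mem_E_of (F : Facts f) {g : f.X} (hg : (g : G) ∈ s.L) : f.proj g ∈ EQ f := ⟨g, hg, rfl⟩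

theorem L_of_mem_E (F : Facts f) {g : f.X} (hg : f.proj g ∈ EQ f) : (g : G) ∈ s.L := by
  obtain ⟨a, ha, e⟩ := hg
  rcases F.proj_eq' e with e1 | e1
  · rw [e1]; exact ha
  · rw [e1]; exact mul_mem ha f.t_memL

theorem norm_E (F : Facts f) {x : f.Xq} (hx : x ∈ normalizer (zpowers f.zq : Set f.Xq)) :
    x ∈ normalizer (EQ f : Set f.Xq) := by
  have key : ∀ {x : f.Xq}, x ∈ normalizer (zpowers f.zq : Set f.Xq) → ∀ y ∈ EQ f, x * y * x⁻¹ ∈ EQ f := by
    intro x hx y hy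
    obtain ⟨g, rfl⟩ := QuotientGroup.mk'_surjective _ x
    obtain ⟨a, ha, rfl⟩ := hy
    have hg := F.norm_of_proj hx
    rw [← map_inv, ← map_mul, ← map_mul]
    refine F.mem_E_of ?_
    show (g : G) * (a : G) * (g : G)⁻¹ ∈ s.L
    have hmap : s.L.map (MulAut.conj (g : G)).toMonoidHom ≤ s.L := by
      conv_lhs => rw [s.hL]
      rw [MonoidHom.map_closure, closure_le]
      rintro _ ⟨l, ⟨hl, k, hk⟩, rfl⟩
      rw [s.hL]
      refine subset_closure ⟨?_, k, ?_⟩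
      · exact mul_mem (mul_mem hg hl) (inv_mem hg)
      · exact (MulEquiv.orderOf_eq (MulAut.conj (g : G)) l).trans hk
    exact hmap ⟨a, ha, rfl⟩
  refine mem_normalizer_iff.2 fun y => ⟨key hx y, fun hy => ?_⟩
  have := key (inv_mem hx) _ hy
  rwa [show x⁻¹ * (x * y * x⁻¹) * x⁻¹⁻¹ = y by group] at this

theorem norm_A (F : Facts f) {x : f.Xq} (hx : x ∈ normalizer (zpowers f.zq : Set f.Xq)) :
    x ∈ normalizer (AQ f : Set f.Xq) := by
  have key : ∀ {x : f.Xq}, x ∈ normalizer (EQ f : Set f.Xq) → ∀ y ∈ AQ f, x * y * x⁻¹ ∈ AQ f := by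
    intro x hx y hy
    have h : (AQ f).map (MulAut.conj x).toMonoidHom = AQ f := by
      rw [map_commutator]
      have : (EQ f).map (MulAut.conj x).toMonoidHom = EQ f := by
        refine SetLike.coe_injective ?_
        rw [coe_map]
        exact mem_normalizer_iff_conj_image_eq.1 hx
      rw [this]
    exact h.le ⟨y, hy, rfl⟩
  have hE := F.norm_E hx
  refine mem_normalizer_iff.2 fun y => ⟨key hE y, fun hy => ?_⟩
  have := key (inv_mem hE) _ hy
  rwa [show x⁻¹ * (x * y * x⁻¹) * x⁻¹⁻¹ = y by group] at this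

/-- An element centralising the image commutes with `L` modulo `Q`. -/
theorem act_comm (F : Facts f) {g : f.X} (hg : (g : G) ∈ normalizer (s.Z : Set G))
    (h : ∀ y ∈ AQ f, f.proj g * y = y * f.proj g) :
    ∀ l ∈ s.L, ∀ w, F.data.act g (F.data.act l w) = F.data.act l (F.data.act g w) := by
  refine F.comm_of_sign hg fun l hl => ?_
  obtain ⟨q, hq, hlX⟩ := F.exists_mem_X (F.L_le_norm hl)
  have hlN := F.L_le_norm hl
  have hl'N := F.L_le_norm (mul_mem hl (s.hQL hq))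
  have hact : ∀ w, F.data.act (l * q) w = F.data.act l w := F.act_congr hlN (by
    rw [inv_mul_cancel_left]; exact hq)
  obtain ⟨eA, hdec⟩ := F.exists_eA
  obtain ⟨k, hk⟩ := hdec _ (F.mem_E_of (g := ⟨l * q, hlX⟩) (mul_mem hl (s.hQL hq)))
  have hgz : f.proj g * f.zq * (f.proj g)⁻¹ ∈ zpowers f.zq :=
    (mem_normalizer_iff.1 (F.proj_norm hg) _).1 (mem_zpowers _)
  obtain ⟨i, hi⟩ := mem_zpowers_iff.1 hgz
  have hcomm : f.proj (g * ⟨l * q, hlX⟩ * g⁻¹ * (⟨l * q, hlX⟩ : f.X)⁻¹) = f.zq ^ (-k * i + k) := by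
    have h1 := h _ hk
    obtain ⟨a, ha⟩ : ∃ a, a = f.zq ^ k * f.proj ⟨l * q, hlX⟩ := ⟨_, rfl⟩
    rw [← ha] at h1
    have hl' : f.proj ⟨l * q, hlX⟩ = f.zq ^ (-k) * a := by rw [ha, zpow_neg, inv_mul_cancel_left]
    have hgz' : f.proj g * f.zq ^ (-k) * (f.proj g)⁻¹ = f.zq ^ (-k * i) := by
      rw [← conj_zpow, ← hi, ← zpow_mul, mul_comm]
    rw [map_mul, map_mul, map_mul, map_inv, map_inv, hl']
    calc f.proj g * (f.zq ^ (-k) * a) * (f.proj g)⁻¹ * (f.zq ^ (-k) * a)⁻¹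
        = (f.proj g * f.zq ^ (-k) * (f.proj g)⁻¹) * ((f.proj g * a) * (f.proj g)⁻¹ * a⁻¹) * f.zq ^ k := by
          group
      _ = f.zq ^ (-k * i + k) := by rw [hgz', h1, mul_inv_cancel_right, mul_inv_cancel, mul_one, zpow_add]
  rw [← map_zpow] at hcomm
  have hzQ : f.z ^ (-k * i + k) ∈ s.Q := zpow_mem F.z_memQ _
  have hgn := F.norm_le_nm hg
  have hlqn := F.norm_le_nm hl'N
  have hfact : ∀ w, F.data.act g (F.data.act l w) =
      F.data.act ((g : G) * (l * q) * (g : G)⁻¹ * (l * q)⁻¹) (F.data.act l (F.data.act g w)) := by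
    intro w
    rw [← hact, ← hact, ← F.data.act_mul hgn hlqn, ← F.data.act_mul hlqn hgn,
      ← F.data.act_mul (mul_mem (mul_mem (mul_mem hgn hlqn) (inv_mem hgn)) (inv_mem hlqn)) (mul_mem hlqn hgn)]
    congr 1
    group
  rcases F.proj_eq' hcomm.symm with e1 | e1 <;>
    simp only [coe_mul, coe_inv, coe_zpow] at e1
  · left
    intro w
    rw [hfact, e1, F.triv_Q hzQ]
  · right
    intro w
    rw [hfact, e1, F.data.act_mul (F.norm_le_nm (F.L_le_norm (s.hQL hzQ))) (F.norm_le_nm (F.L_le_norm f.t_memL)),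
      F.triv_Q hzQ, F.act_t]

/-- An element centralising `z` and the image lies in `⟨z⟩`. -/
theorem cent_A (F : Facts f) {x : f.Xq} (hx : x ∈ centralizer ({f.zq} : Set f.Xq))
    (h : ∀ y ∈ AQ f, x * y = y * x) : x ∈ zpowers f.zq := by
  obtain ⟨g, rfl⟩ := QuotientGroup.mk'_surjective _ x
  have hz := F.mem_cent_iff.1 hx
  have hN : (g : G) ∈ normalizer (s.Z : Set G) := F.norm_of_proj (mem_normalizer_iff.2 fun y => by
    have key : ∀ y ∈ zpowers f.zq, f.proj g * y = y * f.proj g := fun y hy => by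
      obtain ⟨k, rfl⟩ := mem_zpowers_iff.1 hy
      exact ((show Commute (f.proj g) f.zq from mem_centralizer_singleton_iff.1 hx).zpow_right k).eq
    refine ⟨fun hy => by rwa [key y hy, mul_inv_cancel_right], fun hy => ?_⟩
    have h1 := key _ hy
    have h2 : f.proj g * y * (f.proj g)⁻¹ = y := by
      have h3 : f.proj g * (f.proj g * y * (f.proj g)⁻¹) = f.proj g * y := by rw [h1, inv_mul_cancel_right]
      exact mul_left_cancel h3
    rwa [h2] at hy)
  have hZ : ∀ a : f.X, (a : G) ∈ s.Q → f.proj a ∈ zpowers f.zq := fun a ha => by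
    have h : (a : G) ∈ s.Z := F.centQt ▸ (⟨ha, a.2⟩ : (a : G) ∈ s.Q ⊓ f.X)
    rw [← f.hz, mem_zpowers_iff] at h
    obtain ⟨k, hk⟩ := h
    rw [show a = ⟨f.z, f.z_memX⟩ ^ k from Subtype.ext (by rw [coe_zpow]; exact hk.symm), map_zpow]
    exact zpow_mem (mem_zpowers _) k
  rcases F.cent_L hN hz (F.act_comm hN h) with h1 | h1
  · exact hZ _ h1
  · have h2 := hZ (g * ⟨f.t, f.t_memX⟩) h1
    rwa [map_mul, show f.proj ⟨f.t, f.t_memX⟩ = 1 from
      (QuotientGroup.eq_one_iff _).2 (mem_subgroupOf.2 (mem_zpowers _)), mul_one] at h2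

theorem c_norm (F : Facts f) : f.c ∈ normalizer (s.Z : Set G) := by
  refine F.norm_of_proj (g := ⟨f.c, f.c_memX⟩) ?_
  have key : ∀ y ∈ zpowers f.zq, f.cq * y * f.cq⁻¹ ∈ zpowers f.zq ∧ f.cq⁻¹ * y * f.cq ∈ zpowers f.zq := by
    intro y hy
    obtain ⟨k, rfl⟩ := mem_zpowers_iff.1 hy
    have e : f.cq * f.zq * f.cq⁻¹ = f.zq⁻¹ := by
      rw [← map_inv, ← map_mul, ← map_mul, ← map_inv]
      exact congrArg f.proj (Subtype.ext f.c_z)
    have e2 : f.cq⁻¹ * f.zq * f.cq = f.zq⁻¹ := by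
      calc f.cq⁻¹ * f.zq * f.cq = f.cq⁻¹ * (f.cq * f.zq * f.cq⁻¹)⁻¹ * f.cq := by rw [e, inv_inv]
        _ = f.zq⁻¹ := by group
    constructor
    · rw [← conj_zpow, e, inv_zpow]; exact inv_mem (zpow_mem (mem_zpowers _) k)
    · have h2 : f.cq⁻¹ * f.zq ^ k * f.cq = (f.cq⁻¹ * f.zq * f.cq) ^ k := by
        have := conj_zpow (i := k) (a := f.cq⁻¹) (b := f.zq)
        rwa [inv_inv, eq_comm] at this
      rw [h2, e2, inv_zpow]; exact inv_mem (zpow_mem (mem_zpowers _) k)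
  refine mem_normalizer_iff.2 fun y => ⟨fun hy => (key y hy).1, fun hy => ?_⟩
  have := (key _ hy).2
  rwa [show f.cq⁻¹ * (f.cq * y * f.cq⁻¹) * f.cq = y by group] at this

/-- An element inverting `z` and commuting with `L` modulo `Q` squares to `-1`. -/
theorem sq_invert (F : Facts f) {g : f.X} (hg : (g : G) ∈ normalizer (s.Z : Set G))
    (hgz : (g : G) * f.z * (g : G)⁻¹ = f.z⁻¹) (h : ∀ y ∈ AQ f, f.proj g * y = y * f.proj g) :
    ∀ w, F.data.act g (F.data.act g w) = w⁻¹ := by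
  have hc := F.act_comm hg h
  have hgn := F.norm_le_nm hg
  have hz2 : ((g : G) * g) * f.z * ((g : G) * g)⁻¹ = f.z := by
    rw [show (g : G) * g * f.z * ((g : G) * g)⁻¹ = g * ((g : G) * f.z * (g : G)⁻¹) * (g : G)⁻¹ by group, hgz,
      ← conj_inv, hgz, inv_inv]
  obtain ⟨a, haL, ha, -⟩ := F.exists_five
  intro w
  rw [← F.data.act_mul hgn hgn]
  rcases F.cent_L (mul_mem hg hg) hz2 (fun l hl w => by
    rw [F.data.act_mul hgn hgn, F.data.act_mul hgn hgn, hc l hl, hc l hl]) with h1 | h1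
  · exfalso
    have := ha.sq (g := (g : G)) (hc a haL) (fun w => by rw [← F.data.act_mul hgn hgn, F.triv_Q h1])
    have e := F.fix_of_triv hg this
    rw [hgz] at e
    have h3 := F.z_cube
    rw [pow_succ, pow_two, show f.z * f.z = 1 by nth_rewrite 1 [← e]; exact inv_mul_cancel _, one_mul] at h3
    have := F.z_ord
    rw [h3, orderOf_one] at this
    omega
  · have h2 := F.triv_Q h1 (F.data.act f.t w)
    rw [F.data.act_mul (mul_mem hgn hgn) (F.norm_le_nm (F.L_le_norm f.t_memL)), F.act_t, F.act_t] at h2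
    rwa [inv_inv] at h2

/-- The element of order four induces an outer automorphism. -/
theorem no_inner (F : Facts f) {g : f.X} (hg : (g : G) ∈ normalizer (s.Z : Set G))
    (hgz : (g : G) * f.z * (g : G)⁻¹ = f.z⁻¹) (h : ∀ y ∈ AQ f, f.proj g * y = y * f.proj g)
    {l : G} (hl : l ∈ s.L) (hc : f.c = l * g) : False := by
  have hcomm := F.act_comm hg h
  have hsq := F.sq_invert hg hgz h
  have hgn := F.norm_le_nm hg
  have hlN := F.L_le_norm hl
  have hln := F.norm_le_nm hlN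
  have hl2 : l * l ∈ s.Q := F.mem_of_triv (mul_mem hlN hlN) fun w => by
    have h1 : ∀ v, F.data.act f.t v = F.data.act (l * g) (F.data.act (l * g) v) := fun v => by
      rw [← hc, ← F.data.act_mul (F.norm_le_nm F.c_norm) (F.norm_le_nm F.c_norm), f.c_sq]
    have h2 := h1 w
    rw [F.act_t, F.data.act_mul hln hgn, F.data.act_mul hln hgn, hcomm l hl, hsq, map_inv, map_inv] at h2
    rw [F.data.act_mul hln hln]
    exact (inv_injective h2).symm
  obtain ⟨e⟩ := s.hLq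
  haveI := s.hQn
  obtain ⟨a, haL, ha, -⟩ := F.exists_five
  have hQ : ∀ m : s.L, e (m : s.L ⧸ s.Q.subgroupOf s.L) = 1 ↔ (m : G) ∈ s.Q := fun m => by
    rw [← map_one e, e.injective.eq_iff, QuotientGroup.eq_one_iff, mem_subgroupOf]
  -- so `l` is a scalar
  have hcl : ∀ m ∈ s.L, ∀ w, F.data.act l (F.data.act m w) = F.data.act m (F.data.act l w) := by
    intro m hm w
    have hmn := F.norm_le_nm (F.L_le_norm hm)
    have hcen : ∀ x y : Matrix.SpecialLinearGroup (Fin 2) (ZMod 5), x * x = 1 → x * y = y * x := fun x y hx => by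
      rcases sl25_sq x hx with rfl | rfl
      · rw [one_mul, mul_one]
      · ext i j
        simp [Matrix.SpecialLinearGroup.coe_mul]
    have h1 : e ((⟨l, hl⟩ * ⟨m, hm⟩ : s.L) : s.L ⧸ _) = e ((⟨m, hm⟩ * ⟨l, hl⟩ : s.L) : s.L ⧸ _) := by
      rw [QuotientGroup.mk_mul, QuotientGroup.mk_mul, map_mul, map_mul]
      refine hcen _ _ ?_
      rw [← map_mul, ← QuotientGroup.mk_mul, hQ]
      exact hl2
    rw [← F.data.act_mul hln hmn, ← F.data.act_mul hmn hln]
    have h2 := mem_subgroupOf.1 (QuotientGroup.eq.1 (e.injective h1))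
    exact (F.act_congr (mul_mem hlN (F.L_le_norm hm)) (by simpa using h2) w).symm
  have hz' : ∀ w, F.data.act f.c (F.data.act f.z' w) = F.data.act f.z' (F.data.act f.c w) := fun w => by
    rw [hc, F.data.act_mul hln hgn, F.data.act_mul hln hgn, hcomm _ F.z'_memL, hcl _ F.z'_memL]
  have hzn := F.norm_le_nm (F.L_le_norm F.z'_memL)
  have hcn := F.norm_le_nm F.c_norm
  have h2 : f.z' * f.z' ∈ s.Q := by
    refine F.mem_of_triv (mul_mem (F.L_le_norm F.z'_memL) (F.L_le_norm F.z'_memL)) fun w => ?_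
    obtain ⟨v, rfl⟩ : ∃ v, F.data.act f.c v = w :=
      ⟨F.data.act f.c⁻¹ w, by rw [← F.data.act_mul hcn (inv_mem hcn), mul_inv_cancel, F.data.act_one]⟩
    have h1 : F.data.act (f.c * f.z' * f.c⁻¹) (F.data.act f.c v) = F.data.act f.z' (F.data.act f.c v) := by
      rw [← hz', ← F.data.act_mul (mul_mem (mul_mem hcn hzn) (inv_mem hcn)) hcn, inv_mul_cancel_right,
        F.data.act_mul hcn hzn]
    rw [f.c_z'] at h1
    rw [F.data.act_mul hzn hzn, ← h1, ← F.data.act_mul hzn (inv_mem hzn), mul_inv_cancel, F.data.act_one]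
  have h3 : f.z' ^ 3 = 1 := s.hJexp _ f.z'_mem
  refine F.z'_notQ ?_
  have := mul_mem h2 h2
  rwa [show f.z' * f.z' * (f.z' * f.z') = f.z' ^ 3 * f.z' by simp only [pow_succ, pow_zero, one_mul, mul_assoc],
    h3, one_mul] at this

end Facts

end Cfsg.Agent.McLLoc
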