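import Cfsg.Agent.McLLoc.CoverInvol
import Cfsg.Agent.TwoTransfer.Basic
import Cfsg.Agent.S3334
import Cfsg.Agent.McL.Out

/-!
# The group from the centraliser of the involution
-/

set_option autoImplicit false
set_option maxRecDepth 10000

open Subgroup Equiv
open scoped commutatorElement

namespace Cfsg.Agent.McLLoc

variable {G : Type*} [Group G] {s : Setting G} {f : Frame s}

namespace Facts

variable [Finite G]

theorem mcl_alt (F : Facts f) (e : f.Xq ≃* alternatingGroup (Fin 8)) :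
    Nonempty (G ≃* Cfsg.Spor.McL) := by
  let π : f.X →* Perm (Fin 8) := (alternatingGroup (Fin 8)).subtype.comp (e.toMonoidHom.comp f.proj)
  let V : Cov f.X :=
    { π := π
      z := ⟨f.t, f.t_memX⟩
      range_eq := by
        rw [MonoidHom.range_comp, MonoidHom.range_eq_top.2 (e.surjective.comp (QuotientGroup.mk'_surjective _)),
          ← MonoidHom.range_eq_map, range_subtype]
      ker := fun g => by
        show ((e (f.proj g) : alternatingGroup (Fin 8)) : Perm (Fin 8)) = 1 ↔ _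
        rw [OneMemClass.coe_eq_one, MulEquiv.map_eq_one_iff, F.proj_ker]
        exact or_congr ⟨fun h => Subtype.ext h, congrArg Subtype.val⟩ ⟨fun h => Subtype.ext h, congrArg Subtype.val⟩
      z_sq := Subtype.ext F.t_sq
      z_ne := fun h => F.t_ne_one (congrArg Subtype.val h)
      nonsplit := fun L hL => by
        rw [show (⟨f.t, f.t_memX⟩ : f.X) = ⟨f.c, f.c_memX⟩ * ⟨f.c, f.c_memX⟩ from Subtype.ext f.c_sq.symm]
        exact mul_self_mem_of_index_two hL _ }
  refine (Cfsg.Agent.S3334.result f.t f.t_ord V.cover).resolve_left fun h => ?_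
  rw [F.oddCore_bot, sup_bot_eq] at h
  exact F.cent_t_ne_top h

section Sym

variable (F : Facts f) (d : Std f) {h : G} (hX : h ∈ f.X) (h2 : h * h = 1)
  (hinv : ∀ j ∈ s.J, h * j * h⁻¹ = j⁻¹)

include F d hX h2 hinv

theorem h_ne : h ≠ 1 ∧ h ≠ f.t := by
  refine ⟨fun e => ?_, fun e => F.not_conj d h2 hinv 1 (by rw [one_mul, inv_one, mul_one, e])⟩
  have h1 := hinv f.z' f.z'_mem
  rw [e, one_mul, inv_one, mul_one] at h1
  have h3 := s.hJexp _ f.z'_mem
  rw [pow_succ, pow_two, show f.z' * f.z' = 1 by nth_rewrite 1 [h1]; exact inv_mul_cancel _, one_mul] at h3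
  exact F.z'_notQ (h3 ▸ one_mem _)

theorem π_inv {j : G} (hj : j ∈ s.J) (hjX : j ∈ f.X) :
    d.π ⟨h, hX⟩ * d.π ⟨j, hjX⟩ * (d.π ⟨h, hX⟩)⁻¹ = (d.π ⟨j, hjX⟩)⁻¹ := by
  rw [← map_inv, ← map_inv, ← map_mul, ← map_mul]
  exact congrArg d.π (Subtype.ext (hinv j hj))

theorem h_odd : d.sgn ⟨h, hX⟩ ≠ 1 ∧ (d.π ⟨h, hX⟩).support.card = 6 := by
  have key := CoverPerm.invol_inverting d.h18 (g := d.π ⟨h, hX⟩)
    (by rw [← map_mul, show (⟨h, hX⟩ * ⟨h, hX⟩ : f.X) = 1 from Subtype.ext h2, map_one])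
    (by
      have := π_inv F d hX h2 hinv (f.W_le (subset_closure (Set.mem_insert _ _))) f.z_memX
      rw [show d.π ⟨f.z, f.z_memX⟩ = CoverPerm.a0 from d.e_z] at this
      exact this)
    (by
      have := π_inv F d hX h2 hinv f.z'_mem f.z'_memX
      rw [show d.π ⟨f.z', f.z'_memX⟩ = CoverPerm.b0 from d.e_z'] at this
      exact this)
  obtain ⟨hne, hnt⟩ := h_ne F d hX h2 hinv
  have hodd : d.sgn ⟨h, hX⟩ ≠ 1 := fun he => by
    obtain ⟨V, hVz, hVπ⟩ := F.exists_cov d d.sgn.ker.subtype d.sgn.ker.subtype_injective (range_subtype _)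
    have h8 := V.support_eight (y := ⟨⟨h, hX⟩, he⟩) (Subtype.ext (Subtype.ext h2))
      (fun e => hne (congrArg (fun y : d.sgn.ker => ((y : f.X) : G)) e))
      (fun e => hnt ((congrArg (fun y : d.sgn.ker => ((y : f.X) : G)) e).trans (congrArg Subtype.val hVz)))
    rw [hVπ] at h8
    have := key.1 he
    rw [show d.sgn.ker.subtype ⟨⟨h, hX⟩, he⟩ = (⟨h, hX⟩ : f.X) from rfl] at h8
    omega
  exact ⟨hodd, key.2 hodd⟩

theorem u_even : d.sgn ⟨f.u, f.u_memX⟩ = 1 := by
  by_contra hu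
  have hu2 : f.u * f.u = 1 := by have := pow_orderOf_eq_one f.u; rwa [f.u_ord, pow_two] at this
  have ha : d.π ⟨f.u, f.u_memX⟩ * CoverPerm.a0 * (d.π ⟨f.u, f.u_memX⟩)⁻¹ = CoverPerm.b0 := by
    rw [← show d.π ⟨f.z, f.z_memX⟩ = CoverPerm.a0 from d.e_z, ← show d.π ⟨f.z', f.z'_memX⟩ = CoverPerm.b0 from d.e_z',
      ← map_inv, ← map_mul, ← map_mul]
    exact congrArg d.π (Subtype.ext f.u_z)
  have hu2' : d.π ⟨f.u, f.u_memX⟩ * d.π ⟨f.u, f.u_memX⟩ = 1 := by
    rw [← map_mul, show (⟨f.u, f.u_memX⟩ * ⟨f.u, f.u_memX⟩ : f.X) = 1 from Subtype.ext hu2, map_one]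
  have hb : d.π ⟨f.u, f.u_memX⟩ * CoverPerm.b0 * (d.π ⟨f.u, f.u_memX⟩)⁻¹ = CoverPerm.a0 := by
    rw [← ha, inv_eq_of_mul_eq_one_right hu2', ← mul_assoc, ← mul_assoc, hu2', one_mul, mul_assoc, hu2', mul_one]
  have h6 := CoverPerm.invol_swapping d.h18 hu2' ha hb hu
  obtain ⟨-, hh6⟩ := h_odd F d hX h2 hinv
  obtain ⟨q, hq⟩ := isConj_iff.1 (CoverPerm.invol_conj hu2'
    (by rw [← map_mul, show (⟨h, hX⟩ * ⟨h, hX⟩ : f.X) = 1 from Subtype.ext h2, map_one])
    (h6.trans hh6.symm))
  obtain ⟨g, hg⟩ := QuotientGroup.mk'_surjective f.T0 (d.e.symm q)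
  have hgq : d.π g = q := by
    show d.e (f.proj g) = q
    rw [show f.proj g = d.e.symm q from hg, d.e.apply_symm_apply]
  have heq : f.proj ⟨h, hX⟩ = f.proj (g * ⟨f.u, f.u_memX⟩ * g⁻¹) := d.e.injective (by
    show d.π ⟨h, hX⟩ = d.π (g * ⟨f.u, f.u_memX⟩ * g⁻¹)
    rw [map_mul, map_mul, map_inv, hgq, hq])
  have nc := F.not_conj d h2 hinv
  rcases F.proj_eq' heq with e | e
  · refine nc ((g : G) * f.x)⁻¹ ?_
    have : h = (g : G) * f.x * f.t * ((g : G) * f.x)⁻¹ := by
      rw [show (g : G) * f.x * f.t * ((g : G) * f.x)⁻¹ = g * (f.x * f.t * f.x⁻¹) * (g : G)⁻¹ by group, f.x_t]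
      exact e.symm
    rw [this]; group
  · refine nc ((g : G) * (f.x * f.x))⁻¹ ?_
    have ht : f.t * h = h * f.t := (mem_centralizer_singleton_iff.1 hX).symm
    have hgt : (g : G) * f.t = f.t * g := mem_centralizer_singleton_iff.1 g.2
    have : h = (g : G) * (f.x * f.x) * f.t * ((g : G) * (f.x * f.x))⁻¹ := by
      rw [show (g : G) * (f.x * f.x) * f.t * ((g : G) * (f.x * f.x))⁻¹
          = g * (f.x * (f.x * f.t * f.x⁻¹) * f.x⁻¹) * (g : G)⁻¹ by group, f.x_t, f.x_u]
      calc h = f.t * (h * f.t) := by rw [← ht, ← mul_assoc, F.t_sq, one_mul]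
        _ = f.t * ((g : G) * f.u * (g : G)⁻¹) := by rw [← e]; rfl
        _ = (g : G) * (f.t * f.u) * (g : G)⁻¹ := by
          rw [← mul_assoc, ← mul_assoc, ← hgt]; group
    rw [this]; group

theorem conj_t {i : G} (hiX : i ∈ f.X) (he : d.sgn ⟨i, hiX⟩ = 1) (hi2 : i * i = 1) (hi1 : i ≠ 1) :
    ∃ g : G, g * f.t * g⁻¹ = i := by
  by_cases hit : i = f.t
  · exact ⟨1, by rw [hit, one_mul, inv_one, mul_one]⟩
  obtain ⟨V, hVz, -⟩ := F.exists_cov d d.sgn.ker.subtype d.sgn.ker.subtype_injective (range_subtype _)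
  have hu2 : f.u * f.u = 1 := by have := pow_orderOf_eq_one f.u; rwa [f.u_ord, pow_two] at this
  have hu1 : f.u ≠ 1 := fun e => by have := f.u_ord; rw [e, orderOf_one] at this; omega
  have ne_z : ∀ (y : d.sgn.ker), ((y : f.X) : G) ≠ f.t → y ≠ V.z := fun y hy e =>
    hy ((congrArg (fun y : d.sgn.ker => ((y : f.X) : G)) e).trans (congrArg Subtype.val hVz))
  obtain ⟨k, hk⟩ := isConj_iff.1 (V.isConj_invol (x := ⟨⟨f.u, f.u_memX⟩, u_even F d hX h2 hinv⟩)
    (y := ⟨⟨i, hiX⟩, he⟩) (Subtype.ext (Subtype.ext hu2))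
    (fun e => hu1 (congrArg (fun y : d.sgn.ker => ((y : f.X) : G)) e)) (ne_z _ F.u_ne_t)
    (Subtype.ext (Subtype.ext hi2))
    (fun e => hi1 (congrArg (fun y : d.sgn.ker => ((y : f.X) : G)) e)) (ne_z _ hit))
  refine ⟨((k : f.X) : G) * f.x, ?_⟩
  have hk' : ((k : f.X) : G) * f.u * ((k : f.X) : G)⁻¹ = i :=
    congrArg (fun y : d.sgn.ker => ((y : f.X) : G)) hk
  rw [← hk', ← f.x_t]; group

theorem exists_G0 :
    ∃ N : Subgroup G, N.Normal ∧ N.index = 2 ∧ h ∉ N ∧ ∀ g : f.X, (g : G) ∈ N ↔ d.sgn g = 1 := by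
  classical
  haveI := Fact.mk Nat.prime_two
  obtain ⟨hne, hnt⟩ := h_ne F d hX h2 hinv
  obtain ⟨hodd, -⟩ := h_odd F d hX h2 hinv
  -- a Sylow subgroup of the centraliser
  have hP : IsPGroup 2 (zpowers (⟨h, hX⟩ : f.X)) := IsPGroup.of_card (n := 1) (by
    rw [Nat.card_zpowers, pow_one]
    exact orderOf_eq_prime (by rw [pow_two]; exact Subtype.ext h2) (fun e => hne (congrArg Subtype.val e)))
  obtain ⟨T, hT⟩ := hP.exists_le_sylow
  have hTcard : Nat.card T = 256 := by
    rw [T.card_eq_multiplicity, F.card_X d, show (80640 : ℕ) = 256 * 315 by norm_num,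
      Nat.factorization_mul (by norm_num) (by norm_num), Finsupp.add_apply,
      show (256 : ℕ) = 2 ^ 8 by norm_num, Nat.Prime.factorization_pow Nat.prime_two, Finsupp.single_eq_same,
      Nat.factorization_eq_zero_of_not_dvd (by norm_num : ¬ 2 ∣ 315)]
  have htT : (⟨f.t, f.t_memX⟩ : f.X) ∈ T := by
    have hn : IsPGroup 2 f.T0 := IsPGroup.of_card (n := 1) (by
      rw [Frame.T0, Nat.card_congr (subgroupOfEquivOfLe (zpowers_le.2 f.t_memX)).toEquiv, Nat.card_zpowers,
        f.t_ord, pow_one])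
    have hsup := T.3 (T.2.to_sup_of_normal_right hn) le_sup_left
    show _ ∈ (T : Subgroup f.X)
    rw [← hsup]
    exact mem_sup_right (mem_subgroupOf.2 (mem_zpowers _))
  -- its only central involution is `t`
  have hcen : ∀ i : f.X, i ∈ T → i * i = 1 → i ≠ 1 → (∀ x ∈ T, x * i = i * x) → (i : G) = f.t := by
    intro i hiT hi2 hi1 hic
    by_contra hit
    by_cases he : d.sgn i = 1
    · obtain ⟨V, hVz, -⟩ := F.exists_cov d d.sgn.ker.subtype d.sgn.ker.subtype_injective (range_subtype _)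
      obtain ⟨tX, htX⟩ : ∃ tX : f.X, tX = ⟨f.t, f.t_memX⟩ := ⟨_, rfl⟩
      have htt : tX * tX = 1 := by rw [htX]; exact Subtype.ext F.t_sq
      have htc : ∀ x : f.X, x * tX = tX * x := fun x => by
        rw [htX]; exact Subtype.ext (mem_centralizer_singleton_iff.1 x.2)
      have hne' : tX * i ≠ i := fun e => F.t_ne_one (by
        have := congrArg Subtype.val (mul_eq_right.1 e : tX = 1)
        rwa [htX] at this)
      have hz : d.sgn tX = 1 := by
        rw [htX, ← hVz]; exact V.z.2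
      obtain ⟨g, hg⟩ := isConj_iff.1 (V.isConj_invol (x := ⟨i, he⟩)
        (y := ⟨tX * i, by rw [MonoidHom.mem_ker, map_mul, hz, he, one_mul]⟩)
        (Subtype.ext hi2) (fun e => hi1 (congrArg Subtype.val e))
        (fun e => hit (congrArg Subtype.val ((congrArg Subtype.val e).trans hVz)))
        (Subtype.ext (by
          show tX * i * (tX * i) = 1
          rw [mul_assoc, ← mul_assoc i, htc i, mul_assoc, hi2, mul_one, htt]))
        (fun e => hit (by
          have h1 : tX * i = 1 := congrArg Subtype.val e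
          rw [show i = tX by rw [← inv_eq_of_mul_eq_one_right h1]; exact inv_eq_of_mul_eq_one_right htt, htX]))
        (fun e => hi1 (by
          have h1 : tX * i = tX := (congrArg Subtype.val e).trans (hVz.trans htX.symm)
          exact mul_eq_left.1 h1)))
      have hg' : (g : f.X) * i * (g : f.X)⁻¹ = tX * i := congrArg Subtype.val hg
      let C : Subgroup f.X := centralizer {i}
      let K : Subgroup f.X :=
        { carrier := {x | x * i * x⁻¹ = i ∨ x * i * x⁻¹ = tX * i}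
          one_mem' := Or.inl (by group)
          mul_mem' := by
            intro x y hx hy
            have hxt : x * tX * x⁻¹ = tX := by rw [htc x, mul_inv_cancel_right]
            show x * y * i * (x * y)⁻¹ = i ∨ x * y * i * (x * y)⁻¹ = tX * i
            rw [show x * y * i * (x * y)⁻¹ = x * (y * i * y⁻¹) * x⁻¹ by group]
            rcases hy with e | e <;> rw [e]
            · exact hx
            · rw [show x * (tX * i) * x⁻¹ = (x * tX * x⁻¹) * (x * i * x⁻¹) by group, hxt]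
              rcases hx with e' | e' <;> rw [e']
              · exact Or.inr rfl
              · exact Or.inl (by rw [← mul_assoc, htt, one_mul])
          inv_mem' := by
            intro x hx
            have hxt : x⁻¹ * tX * x⁻¹⁻¹ = tX := by rw [htc x⁻¹, mul_inv_cancel_right]
            show x⁻¹ * i * x⁻¹⁻¹ = i ∨ x⁻¹ * i * x⁻¹⁻¹ = tX * i
            rcases hx with e | e
            · left; nth_rewrite 1 [← e]; group
            · right
              have h1 : i = tX * (x * i * x⁻¹) := by rw [e, ← mul_assoc, htt, one_mul]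
              nth_rewrite 1 [h1]
              rw [show x⁻¹ * (tX * (x * i * x⁻¹)) * x⁻¹⁻¹ = (x⁻¹ * tX * x⁻¹⁻¹) * i by group, hxt] }
      have hCiff : ∀ x : f.X, x ∈ C ↔ x * i * x⁻¹ = i := fun x =>
        mem_centralizer_singleton_iff.trans mul_inv_eq_iff_eq_mul.symm
      have hCK : C ≤ K := fun x hx => Or.inl ((hCiff x).1 hx)
      have hTC : (T : Subgroup f.X) ≤ C := fun x hx => mem_centralizer_singleton_iff.2 (hic x hx)
      have hidx : (C.subgroupOf K).index = 2 := by
        refine index_eq_two_iff.2 ⟨⟨g, Or.inr hg'⟩, fun b => ?_⟩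
        rw [mem_subgroupOf, mem_subgroupOf, hCiff, hCiff, coe_mul,
          show (b : f.X) * g * i * ((b : f.X) * g)⁻¹ = b * (g * i * (g : f.X)⁻¹) * (b : f.X)⁻¹ by group, hg',
          show (b : f.X) * (tX * i) * (b : f.X)⁻¹ = (b * tX * (b : f.X)⁻¹) * (b * i * (b : f.X)⁻¹) by group,
          htc (b : f.X), mul_inv_cancel_right]
        rcases b.2 with e | e <;> rw [e]
        · exact Or.inr ⟨rfl, fun h' => hne' h'⟩
        · exact Or.inl ⟨by rw [← mul_assoc, htt, one_mul], hne'⟩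
      have h1 := (C.subgroupOf K).card_mul_index
      rw [hidx, Nat.card_congr (subgroupOfEquivOfLe hCK).toEquiv] at h1
      have h512 : 512 ∣ Nat.card f.X := by
        refine Nat.dvd_trans ?_ K.card_subgroup_dvd_card
        rw [← h1, show (512 : ℕ) = 256 * 2 by norm_num, ← hTcard]
        exact mul_dvd_mul_right (card_dvd_of_le hTC) 2
      rw [F.card_X d] at h512
      norm_num at h512
    · have hp2 : d.π i * d.π i = 1 := by rw [← map_mul, hi2, map_one]
      obtain ⟨k, hk1, hk4, hct, hs, -⟩ := CoverPerm.invol_support hp2 (fun e => he (by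
        show Perm.sign (d.π i) = 1
        rw [e, map_one]))
      have hk : k = 1 ∨ k = 3 := by
        rcases CoverPerm.odd_invol hp2 he with e | e <;> omega
      have hle : (T : Subgroup f.X).map d.π ≤ centralizer {d.π i} := by
        rintro _ ⟨x, hx, rfl⟩
        rw [mem_centralizer_singleton_iff, ← map_mul, ← map_mul, hic x hx]
      have himg : 128 ∣ Nat.card ((T : Subgroup f.X).map d.π) := by
        obtain ⟨n, hn⟩ := IsPGroup.iff_card.1 (T.2.map d.π)
        let φ := d.π.comp (T : Subgroup f.X).subtype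
        have hker : Nat.card φ.ker ≤ 2 := by
          let em : φ.ker → f.T0 := fun x => ⟨((x : (T : Subgroup f.X)) : f.X), by
            have h1 : d.e (f.proj ((x : (T : Subgroup f.X)) : f.X)) = 1 := x.2
            rw [MulEquiv.map_eq_one_iff] at h1
            rwa [QuotientGroup.mk'_apply, QuotientGroup.eq_one_iff] at h1⟩
          have := Nat.card_le_card_of_injective em (fun x y e => Subtype.ext (Subtype.ext
            (congrArg (fun v : f.T0 => (v : f.X)) e)))
          rwa [Frame.T0, Nat.card_congr (subgroupOfEquivOfLe (zpowers_le.2 f.t_memX)).toEquiv,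
            Nat.card_zpowers, f.t_ord] at this
        have h1 := φ.ker.card_mul_index
        rw [index_ker, MonoidHom.range_comp, range_subtype, hn, hTcard] at h1
        rw [hn]
        refine Nat.pow_dvd_pow 2 (show 7 ≤ n from ?_)
        by_contra h7
        have : 2 ^ n ≤ 2 ^ 6 := Nat.pow_le_pow_right (by norm_num) (by omega)
        nlinarith
      have h128 := himg.trans (card_dvd_of_le hle)
      rw [Perm.nat_card_centralizer, hct, Fintype.card_fin] at h128
      rcases hk with rfl | rfl <;> simp [Nat.factorial] at h128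
  -- a Sylow subgroup of the whole group
  obtain ⟨S, hS⟩ := (T.2.map f.X.subtype).exists_le_sylow
  have hTS : ∀ x : f.X, x ∈ T → (x : G) ∈ (S : Subgroup G) := fun x hx => hS ⟨x, hx, rfl⟩
  have hSX : ∀ x : f.X, (x : G) ∈ (S : Subgroup G) → x ∈ T := by
    intro x hx
    have hp : IsPGroup 2 ((S : Subgroup G).subgroupOf f.X) := S.2.comap_of_injective _ f.X.subtype_injective
    have hle : (T : Subgroup f.X) ≤ (S : Subgroup G).subgroupOf f.X := fun y hy => hTS y hy
    have e := T.3 hp hle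
    show x ∈ (T : Subgroup f.X)
    rw [← e]
    exact hx
  have hST : ∀ x ∈ (S : Subgroup G), x ∈ f.X := by
    by_contra hcon
    push_neg at hcon
    obtain ⟨x, hxS, hxX⟩ := hcon
    haveI : Group.IsNilpotent (S : Subgroup G) := S.2.isNilpotent
    let T' : Subgroup (S : Subgroup G) := ((T : Subgroup f.X).map f.X.subtype).subgroupOf (S : Subgroup G)
    have hT' : T' < ⊤ := lt_top_iff_ne_top.2 fun e => hxX (by
      obtain ⟨y, -, e'⟩ := mem_subgroupOf.1 (e ▸ mem_top (⟨x, hxS⟩ : (S : Subgroup G)) : _ ∈ T')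
      rw [← show (y : G) = x from e']; exact y.2)
    obtain ⟨n, hn, hnT⟩ := SetLike.exists_of_lt (Group.normalizerCondition_of_isNilpotent T' hT')
    obtain ⟨y, hy, hye⟩ := (mem_subgroupOf.1 ((mem_normalizer_iff.1 hn ⟨f.t, hTS _ htT⟩).1
      (mem_subgroupOf.2 ⟨_, htT, rfl⟩)) : ((n * ⟨f.t, hTS _ htT⟩ * n⁻¹ : (S : Subgroup G)) : G) ∈ _)
    have hye' : (y : G) = (n : G) * f.t * (n : G)⁻¹ := hye
    have hy_t : (y : G) = f.t := hcen y hy (Subtype.ext (by
        rw [coe_mul, hye', OneMemClass.coe_one]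
        rw [show (n : G) * f.t * (n : G)⁻¹ * ((n : G) * f.t * (n : G)⁻¹) = n * (f.t * f.t) * (n : G)⁻¹ by group,
          F.t_sq, mul_one, mul_inv_cancel]))
      (fun e => F.t_ne_one (by
        rw [e, OneMemClass.coe_one] at hye'
        rw [eq_comm, conj_eq_one_iff] at hye'
        exact hye'))
      (fun z hz => by
        obtain ⟨w, hw, hwe⟩ := (mem_subgroupOf.1 ((mem_normalizer_iff.1 (inv_mem hn) ⟨(z : G), hTS z hz⟩).1
          (mem_subgroupOf.2 ⟨z, hz, rfl⟩)) :
            ((n⁻¹ * ⟨(z : G), hTS z hz⟩ * n⁻¹⁻¹ : (S : Subgroup G)) : G) ∈ _)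
        have hwe' : (w : G) = (n : G)⁻¹ * z * (n : G)⁻¹⁻¹ := hwe
        refine Subtype.ext ?_
        rw [coe_mul, coe_mul, hye']
        have hc : (w : G) * f.t = f.t * w := mem_centralizer_singleton_iff.1 w.2
        rw [hwe'] at hc
        calc (z : G) * ((n : G) * f.t * (n : G)⁻¹) = n * ((n : G)⁻¹ * z * (n : G)⁻¹⁻¹ * f.t) * (n : G)⁻¹ := by group
          _ = n * (f.t * ((n : G)⁻¹ * z * (n : G)⁻¹⁻¹)) * (n : G)⁻¹ := by rw [hc]
          _ = _ := by group)
    have hnX : (n : G) ∈ f.X := mem_centralizer_singleton_iff.2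
      (mul_inv_eq_iff_eq_mul.1 (hye'.symm.trans hy_t))
    exact hnT (mem_subgroupOf.2 ⟨⟨n, hnX⟩, hSX ⟨n, hnX⟩ n.2, rfl⟩)
  -- transfer
  let M : Subgroup G := d.sgn.ker.map f.X.subtype
  have hM : ∀ (x : f.X), (x : G) ∈ M ↔ d.sgn x = 1 := fun x =>
    ⟨fun ⟨y, hy, e⟩ => Subtype.ext e ▸ hy, fun hx => ⟨x, hx, rfl⟩⟩
  have hhS : h ∈ (S : Subgroup G) := hTS ⟨h, hX⟩ (hT (mem_zpowers _))
  have hrel : M.relIndex (S : Subgroup G) = 2 := by
    refine index_eq_two_iff.2 ⟨⟨h, hhS⟩, fun b => ?_⟩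
    have hbX := hST _ b.2
    have e1 : (b : G) * h ∈ M ↔ d.sgn (⟨(b : G), hbX⟩ * ⟨h, hX⟩) = 1 :=
      hM (⟨(b : G), hbX⟩ * ⟨h, hX⟩)
    have e2 : (b : G) ∈ M ↔ d.sgn ⟨(b : G), hbX⟩ = 1 := hM ⟨(b : G), hbX⟩
    rw [mem_subgroupOf, mem_subgroupOf, coe_mul, e1, e2, map_mul]
    rcases Int.units_eq_one_or (d.sgn ⟨(b : G), hbX⟩) with e | e <;>
      rcases Int.units_eq_one_or (d.sgn ⟨h, hX⟩) with e' | e'
    · exact absurd e' hodd
    · exact Or.inr ⟨e, by rw [e, e']; decide⟩
    · exact absurd e' hodd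
    · exact Or.inl ⟨by rw [e, e']; decide, by rw [e]; decide⟩
  obtain ⟨N, hNn, hN2, hhN⟩ := TwoTransfer.exists_index_two S M hrel h hhS
    (fun k g hk _ => by
      obtain ⟨j, rfl⟩ := Nat.exists_eq_add_of_le hk
      rw [pow_add, pow_one, pow_mul, pow_two, h2, one_pow, mul_one, inv_mul_cancel]
      exact one_mem _)
    (fun g hgS hgM => by
      have hgX := hST _ hgS
      obtain ⟨k, hk⟩ := conj_t F d hX h2 hinv hgX ((hM ⟨_, hgX⟩).1 hgM)
        (by rw [show g⁻¹ * h * g * (g⁻¹ * h * g) = g⁻¹ * (h * h) * g by group, h2, mul_one, inv_mul_cancel])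
        (fun e => hne (by
          have := congrArg (fun v => g * v * g⁻¹) e
          simpa [mul_assoc] using this))
      refine F.not_conj d h2 hinv (k⁻¹ * g⁻¹) ?_
      rw [show k⁻¹ * g⁻¹ * h * (k⁻¹ * g⁻¹)⁻¹ = k⁻¹ * (g⁻¹ * h * g) * k by group, ← hk]
      group)
  refine ⟨N, hNn, hN2, hhN, ?_⟩
  -- the even part lies in the subgroup of index two
  have hsq : ∀ g : G, g * g ∈ N := fun g => mul_self_mem_of_index_two hN2 g
  have htN : f.t ∈ N := f.c_sq ▸ hsq f.c
  have hle : ∀ g : f.X, d.sgn g = 1 → (g : G) ∈ N := by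
    obtain ⟨V, hVz, hVπ⟩ := F.exists_cov d d.sgn.ker.subtype d.sgn.ker.subtype_injective (range_subtype _)
    let L : Subgroup d.sgn.ker := N.comap (f.X.subtype.comp d.sgn.ker.subtype)
    have hL : alternatingGroup (Fin 8) ≤ L.map V.π := by
      rw [← Equiv.Perm.closure_three_cycles_eq_alternating, closure_le]
      intro p hp
      have hp' : Perm.IsThreeCycle p := hp
      obtain ⟨g, hg⟩ := V.exists_lift (p := p * p) (by rw [map_mul, hp'.sign, one_mul])
      refine ⟨g * g, hsq _, ?_⟩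
      rw [map_mul, hg, show p * p * (p * p) = p ^ 3 * p by rw [pow_succ, pow_two]; group]
      have h3 := pow_orderOf_eq_one p
      rw [hp'.orderOf] at h3
      rw [h3, one_mul]
    intro g hg
    obtain ⟨l, hl, e⟩ := hL (V.mem_range ⟨g, hg⟩)
    have h1 : V.π (l⁻¹ * ⟨g, hg⟩) = 1 := by rw [map_mul, map_inv, e, inv_mul_cancel]
    rcases (V.ker _).1 h1 with h3 | h3
    · rw [inv_mul_eq_one] at h3
      subst h3; exact hl
    · rw [inv_mul_eq_iff_eq_mul] at h3
      have h4 : (g : G) = ((l : f.X) : G) * f.t :=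
        (congrArg (fun y : d.sgn.ker => ((y : f.X) : G)) h3).trans (by
          show ((l : f.X) : G) * ((V.z : f.X) : G) = _
          rw [show ((V.z : f.X) : G) = f.t from congrArg Subtype.val hVz])
      rw [h4]; exact mul_mem hl htN
  intro g
  refine ⟨fun hg => by_contra fun hne' => hhN ?_, hle g⟩
  have h1 := hle (g * ⟨h, hX⟩) (by
    rw [map_mul, (Int.units_eq_one_or _).resolve_left hne', (Int.units_eq_one_or _).resolve_left hodd]; decide)
  exact (mul_mem_cancel_left hg).1 h1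

end Sym

theorem mcl_sym (F : Facts f) (hB : CaseB f) (e : f.Xq ≃* Perm (Fin 8)) :
    Nonempty (G ≃* MulAut Cfsg.Spor.McL) := by
  classical
  obtain ⟨d⟩ := F.exists_std hB e
  obtain ⟨h, hX, hord, hinv⟩ := F.exists_h hB
  have h2 : h * h = 1 := by have := pow_orderOf_eq_one h; rwa [hord, pow_two] at this
  obtain ⟨N, hNn, hN2, hhN, hmem⟩ := exists_G0 F d hX h2 hinv
  haveI := hNn
  have hsq : ∀ g : G, g * g ∈ N := fun g => mul_self_mem_of_index_two hN2 g
  have htN : f.t ∈ N := f.c_sq ▸ hsq f.c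
  have h3N : ∀ g : G, g ^ 3 = 1 → g ∈ N := fun g hg => by
    rw [show g = (g * g) * (g * g) * (g ^ 3)⁻¹ by group, hg, inv_one, mul_one]
    exact mul_mem (hsq g) (hsq g)
  have hnc : ¬ ∀ n ∈ N, Commute f.t n := fun hc => F.Q_not_commute fun q hq => hc q (h3N q (s.hQexp q hq))
  let ι : centralizer ({⟨f.t, htN⟩} : Set N) →* f.X :=
    MonoidHom.mk' (fun x => ⟨((x : N) : G), mem_centralizer_singleton_iff.2
      (congrArg Subtype.val (mem_centralizer_singleton_iff.1 x.2))⟩) fun _ _ => rfl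
  have hι : Function.Injective ι := fun x y e => Subtype.ext (Subtype.ext (congrArg (fun v : f.X => (v : G)) e))
  have hr : ι.range = d.sgn.ker := by
    ext g
    constructor
    · rintro ⟨x, rfl⟩; exact (hmem _).1 (x : N).2
    · intro hg
      exact ⟨⟨⟨g, (hmem g).2 hg⟩, mem_centralizer_singleton_iff.2
        (Subtype.ext (mem_centralizer_singleton_iff.1 g.2))⟩, rfl⟩
  obtain ⟨V, -, -⟩ := F.exists_cov d ι hι hr
  have hordt : orderOf (⟨f.t, htN⟩ : N) = 2 := by rw [orderOf_mk, f.t_ord]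
  obtain ⟨eN⟩ := (Cfsg.Agent.S3334.result (⟨f.t, htN⟩ : N) hordt V.cover).resolve_left fun htop => by
    have hcore : Cfsg.oddCore N = ⊥ := by
      rw [← map_eq_bot_iff_of_injective _ N.subtype_injective, Core.map_pPrimeCore_normal,
        show Cfsg.pPrimeCore 2 G = ⊥ from F.oddCore_bot, bot_inf_eq]
    rw [hcore, sup_bot_eq] at htop
    refine hnc fun n hn => ?_
    have := mem_centralizer_singleton_iff.1 (htop ▸ mem_top (⟨n, hn⟩ : N) :
      (⟨n, hn⟩ : N) ∈ centralizer ({⟨f.t, htN⟩} : Set N))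
    exact (congrArg Subtype.val this).symm
  haveI hsimple : IsSimpleGroup N := MulEquiv.isSimpleGroup eN
  have hcent : center N = ⊥ := (inferInstance : (center N).Normal).eq_bot_or_eq_top.resolve_right fun htop =>
    hnc fun n hn => by
      have h1 : (⟨f.t, htN⟩ : N) ∈ center N := htop ▸ mem_top _
      exact (congrArg Subtype.val (mem_center_iff.1 h1 ⟨n, hn⟩)).symm
  let θ : G →* MulAut N := MulAut.conjNormal
  have hθ : Function.Injective θ := (injective_iff_map_eq_one _).2 fun g hg => by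
    have hfix : ∀ n ∈ N, g * n * g⁻¹ = n := fun n hn => by
      have := congrArg (fun v : MulAut N => ((v ⟨n, hn⟩ : N) : G)) hg
      simpa [θ] using this
    have hgJ : g ∈ s.J := by
      rw [← F.centJ, mem_centralizer_iff]
      exact fun j hj => (mul_inv_eq_iff_eq_mul.1 (hfix j (h3N j (s.hJexp j hj)))).symm
    have hgN := h3N g (s.hJexp g hgJ)
    have : (⟨g, hgN⟩ : N) ∈ center N := mem_center_iff.2 fun n =>
      Subtype.ext (mul_inv_eq_iff_eq_mul.1 (hfix n n.2)).symm
    rw [hcent, mem_bot] at this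
    exact congrArg Subtype.val this
  have hinn : Function.Injective (MulAut.conj : N →* MulAut N) := (injective_iff_map_eq_one _).2 fun g hg => by
    have : g ∈ center N := mem_center_iff.2 fun n => by
      have := congrArg (fun v : MulAut N => v n) hg
      simp only [MulAut.conj_apply, MulAut.one_apply] at this
      exact (mul_inv_eq_iff_eq_mul.1 this).symm
    rwa [hcent, mem_bot] at this
  have hinnM : Function.Injective (MulAut.conj : Cfsg.Spor.McL →* MulAut Cfsg.Spor.McL) :=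
    (injective_iff_map_eq_one _).2 fun g hg => by
      have h1 : MulAut.conj (eN.symm g) = 1 := MulEquiv.ext fun n => eN.injective (by
        have := congrArg (fun v : MulAut Cfsg.Spor.McL => v (eN n)) hg
        simpa using this)
      have h3 := hinn (h1.trans (map_one _).symm)
      exact eN.symm.injective (h3.trans (map_one _).symm)
  have hcard : Nat.card (MulAut Cfsg.Spor.McL) = Nat.card G := by
    rw [card_eq_card_quotient_mul_card_subgroup (Cfsg.Inn (Cfsg.Spor.McL)),
      show Nat.card (MulAut Cfsg.Spor.McL ⧸ Cfsg.Inn Cfsg.Spor.McL) = 2 from Cfsg.Agent.McL.card_out,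
      ← Nat.card_congr (MonoidHom.ofInjective hinnM).toEquiv, ← Nat.card_congr eN.toEquiv,
      ← N.card_mul_index, hN2, mul_comm]
  let Φ : MulAut N ≃* MulAut Cfsg.Spor.McL := MulAut.congr eN
  haveI : Finite (MulAut Cfsg.Spor.McL) := Nat.finite_of_card_ne_zero (by rw [hcard]; exact Nat.card_pos.ne')
  exact ⟨MulEquiv.ofBijective (Φ.toMonoidHom.comp θ) ((Nat.bijective_iff_injective_and_card _).2
    ⟨Φ.injective.comp hθ, hcard.symm⟩)⟩

/-- **The group from the quotient of the centraliser.** -/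
theorem mcl_of_quot (F : Facts f)
    (h : (CaseA f ∧ Nonempty (f.Xq ≃* alternatingGroup (Fin 8))) ∨
      (CaseB f ∧ Nonempty (f.Xq ≃* Perm (Fin 8)))) :
    Nonempty (G ≃* Cfsg.Spor.McL) ∨ Nonempty (G ≃* MulAut Cfsg.Spor.McL) := by
  rcases h with ⟨-, ⟨e⟩⟩ | ⟨hB, ⟨e⟩⟩
  · exact Or.inl (F.mcl_alt e)
  · exact Or.inr (F.mcl_sym hB e)

end Facts

end Cfsg.Agent.McLLoc
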