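import Cfsg.Agent.McLLoc.QuotBase
import Cfsg.Agent.Core.PCore
import Cfsg.Agent.Fusion.PGroup
import Cfsg.Prelude.Def_CaseTheorems
import Cfsg.Prelude.Def_SporadicB

/-!
The odd core is trivial, the involution is not central, and a criterion for nonsplit double covers.
-/

set_option autoImplicit false
set_option synthInstance.maxSize 2000

namespace Cfsg.Agent.McLLoc.Cover

open Subgroup Bar

abbrev SL25 := Matrix.SpecialLinearGroup (Fin 2) (ZMod 5)

theorem sl_exp : ∀ a : SL25, a ^ 120 = 1 := by decide +kernel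

theorem sl_odd : ∀ a : SL25, a ^ 3 = 1 → a ≠ 1 → ∃ g : SL25, (a * (g * a * g⁻¹)) ^ 15 ≠ 1 := by
  decide +kernel

/-- A central extension by a group of order two containing a square root of the kernel does not
split. -/
theorem nonsplit {H : Type*} [Group H] [Finite H] (π : H →* alternatingGroup (Fin 8))
    (hπ : Function.Surjective π) {τ : H} (hτ : τ ≠ 1) (hker : ∀ g, π g = 1 ↔ g = 1 ∨ g = τ)
    (hcomm : ∀ g, Commute g τ) {c : H} (hc : c * c = τ) :
    Cfsg.IsNonsplitDoubleCover H (alternatingGroup (Fin 8)) := by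
  have hττ : τ * τ = 1 := by
    rcases (hker (τ * τ)).1 (by rw [map_mul, (hker τ).2 (Or.inr rfl), one_mul]) with h | h
    · exact h
    · exact absurd (mul_left_cancel (h.trans (mul_one τ).symm)) hτ
  have hcen : center H = π.ker := by
    ext g
    rw [MonoidHom.mem_ker]
    constructor
    · intro hg
      have : π g ∈ center (alternatingGroup (Fin 8)) := mem_center_iff.2 fun y => by
        obtain ⟨x, rfl⟩ := hπ y
        rw [← map_mul, ← map_mul, mem_center_iff.1 hg x]
      rwa [alternatingGroup.center_eq_bot (by simp), mem_bot] at this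
    · intro hg
      rcases (hker g).1 hg with rfl | rfl
      · exact one_mem _
      · exact mem_center_iff.2 fun x => (hcomm x).eq
  have hk2 : Nat.card π.ker = 2 := by
    rw [Nat.card_eq_two_iff]
    refine ⟨1, ⟨τ, (hker τ).2 (Or.inr rfl)⟩, fun h => hτ (congrArg Subtype.val h).symm, ?_⟩
    refine Set.eq_univ_of_forall fun x => ?_
    rcases (hker x).1 x.2 with h | h
    · exact Or.inl (Subtype.ext h)
    · exact Or.inr (Subtype.ext h)
  refine ⟨by rw [hcen, hk2], ⟨?_⟩, fun L hL => ?_⟩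
  · exact (QuotientGroup.quotientMulEquivOfEq hcen).trans (QuotientGroup.quotientKerEquivOfSurjective π hπ)
  · obtain ⟨l, hl, hcl⟩ : ∃ l ∈ L, c * c = l * l := by
      obtain ⟨⟨k, l⟩, hkl⟩ := hL.2 c
      have hk : (k : H) ∈ π.ker := hcen ▸ k.2
      have e : c * c = ((k : H) * k) * ((l : H) * l) := by
        rw [← show (k : H) * l = c from hkl,
          show (k : H) * l * (k * l) = k * ((l : H) * k) * l by group, mem_center_iff.1 k.2]
        group
      refine ⟨l, l.2, e.trans ?_⟩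
      rcases (hker k).1 hk with h | h <;> rw [h]
      · rw [one_mul, one_mul]
      · rw [hττ, one_mul]
    have h1 : τ ∈ center H ⊓ L := ⟨hcen ▸ (hker τ).2 (Or.inr rfl), by rw [← hc, hcl]; exact mul_mem hl hl⟩
    rw [disjoint_iff.1 hL.disjoint, mem_bot] at h1
    exact hτ h1

variable {G : Type*} [Group G] [Finite G] {s : Setting G} {f : Frame s}

omit [Finite G] in
theorem z_cube_ne (f : Frame s) : f.z ≠ 1 ∧ f.z' ≠ 1 := by
  have h : f.z ≠ 1 := fun e => zq_ne f (by
    rw [show f.zq = f.proj (zX f) from rfl, show zX f = 1 from Subtype.ext e, map_one])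
  refine ⟨h, fun e => h ?_⟩
  rw [← u_z' f, e, mul_one, mul_inv_cancel]

omit [Finite G] in
theorem z'_memL (f : Frame s) : f.z' ∈ s.L := by
  rw [s.hL]
  refine subset_closure ⟨?_, 1, by
    rw [pow_one]; exact orderOf_eq_prime (by exact z'_cube f) (z_cube_ne f).2⟩
  rw [← f.hz, Subgroup.mem_normalizer_iff]
  intro x
  have key : ∀ n : ℤ, f.z' * f.z ^ n * f.z'⁻¹ = f.z ^ n := fun n => by
    rw [((zz_comm f).symm.zpow_right n).eq, mul_inv_cancel_right]
  refine ⟨fun hx => ?_, fun hx => ?_⟩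
  · obtain ⟨n, rfl⟩ := mem_zpowers_iff.1 hx
    exact ⟨n, (key n).symm⟩
  · obtain ⟨n, hn⟩ := mem_zpowers_iff.1 hx
    refine ⟨n, ?_⟩
    have := key n
    rw [hn] at this
    calc f.z ^ n = f.z' * x * f.z'⁻¹ := hn
      _ = f.z'⁻¹ * (f.z' * (f.z' * x * f.z'⁻¹) * f.z'⁻¹) * f.z' := by group
      _ = x := by rw [this]; group

theorem oddCore_bot (F : Facts f) : Cfsg.oddCore G = ⊥ := by
  have : Fact (Nat.Prime 3) := ⟨Nat.prime_three⟩
  set R := Cfsg.oddCore G with hR
  have hcop : (Nat.card R).Coprime 2 := Core.coprime_card_pPrimeCore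
  -- `z` is not in `R`
  have hzR : f.z ∉ R := by
    intro hz
    have hz' : f.z' ∈ R := f.u_z ▸ (inferInstance : R.Normal).conj_mem _ hz f.u
    have := s.hQn
    obtain ⟨e⟩ := s.hLq
    let π : s.L →* SL25 := e.toMonoidHom.comp (QuotientGroup.mk' (s.Q.subgroupOf s.L))
    have ha3 : π ⟨f.z', z'_memL f⟩ ^ 3 = 1 := by
      rw [← map_pow, show (⟨f.z', z'_memL f⟩ : s.L) ^ 3 = 1 from Subtype.ext (z'_cube f), map_one]
    have ha1 : π ⟨f.z', z'_memL f⟩ ≠ 1 := fun h => F.z'_notQ (by
      rw [← map_one e] at h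
      exact (QuotientGroup.eq_one_iff (N := s.Q.subgroupOf s.L) (⟨f.z', z'_memL f⟩ : s.L)).1 (e.injective h))
    obtain ⟨g, hg⟩ := sl_odd _ ha3 ha1
    obtain ⟨g', rfl⟩ := (e.surjective.comp (QuotientGroup.mk'_surjective _)) g
    let x : s.L := ⟨f.z', z'_memL f⟩ * (g' * ⟨f.z', z'_memL f⟩ * g'⁻¹)
    have hxR : (x : G) ∈ R := mul_mem hz' ((inferInstance : R.Normal).conj_mem _ hz' _)
    have hxc : x ^ Nat.card R = 1 := by
      refine Subtype.ext ?_
      have := congrArg Subtype.val (pow_card_eq_one' (x := (⟨x, hxR⟩ : R)))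
      exact (Subgroup.coe_pow s.L x _).trans ((Subgroup.coe_pow R ⟨(x : G), hxR⟩ _).symm.trans this)
    refine hg ?_
    have h1 : π x ^ Nat.gcd 120 (Nat.card R) = 1 :=
      pow_gcd_eq_one.2 ⟨sl_exp _, by rw [← map_pow, hxc, map_one]⟩
    have h15 : Nat.gcd 120 (Nat.card R) ∣ 15 := by
      refine Nat.Coprime.dvd_of_dvd_mul_left (k := Nat.gcd 120 (Nat.card R)) (m := 8) ?_
        (Nat.gcd_dvd_left _ _)
      exact ((Nat.Coprime.pow_right 3 hcop).coprime_dvd_left (Nat.gcd_dvd_right _ _))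
    obtain ⟨m, hm⟩ := h15
    show (π ⟨f.z', z'_memL f⟩ * (π g' * π ⟨f.z', z'_memL f⟩ * (π g')⁻¹)) ^ 15 = 1
    rw [← map_inv, ← map_mul, ← map_mul, ← map_mul, hm, pow_mul, h1, one_pow]
  -- `R` has order prime to three
  have h3 : ¬ 3 ∣ Nat.card R := by
    intro hd
    obtain ⟨⟨x, hxR⟩, hx⟩ := exists_prime_orderOf_dvd_card' 3 hd
    rw [Subgroup.orderOf_mk] at hx
    obtain ⟨P, hP⟩ := (IsPGroup.of_card (p := 3) (n := 1)
      (show Nat.card (zpowers x) = 3 ^ 1 by rw [Nat.card_zpowers, hx]; rfl)).exists_le_sylow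
    obtain ⟨a, ha⟩ := MulAction.exists_smul_eq G s.S P
    have hxS : a⁻¹ * x * a ∈ (s.S : Subgroup G) := by
      have := hP (mem_zpowers x)
      rw [← ha, Sylow.coe_subgroup_smul, Subgroup.mem_pointwise_smul_iff_inv_smul_mem] at this
      simpa [MulAut.smul_def, mul_assoc] using this
    have hne : R.subgroupOf (s.S : Subgroup G) ≠ ⊥ := fun hb => by
      have hm : (⟨_, hxS⟩ : (s.S : Subgroup G)) ∈ R.subgroupOf (s.S : Subgroup G) :=
        mem_subgroupOf.2 (by simpa [mul_assoc] using (inferInstance : R.Normal).conj_mem _ hxR a⁻¹)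
      rw [hb, mem_bot] at hm
      have h1 : x = 1 := by
        have h2 : a⁻¹ * x * a = 1 := congrArg Subtype.val hm
        calc x = a * (a⁻¹ * x * a) * a⁻¹ := by group
          _ = 1 := by rw [h2]; group
      rw [h1, orderOf_one] at hx
      omega
    obtain ⟨w, hw, hw1⟩ := (bot_or_exists_ne_one _).resolve_left
      (Fusion.pGroup_inf_center_ne_bot s.S.2 _ hne)
    have hwZ : (w : G) ∈ s.Z := by
      rw [s.hZ]
      exact ⟨w.2, mem_centralizer_iff.2 fun y hy =>
        congrArg Subtype.val (mem_center_iff.1 hw.2 ⟨y, hy⟩)⟩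
    rw [← f.hz] at hwZ
    have hwR : (w : G) ∈ R := hw.1
    rcases A8ThreeLocal.cases_pow_three (z_cube f) hwZ with h | h | h
    · exact hw1 (Subtype.ext h)
    · exact hzR (h ▸ hwR)
    · exact hzR (inv_mem_iff.1 (h ▸ hwR))
  exact F.no_core R (by rw [normalizer_eq_top_iff.2 inferInstance]; exact le_top)
    ((Nat.prime_three.coprime_iff_not_dvd).2 h3).symm

omit [Finite G] in
/-- The involution does not centralise `Q`. -/
theorem t_not_centQ (f : Frame s) : ¬ ∀ q ∈ s.Q, Commute f.t q := by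
  intro h
  have hle : s.Q ≤ s.Z := fun q hq => by
    have h2 := f.t_Q q hq
    rw [(h q hq).eq, mul_inv_cancel_right] at h2
    have := mul_mem h2 h2
    rw [show q * q * (q * q) = q ^ 3 * q by simp [pow_succ, mul_assoc], s.hQexp q hq, one_mul] at this
    exact this
  have h3 : Nat.card s.Z = 3 := by
    rw [← f.hz, Nat.card_zpowers, orderOf_eq_prime (by exact z_cube f) (z_cube_ne f).1]
  have : Finite s.Z := Nat.finite_of_card_ne_zero (by omega)
  have := Subgroup.card_le_of_le hle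
  rw [s.hQcard, h3] at this
  omega

end Cfsg.Agent.McLLoc.Cover
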