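import Mathlib

/-!
# Permutations of eight points around two disjoint three-cycles
-/

set_option autoImplicit false
set_option maxRecDepth 10000

open Equiv Equiv.Perm

namespace Cfsg.Agent.McLLoc.CoverPerm

/-- The first three-cycle. -/
def a0 : Perm (Fin 8) := swap 0 1 * swap 1 2
/-- The second three-cycle. -/
def b0 : Perm (Fin 8) := swap 3 4 * swap 4 5
/-- The transposition of the two other points. -/
def f0 : Perm (Fin 8) := swap 6 7
/-- An element inverting both. -/
def r0 : Perm (Fin 8) := swap 0 1 * swap 3 4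
/-- An element exchanging them. -/
def u0 : Perm (Fin 8) := swap 0 3 * swap 1 4 * swap 2 5

theorem invol_support {g : Perm (Fin 8)} (h : g * g = 1) (h1 : g ≠ 1) :
    ∃ k : ℕ, 1 ≤ k ∧ k ≤ 4 ∧ g.cycleType = Multiset.replicate k 2 ∧ g.support.card = 2 * k ∧
      sign g = (-1) ^ k := by
  have ho : orderOf g = 2 := orderOf_eq_prime (by rw [pow_two, h]) h1
  obtain ⟨n, hn⟩ := cycleType_prime_order (σ := g) (by rw [ho]; exact Nat.prime_two)
  rw [ho] at hn
  have hs : g.support.card = 2 * (n + 1) := by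
    rw [← sum_cycleType, hn, Multiset.sum_replicate, smul_eq_mul, mul_comm]
  refine ⟨n + 1, by omega, ?_, hn, hs, ?_⟩
  · have := Finset.card_le_univ g.support
    rw [Fintype.card_fin] at this
    omega
  · rw [sign_of_cycleType, hn, Multiset.sum_replicate, Multiset.card_replicate, smul_eq_mul]
    rw [show (n + 1) * 2 + (n + 1) = 2 * (n + 1) + (n + 1) by ring, pow_add, pow_mul]
    simp

theorem invol_conj {g g' : Perm (Fin 8)} (h : g * g = 1) (h' : g' * g' = 1)
    (hc : g.support.card = g'.support.card) : IsConj g g' := by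
  by_cases h1 : g = 1
  · subst h1
    rw [support_one, Finset.card_empty] at hc
    rw [support_eq_empty_iff.1 (Finset.card_eq_zero.1 hc.symm)]
  by_cases h1' : g' = 1
  · subst h1'
    rw [support_one, Finset.card_empty] at hc
    exact absurd (support_eq_empty_iff.1 (Finset.card_eq_zero.1 hc)) h1
  obtain ⟨k, -, -, e, hs, -⟩ := invol_support h h1
  obtain ⟨k', -, -, e', hs', -⟩ := invol_support h' h1'
  refine isConj_iff_cycleType_eq.2 ?_
  rw [e, e', show k = k' by omega]

theorem even_invol {g : Perm (Fin 8)} (h : g * g = 1) (h1 : g ≠ 1) (he : sign g = 1) :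
    g.support.card = 4 ∨ g.support.card = 8 := by
  obtain ⟨k, hk1, hk4, -, hs, hsg⟩ := invol_support h h1
  rw [he] at hsg
  interval_cases k <;> first | omega | exact absurd hsg (by decide)

theorem odd_invol {g : Perm (Fin 8)} (h : g * g = 1) (ho : sign g ≠ 1) :
    g.support.card = 2 ∨ g.support.card = 6 := by
  obtain ⟨k, hk1, hk4, -, hs, hsg⟩ := invol_support h (fun e => ho (by rw [e, map_one]))
  interval_cases k <;> first | omega | exact absurd (hsg.trans (by decide)) ho

/-- A general element of the centraliser of the two three-cycles. -/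
def el (p : Fin 3 × Fin 3 × Fin 2) : Perm (Fin 8) :=
  a0 ^ (p.1 : ℕ) * b0 ^ (p.2.1 : ℕ) * f0 ^ (p.2.2 : ℕ)

theorem el_inj : ∀ p q, (∀ x, el p x = el q x) → p = q := by decide +kernel

theorem el_comm : ∀ p x, el p (a0 x) = a0 (el p x) ∧ el p (b0 x) = b0 (el p x) := by decide +kernel

theorem inverting : ∀ p, (∀ x, el p (r0 (el p (r0 x))) = x) →
    (Finset.univ.filter fun x => el p (r0 x) ≠ x).card = 4 ∨
      (Finset.univ.filter fun x => el p (r0 x) ≠ x).card = 6 := by decide +kernel

theorem swapping : ∀ p, (∀ x, el p (u0 (el p (u0 x))) = x) →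
    (Finset.univ.filter fun x => el p (u0 x) ≠ x).card = 6 ∨
      (Finset.univ.filter fun x => el p (u0 x) ≠ x).card = 8 := by decide +kernel

theorem r0_inv : ∀ x, r0 (a0 (r0 x)) = a0 (a0 x) ∧ r0 (b0 (r0 x)) = b0 (b0 x) := by decide +kernel

theorem u0_swap : ∀ x, u0 (a0 (u0 x)) = b0 x ∧ u0 (b0 (u0 x)) = a0 x := by decide +kernel

theorem base_facts : ∀ x, r0 (r0 x) = x ∧ u0 (u0 x) = x ∧ a0 (a0 (a0 x)) = x ∧ b0 (b0 (b0 x)) = x := by
  decide +kernel

/-- A three-cycle by its entries. -/
def tc (i j k : Fin 8) : Perm (Fin 8) := swap i j * swap j k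

/-- A permutation moving `i, j, k` to `3, 4, 5`. -/
def mv (i j k : Fin 8) : Perm (Fin 8) :=
  swap 5 (swap 4 (swap 3 i j) (swap 3 i k)) * swap 4 (swap 3 i j) * swap 3 i

set_option synthInstance.maxSize 2000 in
theorem normal_form : ∀ i j k : Fin 8, i ≠ j → j ≠ k → i ≠ k →
    (∀ x, tc i j k (a0 x) = a0 (tc i j k x)) →
    (∃ x, tc i j k x ≠ a0 x) → (∃ x, tc i j k x ≠ a0 (a0 x)) →
    ∀ x, mv i j k (a0 x) = a0 (mv i j k x) ∧ mv i j k (tc i j k x) = b0 (mv i j k x) := by
  decide +kernel

theorem exists_form {b : Perm (Fin 8)} (hb : b.IsThreeCycle) :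
    ∃ i j k : Fin 8, i ≠ j ∧ j ≠ k ∧ i ≠ k ∧ b = swap i j * swap j k := by
  obtain ⟨i, hi⟩ : b.support.Nonempty := Finset.card_pos.1 (by rw [hb.card_support]; norm_num)
  rw [mem_support] at hi
  have h3 : orderOf b = 3 := hb.orderOf
  have hb3 : ∀ x, b (b (b x)) = x := fun x => by
    have := Equiv.congr_fun (pow_orderOf_eq_one b) x
    rw [h3] at this
    simpa [pow_succ] using this
  refine ⟨i, b i, b (b i), (Ne.symm hi), fun e => hi (b.injective e).symm,
    fun e => hi (by nth_rewrite 2 [← hb3 i]; rw [← e]), ?_⟩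
  have hij : i ≠ b i := Ne.symm hi
  have hik : i ≠ b (b i) := fun e => hi (by nth_rewrite 2 [← hb3 i]; rw [← e])
  have hjk : b i ≠ b (b i) := fun e => hi (b.injective e).symm
  have hsupp : ({i, b i, b (b i)} : Finset (Fin 8)) = b.support := by
    refine Finset.eq_of_subset_of_card_le ?_ ?_
    · intro x hx
      simp only [Finset.mem_insert, Finset.mem_singleton] at hx
      rcases hx with rfl | rfl | rfl
      · exact mem_support.2 hi
      · exact mem_support.2 fun e => hi (b.injective e)
      · exact mem_support.2 fun e => hjk (b.injective e).symm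
    · rw [hb.card_support, Finset.card_eq_three.2 ⟨_, _, _, hij, hik, hjk, rfl⟩]
  refine Equiv.ext fun x => ?_
  by_cases h : x ∈ b.support
  · rw [← hsupp] at h
    simp only [Finset.mem_insert, Finset.mem_singleton] at h
    rw [Perm.mul_apply]
    rcases h with rfl | rfl | rfl
    · rw [swap_apply_of_ne_of_ne hij hik, swap_apply_left]
    · rw [swap_apply_left, swap_apply_of_ne_of_ne (Ne.symm hik) (Ne.symm hjk)]
    · rw [swap_apply_right, swap_apply_right, hb3]
  · have hx := notMem_support.1 h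
    rw [← hsupp] at h
    simp only [Finset.mem_insert, Finset.mem_singleton, not_or] at h
    rw [Perm.mul_apply, swap_apply_of_ne_of_ne h.2.1 h.2.2, swap_apply_of_ne_of_ne h.1 h.2.1, hx]

theorem a0_three : a0.IsThreeCycle := isThreeCycle_swap_mul_swap_same (a := (1 : Fin 8))
  (b := 0) (c := 2) (by decide) (by decide) (by decide) |> fun h => by
    have e : a0 = swap (1 : Fin 8) 0 * swap 1 2 := by decide +kernel
    rw [e]; exact h

/-- An element of order three whose centraliser has order 360 is a three-cycle. -/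
theorem three_of_card {a : Perm (Fin 8)} (ha : orderOf a = 3)
    (hc : Nat.card (Subgroup.centralizer ({a} : Set (Perm (Fin 8)))) = 360) : a.IsThreeCycle := by
  obtain ⟨n, hn⟩ := cycleType_prime_order (σ := a) (by rw [ha]; exact Nat.prime_three)
  rw [ha] at hn
  have hle := Finset.card_le_univ a.support
  rw [← sum_cycleType, hn, Multiset.sum_replicate, Fintype.card_fin, smul_eq_mul] at hle
  have hn1 : n ≤ 1 := by omega
  rcases Nat.le_one_iff_eq_zero_or_eq_one.1 hn1 with rfl | rfl
  · exact hn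
  · exfalso
    rw [Perm.nat_card_centralizer, hn, Fintype.card_fin] at hc
    simp [Nat.factorial] at hc

/-- The pair of images can be moved to the standard one. -/
theorem exists_std {a b : Perm (Fin 8)} (ha : orderOf a = 3) (hb : orderOf b = 3)
    (hca : Nat.card (Subgroup.centralizer ({a} : Set (Perm (Fin 8)))) = 360)
    (hcb : Nat.card (Subgroup.centralizer ({b} : Set (Perm (Fin 8)))) = 360)
    (hab : a * b = b * a) (hne : b ∉ Subgroup.zpowers a) :
    ∃ p : Perm (Fin 8), p * a * p⁻¹ = a0 ∧ p * b * p⁻¹ = b0 := by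
  obtain ⟨q, hq⟩ := isConj_iff.1 (isConj_iff_cycleType_eq.2 ((three_of_card ha hca).trans a0_three.symm))
  obtain ⟨i, j, k, h1, h2, h3, hb'⟩ := exists_form (b := q * b * q⁻¹) (by
    rw [IsThreeCycle, cycleType_conj]; exact three_of_card hb hcb)
  have hb' : q * b * q⁻¹ = tc i j k := hb'
  have hcomm : tc i j k * a0 = a0 * tc i j k := by
    rw [← hb', ← hq]
    calc q * b * q⁻¹ * (q * a * q⁻¹) = q * (b * a) * q⁻¹ := by group
      _ = q * (a * b) * q⁻¹ := by rw [hab]
      _ = _ := by group
  have hz : ∀ c ∈ Subgroup.zpowers a, tc i j k ≠ q * c * q⁻¹ := fun c hc e => hne (by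
    rw [← hb'] at e
    rwa [mul_left_cancel (mul_right_cancel e)])
  have e := normal_form i j k h1 h2 h3 (fun x => Equiv.congr_fun hcomm x)
    (not_forall.1 fun h => hz a (Subgroup.mem_zpowers a) (Equiv.ext fun x => by rw [h x, hq]))
    (not_forall.1 fun h => hz (a * a) (mul_mem (Subgroup.mem_zpowers a) (Subgroup.mem_zpowers a))
      (Equiv.ext fun x => by
        rw [h x, ← hq, ← Perm.mul_apply]
        exact Equiv.congr_fun (by group) x))
  refine ⟨mv i j k * q, ?_, ?_⟩
  · have e1 : mv i j k * a0 = a0 * mv i j k := Equiv.ext fun x => (e x).1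
    calc mv i j k * q * a * (mv i j k * q)⁻¹ = mv i j k * (q * a * q⁻¹) * (mv i j k)⁻¹ := by group
      _ = a0 := by rw [hq, e1, mul_inv_cancel_right]
  · have e1 : mv i j k * tc i j k = b0 * mv i j k := Equiv.ext fun x => (e x).2
    calc mv i j k * q * b * (mv i j k * q)⁻¹ = mv i j k * (q * b * q⁻¹) * (mv i j k)⁻¹ := by group
      _ = b0 := by rw [hb', e1, mul_inv_cancel_right]

section Cent

variable (h18 : Nat.card (Subgroup.centralizer ({a0, b0} : Set (Perm (Fin 8)))) = 18)
include h18

theorem exists_el {g : Perm (Fin 8)} (ha : g * a0 = a0 * g) (hb : g * b0 = b0 * g) : ∃ p, g = el p := by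
  have hmem : ∀ x : Perm (Fin 8), x * a0 = a0 * x → x * b0 = b0 * x →
      x ∈ Subgroup.centralizer ({a0, b0} : Set (Perm (Fin 8))) := fun x h1 h2 => by
    rw [Subgroup.mem_centralizer_iff]
    rintro y (rfl | rfl)
    exacts [h1.symm, h2.symm]
  let φ : Fin 3 × Fin 3 × Fin 2 → Subgroup.centralizer ({a0, b0} : Set (Perm (Fin 8))) := fun p =>
    ⟨el p, hmem _ (Equiv.ext fun x => (el_comm p x).1) (Equiv.ext fun x => (el_comm p x).2)⟩
  have hφ : Function.Bijective φ := (Nat.bijective_iff_injective_and_card _).2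
    ⟨fun p q h => el_inj p q fun x => Equiv.congr_fun (congrArg Subtype.val h) x, by
      rw [h18, Nat.card_eq_fintype_card]; rfl⟩
  obtain ⟨p, hp⟩ := hφ.2 ⟨g, hmem g ha hb⟩
  exact ⟨p, (congrArg Subtype.val hp).symm⟩

/-- An involution inverting both three-cycles. -/
theorem invol_inverting {g : Perm (Fin 8)} (hg : g * g = 1) (ha : g * a0 * g⁻¹ = a0⁻¹)
    (hb : g * b0 * g⁻¹ = b0⁻¹) :
    (sign g = 1 → g.support.card = 4) ∧ (sign g ≠ 1 → g.support.card = 6) := by
  have hr : r0 * r0 = 1 := Equiv.ext fun x => (base_facts x).1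
  have hra : r0 * a0 * r0 = a0⁻¹ := by
    rw [eq_inv_iff_mul_eq_one]
    exact Equiv.ext fun x => by
      simp only [Perm.mul_apply, Perm.one_apply]
      rw [(r0_inv (a0 x)).1, (base_facts x).2.2.1]
  have hrb : r0 * b0 * r0 = b0⁻¹ := by
    rw [eq_inv_iff_mul_eq_one]
    exact Equiv.ext fun x => by
      simp only [Perm.mul_apply, Perm.one_apply]
      rw [(r0_inv (b0 x)).2, (base_facts x).2.2.2]
  have hcomm : ∀ c : Perm (Fin 8), r0 * c * r0 = c⁻¹ → g * c * g⁻¹ = c⁻¹ → g * r0 * c = c * (g * r0) := by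
    intro c h1 h2
    have h3 : r0 * c = c⁻¹ * r0 := by rw [← h1, mul_assoc _ r0 r0, hr, mul_one]
    have h4 : g * c⁻¹ = c * g := mul_inv_eq_iff_eq_mul.1 (by rw [← conj_inv, h2, inv_inv])
    rw [mul_assoc, h3, ← mul_assoc, h4, mul_assoc]
  obtain ⟨p, hp⟩ := exists_el h18 (hcomm a0 hra ha) (hcomm b0 hrb hb)
  have hgp : g = el p * r0 := by rw [← hp, mul_assoc, hr, mul_one]
  have hcard : g.support.card = 4 ∨ g.support.card = 6 := by
    have h := inverting p fun x => by
      have := Equiv.congr_fun hg x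
      rw [hgp] at this
      exact this
    rw [hgp]
    exact h
  have h1 : g ≠ 1 := fun e => by
    subst e
    rw [one_mul, inv_one, mul_one] at ha
    exact absurd (Equiv.congr_fun ha 0) (by decide +kernel)
  obtain ⟨k, -, -, -, hk, hs⟩ := invol_support hg h1
  rcases hcard with h | h
  · refine ⟨fun _ => h, fun hne => absurd ?_ hne⟩
    rw [hs, show k = 2 by omega]; decide
  · refine ⟨fun he => absurd he ?_, fun _ => h⟩
    rw [hs, show k = 3 by omega]; decide

/-- An odd involution exchanging the three-cycles. -/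
theorem invol_swapping {g : Perm (Fin 8)} (hg : g * g = 1) (ha : g * a0 * g⁻¹ = b0)
    (hb : g * b0 * g⁻¹ = a0) (ho : sign g ≠ 1) : g.support.card = 6 := by
  have hu : u0 * u0 = 1 := Equiv.ext fun x => (base_facts x).2.1
  have hua : u0 * a0 * u0 = b0 := Equiv.ext fun x => (u0_swap x).1
  have hub : u0 * b0 * u0 = a0 := Equiv.ext fun x => (u0_swap x).2
  obtain ⟨p, hp⟩ := exists_el h18 (g := g * u0)
    (by
      calc g * u0 * a0 = g * (u0 * a0 * u0) * (u0 : Perm (Fin 8)) := by simp only [mul_assoc, hu, mul_one]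
        _ = g * b0 * g⁻¹ * (g * u0) := by rw [hua]; group
        _ = a0 * (g * u0) := by rw [hb])
    (by
      calc g * u0 * b0 = g * (u0 * b0 * u0) * (u0 : Perm (Fin 8)) := by simp only [mul_assoc, hu, mul_one]
        _ = g * a0 * g⁻¹ * (g * u0) := by rw [hub]; group
        _ = b0 * (g * u0) := by rw [ha])
  have hgp : g = el p * u0 := by rw [← hp, mul_assoc, hu, mul_one]
  have hcard : g.support.card = 6 ∨ g.support.card = 8 := by
    have h := swapping p fun x => by
      have := Equiv.congr_fun hg x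
      rw [hgp] at this
      exact this
    rw [hgp]
    exact h
  refine hcard.resolve_right fun h => ho ?_
  obtain ⟨k, -, -, -, hk, hs⟩ := invol_support hg (fun e => ho (by rw [e, map_one]))
  rw [hs, show k = 4 by omega]; decide

end Cent

end Cfsg.Agent.McLLoc.CoverPerm
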