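import Cfsg.Agent.McLRecog.Setting
import Cfsg.Agent.McLLoc.CoverPerm

/-!
# Double covers of the alternating group of degree eight
-/

set_option autoImplicit false
set_option maxRecDepth 10000

open Subgroup Equiv

namespace Cfsg.Agent.McLLoc

/-- A central extension of the alternating group of degree eight by a group of order two, given by a
map to the permutations, whose central involution lies in every subgroup of index two. -/
structure Cov (H : Type*) [Group H] where
  π : H →* Perm (Fin 8)
  z : H
  range_eq : π.range = alternatingGroup (Fin 8)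
  ker : ∀ h, π h = 1 ↔ h = 1 ∨ h = z
  z_sq : z * z = 1
  z_ne : z ≠ 1
  nonsplit : ∀ L : Subgroup H, L.index = 2 → z ∈ L

namespace Cov

variable {H : Type*} [Group H] [Finite H] (V : Cov H)
include V

theorem π_z : V.π V.z = 1 := (V.ker _).2 (Or.inr rfl)

theorem z_comm (h : H) : h * V.z = V.z * h := by
  have h1 : V.π (h * V.z * h⁻¹) = 1 := by rw [map_mul, map_mul, map_inv, V.π_z]; group
  rcases (V.ker _).1 h1 with e | e
  · exact absurd (by
      have := congrArg (fun x => h⁻¹ * x * h) e
      simpa [mul_assoc] using this) V.z_ne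
  · exact mul_inv_eq_iff_eq_mul.1 e

theorem mem_range (h : H) : V.π h ∈ alternatingGroup (Fin 8) := V.range_eq ▸ ⟨h, rfl⟩

theorem sign_π (h : H) : Perm.sign (V.π h) = 1 := Equiv.Perm.mem_alternatingGroup.1 (V.mem_range h)

theorem exists_lift {p : Perm (Fin 8)} (hp : Perm.sign p = 1) : ∃ h, V.π h = p := by
  have : p ∈ V.π.range := V.range_eq.symm ▸ Equiv.Perm.mem_alternatingGroup.2 hp
  exact this

theorem center_eq : center H = zpowers V.z := by
  refine le_antisymm (fun h hh => ?_) (zpowers_le.2 (mem_center_iff.2 V.z_comm))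
  have hc : (⟨V.π h, V.mem_range h⟩ : alternatingGroup (Fin 8)) ∈ center _ := by
    refine mem_center_iff.2 fun p => ?_
    obtain ⟨k, hk⟩ := V.exists_lift (Equiv.Perm.mem_alternatingGroup.1 p.2)
    refine Subtype.ext ?_
    show (p : Perm (Fin 8)) * V.π h = V.π h * p
    rw [← hk, ← map_mul, ← map_mul, mem_center_iff.1 hh k]
  rw [alternatingGroup.center_eq_bot (by rw [Nat.card_fin]; norm_num), mem_bot] at hc
  rcases (V.ker h).1 (congrArg Subtype.val hc) with rfl | rfl
  · exact one_mem _
  · exact mem_zpowers _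

theorem orderOf_z : orderOf V.z = 2 := orderOf_eq_prime (by rw [pow_two, V.z_sq]) V.z_ne

theorem card_center : Nat.card (center H) = 2 := by
  rw [V.center_eq, Nat.card_zpowers, V.orderOf_z]

theorem cover : Cfsg.IsNonsplitDoubleCover H (alternatingGroup (Fin 8)) := by
  refine ⟨V.card_center, ?_, fun L hL => ?_⟩
  · have hk : V.π.ker = center H := by
      ext h
      rw [MonoidHom.mem_ker, V.center_eq]
      constructor
      · intro e
        rcases (V.ker h).1 e with rfl | rfl
        · exact one_mem _
        · exact mem_zpowers _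
      · intro hm
        obtain ⟨k, rfl⟩ := mem_zpowers_iff.1 hm
        rw [map_zpow, V.π_z, one_zpow]
    exact ⟨((QuotientGroup.quotientMulEquivOfEq hk.symm).trans
      (QuotientGroup.quotientKerEquivRange V.π)).trans (MulEquiv.subgroupCongr V.range_eq)⟩
  · have hi : L.index = 2 := by rw [hL.index_eq_card, V.card_center]
    exact V.z_ne (disjoint_def.1 hL.disjoint (V.center_eq ▸ mem_zpowers _) (V.nonsplit L hi))

/-- The cover restricted to the centraliser of its central involution. -/
def top : Cov (centralizer ({V.z} : Set H)) where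
  π := V.π.comp (centralizer ({V.z} : Set H)).subtype
  z := ⟨V.z, mem_centralizer_singleton_iff.2 rfl⟩
  range_eq := by
    rw [← V.range_eq]
    ext p
    constructor
    · rintro ⟨h, rfl⟩; exact ⟨h, rfl⟩
    · rintro ⟨h, rfl⟩; exact ⟨⟨h, mem_centralizer_singleton_iff.2 (V.z_comm h)⟩, rfl⟩
  ker h := by
    rw [MonoidHom.comp_apply, V.ker]
    exact or_congr ⟨fun e => Subtype.ext e, congrArg Subtype.val⟩ ⟨fun e => Subtype.ext e, congrArg Subtype.val⟩
  z_sq := Subtype.ext V.z_sq
  z_ne := fun e => V.z_ne (congrArg Subtype.val e)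
  nonsplit L hL := by
    have htop : centralizer ({V.z} : Set H) = ⊤ :=
      eq_top_iff.2 fun h _ => mem_centralizer_singleton_iff.2 (V.z_comm h)
    have hi : (L.map (centralizer ({V.z} : Set H)).subtype).index = 2 := by
      rw [index_map_subtype, hL, htop, index_top]
    obtain ⟨l, hl, e⟩ := V.nonsplit _ hi
    rwa [show (⟨V.z, mem_centralizer_singleton_iff.2 rfl⟩ : centralizer ({V.z} : Set H)) = l from
      Subtype.ext e.symm]

/-- The involutions other than the central one form one class. -/
theorem isConj_invol {x y : H} (hx : x * x = 1) (hx1 : x ≠ 1) (hxz : x ≠ V.z)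
    (hy : y * y = 1) (hy1 : y ≠ 1) (hyz : y ≠ V.z) : IsConj x y := by
  obtain ⟨S, hS⟩ := McLRecog.exists_setting V.z V.orderOf_z V.top.cover
  have h : ∀ i : H, i * i = 1 → i ≠ 1 → i ≠ V.z → IsConj S.v i := fun i h1 h2 h3 =>
    (McLRecog.invol_cases S (orderOf_eq_prime (by rw [pow_two, h1]) h2)
      (by rw [hS]; exact V.z_comm i)).resolve_left (fun e => h3 (e.trans hS))
  exact (h x hx hx1 hxz).symm.trans (h y hy hy1 hyz)

theorem lift_sq_cases {h : H} (hh : V.π h * V.π h = 1) : h * h = 1 ∨ h * h = V.z :=
  (V.ker _).1 (by rw [map_mul, hh])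

/-- An involution other than the central one moves all eight points. -/
theorem support_eight {y : H} (hy : y * y = 1) (hy1 : y ≠ 1) (hyz : y ≠ V.z) :
    (V.π y).support.card = 8 := by
  have hp1 : V.π y ≠ 1 := fun e => ((V.ker y).1 e).elim hy1 hyz
  have hp2 : V.π y * V.π y = 1 := by rw [← map_mul, hy, map_one]
  refine (CoverPerm.even_invol hp2 hp1 (V.sign_π y)).resolve_left fun h4 => ?_
  -- every lift of an even involution moving four points is an involution
  have hlift : ∀ p : Perm (Fin 8), p * p = 1 → p.support.card = 4 → Perm.sign p = 1 →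
      ∀ h, V.π h = p → h * h = 1 := by
    intro p hp hpc hps h hh
    obtain ⟨c, hc⟩ := isConj_iff.1 (alternatingGroup.isConj_of (σ := ⟨V.π y, V.mem_range y⟩)
      (τ := ⟨p, Equiv.Perm.mem_alternatingGroup.2 hps⟩)
      (CoverPerm.invol_conj hp2 hp (h4.trans hpc.symm)) (by
        show (V.π y).support.card + 2 ≤ Fintype.card (Fin 8)
        rw [h4, Fintype.card_fin]; norm_num))
    obtain ⟨k, hk⟩ := V.exists_lift (Equiv.Perm.mem_alternatingGroup.1 c.2)
    have hk' : V.π (k * y * k⁻¹) = V.π h := by
      rw [map_mul, map_mul, map_inv, hk, hh]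
      exact congrArg Subtype.val hc
    have he : V.π ((k * y * k⁻¹)⁻¹ * h) = 1 := by rw [map_mul, map_inv, hk', inv_mul_cancel]
    have hcc : k * y * k⁻¹ * (k * y * k⁻¹) = 1 := by
      rw [show k * y * k⁻¹ * (k * y * k⁻¹) = k * (y * y) * k⁻¹ by group, hy, mul_one, mul_inv_cancel]
    rcases (V.ker _).1 he with e | e
    · rw [inv_mul_eq_one] at e
      rw [← e]; exact hcc
    · rw [inv_mul_eq_iff_eq_mul] at e
      rw [e, show k * y * k⁻¹ * V.z * (k * y * k⁻¹ * V.z) = k * y * k⁻¹ * (V.z * (k * y * k⁻¹)) * V.z by group,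
        ← V.z_comm, ← mul_assoc, hcc, one_mul, V.z_sq]
  -- a lift of a fixed-point-free even involution squares to the central involution
  have hfree : ∀ h, (V.π h).support.card = 8 → V.π h * V.π h = 1 → h * h = V.z := by
    intro h hc hh
    refine (V.lift_sq_cases hh).resolve_left fun e => ?_
    have h1 : h ≠ 1 := fun e' => by rw [e', map_one, Perm.support_one] at hc; simp at hc
    have hz : h ≠ V.z := fun e' => by rw [e', V.π_z, Perm.support_one] at hc; simp at hc
    obtain ⟨k, hk⟩ := isConj_iff.1 (V.isConj_invol hy hy1 hyz e h1 hz)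
    rw [← hk, map_mul, map_mul, map_inv, Perm.card_support_conj, h4] at hc
    omega
  obtain ⟨P, hP⟩ := V.exists_lift (p := Equiv.swap 0 1 * Equiv.swap 2 3) (by decide +kernel)
  obtain ⟨P', hP'⟩ := V.exists_lift (p := Equiv.swap 0 2 * Equiv.swap 1 3) (by decide +kernel)
  obtain ⟨K, hK⟩ := V.exists_lift (p := Equiv.swap 4 5 * Equiv.swap 6 7) (by decide +kernel)
  have hP2 := hlift _ (by decide +kernel) (by decide +kernel) (by decide +kernel) P hP
  have hP2' := hlift _ (by decide +kernel) (by decide +kernel) (by decide +kernel) P' hP'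
  have hK2 := hlift _ (by decide +kernel) (by decide +kernel) (by decide +kernel) K hK
  have hR2 : P * P' * (P * P') = 1 := hlift (Equiv.swap 0 3 * Equiv.swap 1 2) (by decide +kernel)
    (by decide +kernel) (by decide +kernel) _ (by rw [map_mul, hP, hP']; decide +kernel)
  have hanti : ∀ {A : H}, A * A = 1 → A * K * (A * K) = V.z → K * A = A * K * V.z := by
    intro A hA e
    calc K * A = A * (A * K * (A * K)) * K := by
          rw [show A * (A * K * (A * K)) * K = (A * A) * (K * A) * (K * K) by group, hA, hK2, one_mul, mul_one]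
      _ = A * V.z * K := by rw [e]
      _ = A * K * V.z := by rw [mul_assoc, ← V.z_comm, ← mul_assoc]
  have h1 := hanti hP2 (hfree _ (by rw [map_mul, hP, hK]; decide +kernel) (by rw [map_mul, hP, hK]; decide +kernel))
  have h2 := hanti hP2' (hfree _ (by rw [map_mul, hP', hK]; decide +kernel) (by rw [map_mul, hP', hK]; decide +kernel))
  have h3 : K * (P * P') = P * P' * K := by
    calc K * (P * P') = (K * P) * P' := by group
      _ = P * (K * (V.z * P')) := by rw [h1]; group
      _ = P * ((K * P') * V.z) := by rw [← V.z_comm]; group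
      _ = P * P' * K * (V.z * V.z) := by rw [h2]; group
      _ = P * P' * K := by rw [V.z_sq, mul_one]
  have h4' := hfree (P * P' * K) (by rw [map_mul, map_mul, hP, hP', hK]; decide +kernel)
    (by rw [map_mul, map_mul, hP, hP', hK]; decide +kernel)
  refine V.z_ne ?_
  rw [← h4', show P * P' * K * (P * P' * K) = P * P' * (K * (P * P')) * K by group, h3,
    show P * P' * (P * P' * K) * K = P * P' * (P * P') * (K * K) by group, hR2, hK2, one_mul]

end Cov

end Cfsg.Agent.McLLoc
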