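import Cfsg.Agent.McLLoc.CoverSetup

/-!
# Involutions of the centraliser of the involution
-/

set_option autoImplicit false
set_option maxRecDepth 10000

open Subgroup Equiv
open scoped commutatorElement

namespace Cfsg.Agent.McLLoc

theorem card_cent_map {A B : Type*} [Group A] [Group B] (e : A ≃* B) (S : Set A) :
    Nat.card (centralizer (e '' S)) = Nat.card (centralizer S) := by
  refine (Nat.card_congr (e.toEquiv.subtypeEquiv fun a => ?_)).symm
  simp only [mem_centralizer_iff, Set.forall_mem_image, MulEquiv.toEquiv_eq_coe, MulEquiv.coe_toEquiv]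
  exact forall₂_congr fun x _ => by rw [← map_mul, ← map_mul, e.injective.eq_iff]

variable {G : Type*} [Group G] {s : Setting G} {f : Frame s}

/-- The sign on the centraliser of the involution. -/
noncomputable abbrev Std.sgn (d : Std f) : f.X →* ℤˣ :=
  Perm.sign.comp (d.e.toMonoidHom.comp f.proj)

/-- The map to the permutations. -/
noncomputable abbrev Std.π (d : Std f) : f.X →* Perm (Fin 8) := d.e.toMonoidHom.comp f.proj

namespace Facts

variable [Finite G]

theorem exists_std (F : Facts f) (hB : CaseB f) (e : f.Xq ≃* Perm (Fin 8)) : Nonempty (Std f) := by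
  have hc : Nat.card (centralizer ({f.zq} : Set f.Xq)) = 360 := by
    obtain ⟨e1⟩ := hB.eC
    rw [Nat.card_congr e1.toEquiv, Nat.card_prod, Nat.card_perm, Nat.card_fin]
    simp [Nat.factorial]
  have hu : MulAut.conj f.uq f.zq = f.z'q := by
    show f.uq * f.zq * f.uq⁻¹ = f.z'q
    rw [← map_inv, ← map_mul, ← map_mul]
    exact congrArg f.proj (Subtype.ext f.u_z)
  have hc' : Nat.card (centralizer ({f.z'q} : Set f.Xq)) = 360 := by
    rw [← hc, ← card_cent_map (MulAut.conj f.uq) {f.zq}, Set.image_singleton, hu]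
  have ho' : orderOf f.z'q = 3 := by rw [← hu, MulEquiv.orderOf_eq, F.zq_ord]
  obtain ⟨p, hp1, hp2⟩ := CoverPerm.exists_std (a := e f.zq) (b := e f.z'q)
    (by rw [MulEquiv.orderOf_eq, F.zq_ord]) (by rw [MulEquiv.orderOf_eq, ho'])
    (by rw [← hc, ← card_cent_map e, Set.image_singleton]) (by rw [← hc', ← card_cent_map e, Set.image_singleton])
    ((map_mul e _ _).symm.trans ((congrArg e F.zz'_comm).trans (map_mul e _ _))) (fun h => F.z'q_notmem (by
      obtain ⟨k, hk⟩ := mem_zpowers_iff.1 h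
      exact ⟨k, e.injective (by rw [map_zpow]; exact hk)⟩))
  refine ⟨⟨e.trans (MulAut.conj p), hp1, hp2, ?_⟩⟩
  have h := hB.centW
  rw [centralizer_closure, ← card_cent_map (e.trans (MulAut.conj p))] at h
  rw [Set.image_insert_eq, Set.image_singleton] at h
  rwa [show (e.trans (MulAut.conj p)) f.zq = CoverPerm.a0 from hp1,
    show (e.trans (MulAut.conj p)) f.z'q = CoverPerm.b0 from hp2] at h

theorem card_Xq (_F : Facts f) (d : Std f) : Nat.card f.Xq = 40320 := by
  rw [Nat.card_congr d.e.toEquiv, Nat.card_perm, Nat.card_fin]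
  rfl

theorem card_X (F : Facts f) (d : Std f) : Nat.card f.X = 80640 := by
  have h := f.T0.card_mul_index
  rw [index_eq_card, F.card_Xq d, Frame.T0,
    Nat.card_congr (subgroupOfEquivOfLe (zpowers_le.2 f.t_memX)).toEquiv, Nat.card_zpowers, f.t_ord] at h
  omega

/-- The cover given by a group mapping onto the even part. -/
theorem exists_cov (F : Facts f) (d : Std f) {H : Type*} [Group H] [Finite H] (ι : H →* f.X)
    (hi : Function.Injective ι) (hr : ι.range = d.sgn.ker) :
    ∃ V : Cov H, ι V.z = ⟨f.t, f.t_memX⟩ ∧ ∀ h, V.π h = d.π (ι h) := by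
  have htproj : f.proj ⟨f.t, f.t_memX⟩ = 1 := F.proj_ker.2 (Or.inr rfl)
  obtain ⟨z, hz⟩ : ∃ z, ι z = ⟨f.t, f.t_memX⟩ := by
    have : (⟨f.t, f.t_memX⟩ : f.X) ∈ ι.range := by
      rw [hr, MonoidHom.mem_ker, MonoidHom.comp_apply, MonoidHom.comp_apply, htproj, map_one, map_one]
    exact this
  have hker : ∀ h, d.π (ι h) = 1 ↔ h = 1 ∨ h = z := by
    intro h
    rw [MonoidHom.comp_apply]
    show d.e (f.proj (ι h)) = 1 ↔ _
    rw [MulEquiv.map_eq_one_iff, F.proj_ker]
    constructor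
    · rintro (e | e)
      · exact Or.inl (hi (by rw [map_one]; exact Subtype.ext e))
      · exact Or.inr (hi (by rw [hz]; exact Subtype.ext e))
    · rintro (rfl | rfl)
      · exact Or.inl (by rw [map_one]; rfl)
      · exact Or.inr (by rw [hz])
  have hrange : (d.π.comp ι).range = alternatingGroup (Fin 8) := by
    ext p
    rw [Equiv.Perm.mem_alternatingGroup]
    constructor
    · rintro ⟨h, rfl⟩
      have h1 : ι h ∈ d.sgn.ker := hr ▸ ⟨h, rfl⟩
      exact h1
    · intro hp
      obtain ⟨g, hg⟩ := QuotientGroup.mk'_surjective f.T0 (d.e.symm p)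
      have h1 : g ∈ ι.range := by
        rw [hr, MonoidHom.mem_ker, MonoidHom.comp_apply, MonoidHom.comp_apply]
        show Perm.sign (d.e (f.proj g)) = 1
        rw [show f.proj g = d.e.symm p from hg, d.e.apply_symm_apply, hp]
      obtain ⟨h, rfl⟩ := h1
      refine ⟨h, ?_⟩
      show d.e (f.proj (ι h)) = p
      rw [show f.proj (ι h) = d.e.symm p from hg, d.e.apply_symm_apply]
  refine ⟨⟨d.π.comp ι, z, hrange, hker, hi ?_, ?_, ?_⟩, hz, fun _ => rfl⟩
  · rw [map_mul, hz, map_one]; exact Subtype.ext F.t_sq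
  · intro h
    rw [h, map_one] at hz
    exact F.t_ne_one (congrArg Subtype.val hz).symm
  intro L hL
  by_contra hzL
  -- the subgroup generated by the squares would be normal in the centraliser, with abelian quotient
  let S : Subgroup H := closure (Set.range fun h : H => h * h)
  have hSL : S ≤ L := by
    rw [closure_le]
    rintro _ ⟨h, rfl⟩
    exact mul_self_mem_of_index_two hL h
  have hmap : S.map (d.π.comp ι) = alternatingGroup (Fin 8) := by
    refine le_antisymm (hrange ▸ map_le_range _ _) ?_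
    rw [← Equiv.Perm.closure_three_cycles_eq_alternating, closure_le]
    intro p hp
    have hp' : Perm.IsThreeCycle p := hp
    have h2 : p * p ∈ (d.π.comp ι).range := by
      rw [hrange, Equiv.Perm.mem_alternatingGroup, map_mul, hp'.sign, one_mul]
    obtain ⟨g, hg⟩ := h2
    refine ⟨g * g, subset_closure ⟨g, rfl⟩, ?_⟩
    rw [map_mul, hg, show p * p * (p * p) = p ^ 3 * p by rw [pow_succ, pow_two]; group]
    have h3 := pow_orderOf_eq_one p
    rw [hp'.orderOf] at h3
    rw [h3, one_mul]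
  have hA : Nat.card (alternatingGroup (Fin 8)) = 20160 := by
    rw [nat_card_alternatingGroup, Nat.card_fin]; rfl
  have hH : Nat.card H = 40320 := by
    have h1 := d.sgn.ker.card_mul_index
    have h2 : Function.Surjective d.sgn := by
      intro v
      obtain ⟨p, hp⟩ := Equiv.Perm.sign_surjective (Fin 8) v
      obtain ⟨g, hg⟩ := QuotientGroup.mk'_surjective f.T0 (d.e.symm p)
      refine ⟨g, ?_⟩
      show Perm.sign (d.e (f.proj g)) = v
      rw [show f.proj g = d.e.symm p from hg, d.e.apply_symm_apply, hp]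
    rw [index_ker, MonoidHom.range_eq_top.2 h2, card_top, Nat.card_eq_fintype_card (α := ℤˣ),
      F.card_X d, ← hr, ← Nat.card_congr (MonoidHom.ofInjective hi).toEquiv] at h1
    simp only [Fintype.card_units_int] at h1
    omega
  have hLcard : Nat.card L = 20160 := by
    have := L.card_mul_index
    rw [hL, hH] at this
    omega
  have hScard : Nat.card S = 20160 := by
    refine le_antisymm (hLcard ▸ card_le_of_le hSL) ?_
    rw [← hA, ← hmap]
    exact Nat.le_of_dvd Nat.card_pos (card_map_dvd S _)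
  let N : Subgroup f.X := S.map ι
  haveI : N.Normal := ⟨fun x hx g => by
    obtain ⟨y, hy, rfl⟩ := hx
    let φ : H →* f.X := (MulAut.conj g).toMonoidHom.comp ι
    suffices S.map φ ≤ N from this ⟨y, hy, rfl⟩
    rw [MonoidHom.map_closure, closure_le]
    rintro _ ⟨_, ⟨h, rfl⟩, rfl⟩
    have h1 : ι h ∈ d.sgn.ker := hr ▸ ⟨h, rfl⟩
    obtain ⟨h', hh'⟩ : g * ι h * g⁻¹ ∈ ι.range := hr.symm ▸ (MonoidHom.normal_ker _).conj_mem _ h1 g
    refine ⟨h' * h', subset_closure ⟨h', rfl⟩, ?_⟩
    show ι (h' * h') = g * ι (h * h) * g⁻¹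
    rw [map_mul, hh', map_mul]; group⟩
  have hN : Nat.card (f.X ⧸ N) = 2 ^ 2 := by
    have h := N.card_mul_index
    rw [index_eq_card, card_map_of_injective hi, hScard, F.card_X d] at h
    omega
  haveI := Fact.mk Nat.prime_two
  have hcomm := IsPGroup.commutative_of_card_eq_prime_sq hN
  have hct : (⁅(⟨f.c, f.c_memX⟩ : f.X), ⟨f.u, f.u_memX⟩⁆ : f.X) ∈ N := by
    rw [← QuotientGroup.eq_one_iff, ← QuotientGroup.mk'_apply, map_commutatorElement,
      commutatorElement_eq_one_iff_mul_comm]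
    exact hcomm _ _
  obtain ⟨y, hy, e⟩ := hct
  have : y = z := hi (by
    rw [e, hz]
    refine Subtype.ext ?_
    show f.c * f.u * f.c⁻¹ * f.u⁻¹ = f.t
    rw [F.t_mul_u, mul_inv_cancel_right])
  exact hzL (hSL (this ▸ hy))

/-- An involution inverting `J` and commuting with `t`. -/
theorem exists_h (F : Facts f) (hB : CaseB f) :
    ∃ h : G, h ∈ f.X ∧ orderOf h = 2 ∧ ∀ j ∈ s.J, h * j * h⁻¹ = j⁻¹ := by
  obtain ⟨h0, hord, hinv⟩ := hB.neg
  have h02 : h0 * h0 = 1 := by have := pow_orderOf_eq_one h0; rwa [hord, pow_two] at this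
  have h0i : h0⁻¹ = h0 := inv_eq_of_mul_eq_one_right h02
  have hti : f.t⁻¹ = f.t := inv_eq_of_mul_eq_one_right F.t_sq
  have htJ : ∀ j ∈ s.J, f.t * j * f.t⁻¹ ∈ s.J := fun j hj =>
    (mem_normalizer_iff.1 (s.M_le_normJ f.t_memM) j).1 hj
  have hk : h0 * (f.t * h0 * f.t⁻¹) ∈ s.J := by
    rw [← F.centJ, mem_centralizer_iff]
    intro j hj
    have h1 : f.t * h0 * f.t⁻¹ * j * (f.t * h0 * f.t⁻¹)⁻¹ = j⁻¹ := by
      have h2 := hinv _ (by simpa [hti] using htJ j hj : f.t⁻¹ * j * f.t ∈ s.J)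
      calc f.t * h0 * f.t⁻¹ * j * (f.t * h0 * f.t⁻¹)⁻¹
          = f.t * (h0 * (f.t⁻¹ * j * f.t) * h0⁻¹) * f.t⁻¹ := by group
        _ = f.t * (f.t⁻¹ * j * f.t)⁻¹ * f.t⁻¹ := by rw [h2]
        _ = j⁻¹ := by group
    have h3 : h0 * (f.t * h0 * f.t⁻¹) * j * (h0 * (f.t * h0 * f.t⁻¹))⁻¹ = j := by
      calc _ = h0 * (f.t * h0 * f.t⁻¹ * j * (f.t * h0 * f.t⁻¹)⁻¹) * h0⁻¹ := by group
        _ = j := by rw [h1, ← conj_inv, hinv j hj, inv_inv]
    exact (mul_inv_eq_iff_eq_mul.1 h3).symm
  obtain ⟨j, hj⟩ : ∃ j, j = h0 * (f.t * h0 * f.t⁻¹) := ⟨_, rfl⟩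
  rw [← hj] at hk
  have hth : f.t * h0 * f.t⁻¹ = h0 * j := by rw [hj, ← mul_assoc, h02, one_mul]
  have htj : f.t * j * f.t⁻¹ = j⁻¹ := by
    have h1 : f.t * (h0 * j) * f.t⁻¹ = h0 := by
      rw [← hth, hti]
      calc f.t * (f.t * h0 * f.t) * f.t = (f.t * f.t) * h0 * (f.t * f.t) := by group
        _ = h0 := by rw [F.t_sq]; group
    calc f.t * j * f.t⁻¹ = (f.t * h0 * f.t⁻¹)⁻¹ * (f.t * (h0 * j) * f.t⁻¹) := by group
      _ = j⁻¹ := by rw [h1, hth]; group
  have hj3 : j ^ 3 = 1 := s.hJexp j hk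
  have hinv' : ∀ x ∈ s.J, h0 * (j * j) * x * (h0 * (j * j))⁻¹ = x⁻¹ := fun x hx => by
    haveI := s.hJcomm
    have hc : (j * j) * x * (j * j)⁻¹ = x := by
      rw [show j * j * x = x * (j * j) from
        congrArg Subtype.val (mul_comm' (⟨j * j, mul_mem hk hk⟩ : s.J) ⟨x, hx⟩), mul_inv_cancel_right]
    calc _ = h0 * (j * j * x * (j * j)⁻¹) * h0⁻¹ := by group
      _ = x⁻¹ := by rw [hc, hinv x hx]
  refine ⟨h0 * (j * j), mem_centralizer_singleton_iff.2 ?_, ?_, hinv'⟩
  · have h1 : f.t * (h0 * (j * j)) * f.t⁻¹ = h0 * (j * j) := by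
      calc f.t * (h0 * (j * j)) * f.t⁻¹ = (f.t * h0 * f.t⁻¹) * (f.t * j * f.t⁻¹) * (f.t * j * f.t⁻¹) := by group
        _ = h0 * j⁻¹ := by rw [hth, htj]; group
        _ = h0 * (j * j) := by
          rw [show j⁻¹ = j * j by rw [inv_eq_iff_mul_eq_one, ← hj3, pow_succ, pow_two, mul_assoc]]
    exact (mul_inv_eq_iff_eq_mul.1 h1).symm
  · refine orderOf_eq_prime ?_ fun h => ?_
    · rw [pow_two]
      calc h0 * (j * j) * (h0 * (j * j)) = h0 * (j * j) * h0⁻¹ * (h0 * h0) * (j * j) := by group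
        _ = 1 := by rw [h02, hinv _ (mul_mem hk hk)]; group
    · have h1 := hinv' f.z' f.z'_mem
      rw [h, one_mul, inv_one, mul_one] at h1
      have h3 := s.hJexp _ f.z'_mem
      rw [pow_succ, pow_two, show f.z' * f.z' = 1 by nth_rewrite 1 [h1]; exact inv_mul_cancel _, one_mul] at h3
      exact F.z'_notQ (h3 ▸ one_mem _)

/-- An involution inverting `J` is not conjugate to `t`. -/
theorem not_conj (F : Facts f) (d : Std f) {h : G} (hh : h * h = 1)
    (hinv : ∀ j ∈ s.J, h * j * h⁻¹ = j⁻¹) (g : G) : g * h * g⁻¹ ≠ f.t := by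
  intro hg
  haveI := s.hJn
  haveI := s.hJcomm
  have hi : h⁻¹ = h := inv_eq_of_mul_eq_one_right hh
  let ψ : (s.M ⊓ centralizer ({h} : Set G) : Subgroup G) →* s.M ⧸ s.J.subgroupOf s.M :=
    (QuotientGroup.mk' _).comp (inclusion inf_le_left)
  have hψ : Function.Bijective ψ := by
    refine ⟨(injective_iff_map_eq_one _).2 fun a ha => ?_, fun q => ?_⟩
    · rw [MonoidHom.comp_apply, QuotientGroup.mk'_apply, QuotientGroup.eq_one_iff, mem_subgroupOf] at ha
      have ha' : (a : G) ∈ s.J := ha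
      have h1 := hinv _ ha'
      rw [(mem_centralizer_singleton_iff.1 a.2.2).symm, mul_inv_cancel_right] at h1
      have h3 := s.hJexp _ ha'
      rw [pow_succ, pow_two, show (a : G) * a = 1 by nth_rewrite 1 [h1]; exact inv_mul_cancel _, one_mul] at h3
      exact Subtype.ext h3
    · obtain ⟨⟨m, hm⟩, rfl⟩ := QuotientGroup.mk'_surjective _ q
      have hmJ := s.M_le_normJ hm
      obtain ⟨k, hk⟩ : ∃ k, k = h * (m * h * m⁻¹) := ⟨_, rfl⟩
      have hkJ : k ∈ s.J := by
        rw [← F.centJ, mem_centralizer_iff]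
        intro j hj
        have h1 : m * h * m⁻¹ * j * (m * h * m⁻¹)⁻¹ = j⁻¹ := by
          have h2 := hinv _ (show m⁻¹ * j * m ∈ s.J by
            simpa using (mem_normalizer_iff.1 (inv_mem hmJ) j).1 hj)
          calc m * h * m⁻¹ * j * (m * h * m⁻¹)⁻¹ = m * (h * (m⁻¹ * j * m) * h⁻¹) * m⁻¹ := by group
            _ = j⁻¹ := by rw [h2]; group
        have h3 : k * j * k⁻¹ = j := by
          rw [hk]
          calc _ = h * (m * h * m⁻¹ * j * (m * h * m⁻¹)⁻¹) * h⁻¹ := by group
            _ = j := by rw [h1, ← conj_inv, hinv j hj, inv_inv]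
        exact (mul_inv_eq_iff_eq_mul.1 h3).symm
      obtain ⟨j, hj⟩ : ∃ j, j = m⁻¹ * k⁻¹ * m := ⟨_, rfl⟩
      have hjJ : j ∈ s.J := by
        rw [hj]; simpa using (mem_normalizer_iff.1 (inv_mem hmJ) _).1 (inv_mem hkJ)
      have hmj : m * j ∈ centralizer ({h} : Set G) := by
        rw [mem_centralizer_singleton_iff]
        have h1 : m * j * h * (m * j)⁻¹ = h := by
          have h2 : j * h * j⁻¹ = h * j := by
            have h4 : j⁻¹ * j⁻¹ = j := by
              have := s.hJexp j hjJ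
              rw [← mul_inv_rev, inv_eq_iff_mul_eq_one]
              rwa [pow_succ, pow_two] at this
            calc j * h * j⁻¹ = h * (h⁻¹ * j * h) * j⁻¹ := by group
              _ = h * (j⁻¹ * j⁻¹) := by
                have h5 : h⁻¹ * j * h = j⁻¹ := by
                  have := hinv j hjJ
                  rwa [hi] at this ⊢
                rw [h5, mul_assoc]
              _ = h * j := by rw [h4]
          calc m * j * h * (m * j)⁻¹ = m * (j * h * j⁻¹) * m⁻¹ := by group
            _ = (m * h * m⁻¹) * (m * j * m⁻¹) := by rw [h2]; group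
            _ = (h * k) * k⁻¹ := by
              rw [hj]
              congr 1
              · rw [hk, ← mul_assoc, hh, one_mul]
              · group
            _ = h := by rw [mul_inv_cancel_right]
        exact mul_inv_eq_iff_eq_mul.1 h1
      refine ⟨⟨m * j, mul_mem hm (s.hJM hjJ), hmj⟩, ?_⟩
      rw [MonoidHom.comp_apply, QuotientGroup.mk'_eq_mk']
      refine ⟨⟨j⁻¹, inv_mem (s.hJM hjJ)⟩, mem_subgroupOf.2 (inv_mem hjJ), Subtype.ext ?_⟩
      show m * j * j⁻¹ = m
      rw [mul_inv_cancel_right]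
  obtain ⟨eM⟩ := s.hMq
  let φ : Six.Alt6 ≃* (s.M ⊓ centralizer ({h} : Set G) : Subgroup G) :=
    eM.symm.trans (MulEquiv.ofBijective ψ hψ).symm
  have hX : ∀ a, g * (φ a : G) * g⁻¹ ∈ f.X := fun a => by
    rw [mem_centralizer_singleton_iff, ← hg]
    calc g * (φ a : G) * g⁻¹ * (g * h * g⁻¹) = g * ((φ a : G) * h) * g⁻¹ := by group
      _ = g * (h * φ a) * g⁻¹ := by rw [mem_centralizer_singleton_iff.1 (φ a).2.2]
      _ = g * h * g⁻¹ * (g * (φ a : G) * g⁻¹) := by group
  let κ : Six.Alt6 →* f.X := MonoidHom.mk' (fun a => ⟨g * (φ a : G) * g⁻¹, hX a⟩) fun a b =>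
    Subtype.ext (by
      show g * ((φ (a * b) : _) : G) * g⁻¹ = g * (φ a : G) * g⁻¹ * (g * (φ b : G) * g⁻¹)
      rw [map_mul, Subgroup.coe_mul]; group)
  have hκ : Function.Injective κ := fun a b e => φ.injective (Subtype.ext
    (mul_left_cancel (mul_right_cancel (congrArg Subtype.val e))))
  haveI : IsSimpleGroup Six.Alt6 := alternatingGroup.isSimpleGroup (by simp)
  let θ : Six.Alt6 →* Perm (Fin 8) := d.π.comp κ
  have hθ : Function.Injective θ := by
    rcases θ.normal_ker.eq_bot_or_eq_top with e | e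
    · exact (MonoidHom.ker_eq_bot_iff θ).1 e
    exfalso
    have h1 : θ Six.pa = 1 := MonoidHom.mem_ker.1 (e ▸ mem_top _)
    rw [MonoidHom.comp_apply, MonoidHom.comp_apply] at h1
    have h2 : κ Six.pa * κ Six.pa = 1 := by
      rcases F.proj_ker.1 ((MulEquiv.map_eq_one_iff _).1 h1) with e1 | e1
      · exact Subtype.ext (by rw [coe_mul, e1, mul_one]; rfl)
      · exact Subtype.ext (by rw [coe_mul, e1, F.t_sq]; rfl)
    rw [← map_mul, ← map_one κ] at h2
    exact absurd (hκ h2) (by decide +kernel)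
  have hsgn : ∀ a, Perm.sign (θ a) = 1 := by
    intro a
    rcases (Perm.sign.comp θ).normal_ker.eq_bot_or_eq_top with e | e
    · exfalso
      have hinj := (MonoidHom.ker_eq_bot_iff _).1 e
      have : Six.pt * Six.pa = Six.pa * Six.pt := hinj (by rw [map_mul, map_mul, mul_comm])
      exact absurd this (by decide +kernel)
    · exact MonoidHom.mem_ker.1 (e ▸ mem_top a : a ∈ (Perm.sign.comp θ).ker)
  -- the image of an involution moves all points
  obtain ⟨V, hVz, hVπ⟩ := F.exists_cov d d.sgn.ker.subtype d.sgn.ker.subtype_injective (range_subtype _)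
  have hi8 : (θ Six.pt).support.card = 8 := by
    let y : d.sgn.ker := ⟨κ Six.pt, hsgn _⟩
    have h1 := V.support_eight (y := y) (Subtype.ext (by
        show κ Six.pt * κ Six.pt = 1
        rw [← map_mul, Six.t_sq, map_one]))
      (fun e => Six.t_ne (hκ ((congrArg Subtype.val e).trans (map_one κ).symm)))
      (fun e => Six.t_ne (hθ (by
        show d.π (κ Six.pt) = θ 1
        rw [show κ Six.pt = d.sgn.ker.subtype V.z from congrArg Subtype.val e, hVz, map_one,
          MonoidHom.comp_apply, F.proj_ker.2 (Or.inr rfl), map_one])))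
    rwa [hVπ] at h1
  -- a Sylow subgroup inverted by it
  haveI := Fact.mk Nat.prime_three
  have h9 : ∀ P : Subgroup f.Xq, Nat.card P = 9 → Nat.card P = 3 ^ (Nat.card f.Xq).factorization 3 := by
    intro P hP
    rw [hP, F.card_Xq d, show (40320 : ℕ) = 9 * 4480 by norm_num,
      Nat.factorization_mul (by norm_num) (by norm_num), Finsupp.add_apply,
      show (9 : ℕ) = 3 ^ 2 by norm_num, Nat.Prime.factorization_pow Nat.prime_three, Finsupp.single_eq_same,
      Nat.factorization_eq_zero_of_not_dvd (by norm_num : ¬ 3 ∣ 4480)]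
  have hP0 : Nat.card (Six.P0.map (f.proj.comp κ)) = 9 := by
    rw [card_map_of_injective, Six.card_P0]
    exact Function.Injective.of_comp (f := d.e) (show Function.Injective (d.e ∘ (f.proj.comp κ)) from hθ)
  let P1 : Sylow 3 f.Xq := Sylow.ofCard _ (h9 _ hP0)
  let P2 : Sylow 3 f.Xq := Sylow.ofCard _ (h9 _ F.card_WQ)
  obtain ⟨q, hq⟩ := MulAction.exists_smul_eq f.Xq P1 P2
  have hinv2 : ∀ w ∈ WQ f, q * f.proj (κ Six.pt) * q⁻¹ * w * (q * f.proj (κ Six.pt) * q⁻¹)⁻¹ = w⁻¹ := by
    intro w hw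
    have h1 : q⁻¹ * w * q ∈ Six.P0.map (f.proj.comp κ) := by
      have : w ∈ ((q • P1 : Sylow 3 f.Xq) : Subgroup f.Xq) := by rw [hq]; exact hw
      rw [Sylow.coe_subgroup_smul, Subgroup.mem_pointwise_smul_iff_inv_smul_mem] at this
      have h2 : q⁻¹ * w * q ∈ (P1 : Subgroup f.Xq) := by simpa [MulAut.smul_def] using this
      exact h2
    obtain ⟨_, ⟨i, j, rfl⟩, e⟩ := h1
    rw [MonoidHom.comp_apply] at e
    have h2 : Six.pt * Six.el i j * Six.pt⁻¹ = (Six.el i j)⁻¹ := eq_inv_of_mul_eq_one_left (Six.t_P0 i j)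
    calc _ = q * (f.proj (κ Six.pt) * (q⁻¹ * w * q) * (f.proj (κ Six.pt))⁻¹) * q⁻¹ := by group
      _ = q * f.proj (κ (Six.pt * Six.el i j * Six.pt⁻¹)) * q⁻¹ := by
        rw [← e, ← map_inv, ← map_inv, ← map_mul, ← map_mul, ← map_mul, ← map_mul]
      _ = q * (q⁻¹ * w * q)⁻¹ * q⁻¹ := by rw [h2, map_inv, map_inv, e]
      _ = w⁻¹ := by group
  have hconv : d.e (q * f.proj (κ Six.pt) * q⁻¹) = d.e q * θ Six.pt * (d.e q)⁻¹ := by
    rw [map_mul, map_mul, map_inv]; rfl
  have key := CoverPerm.invol_inverting d.h18 (g := d.e q * θ Six.pt * (d.e q)⁻¹)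
    (by
      calc _ = d.e q * (θ (Six.pt * Six.pt)) * (d.e q)⁻¹ := by rw [map_mul]; group
        _ = 1 := by rw [Six.t_sq, map_one]; group)
    (by rw [← hconv, ← d.e_z, ← map_inv, ← map_mul, ← map_mul, ← map_inv, hinv2 _ (subset_closure (Set.mem_insert _ _))])
    (by rw [← hconv, ← d.e_z', ← map_inv, ← map_mul, ← map_mul, ← map_inv,
      hinv2 _ (subset_closure (Set.mem_insert_of_mem _ rfl))])
  have h4 := key.1 (by rw [map_mul, map_mul, map_inv, hsgn, mul_one, mul_inv_cancel])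
  rw [Perm.card_support_conj, hi8] at h4
  omega

end Facts

end Cfsg.Agent.McLLoc
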