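import Cfsg.Agent.McLLoc.LocalQJ

/-!
# `J` is normal in `S`, `C(J) = J`, and the map of `M` onto the alternating group of degree 6
-/

set_option autoImplicit false
set_option linter.unusedSectionVars false

namespace Cfsg.Agent.McLLoc.Setting

open Subgroup
open scoped commutatorElement Pointwise

variable {G : Type*} [Group G] [Finite G] (s : Setting G)

theorem mem_S_iff {g : G} (hg : g ∈ (s.S : Subgroup G)) :
    ∃ q ∈ s.Q, ∃ j ∈ s.J, q * j = g := by
  rw [s.S_eq] at hg
  have hJQ : s.J ≤ normalizer (s.Q : Set G) :=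
    (s.hJS.trans s.S_le_cent).trans (s.cent_le_normZ.trans s.normZ_le_normQ)
  have : g ∈ ((s.J ⊔ s.Q : Subgroup G) : Set G) := by rwa [sup_comm]
  rw [coe_mul_of_left_le_normalizer_right _ _ hJQ] at this
  obtain ⟨j, hj, q, hq, rfl⟩ := this
  exact ⟨j * q * j⁻¹, (mem_normalizer_iff.1 (hJQ hj) q).1 hq, j, hj, by group⟩

theorem S_le_normJ : (s.S : Subgroup G) ≤ normalizer (s.J : Set G) := by
  rw [s.S_eq]
  refine sup_le ?_ le_normalizer
  have key : ∀ q ∈ s.Q, ∀ j ∈ s.J, q * j * q⁻¹ ∈ s.J := by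
    intro q hq j hj
    have hjZ : j ∈ centralizer (s.Z : Set G) := s.S_le_cent (s.hJS hj)
    have hjQ := s.normZ_le_normQ (s.cent_le_normZ hjZ)
    have hd : ⁅q, j⁆ ∈ s.Q := by
      have : ⁅q, j⁆ = q * (j * q⁻¹ * j⁻¹) := by rw [commutatorElement_def]; group
      rw [this]
      exact mul_mem hq ((mem_normalizer_iff.1 hjQ _).1 (inv_mem hq))
    have hdJ : ⁅q, j⁆ ∈ s.J := by
      refine s.centQ_QJ hd fun e he => ?_
      have hje : Commute j e := s.commute_J hj he.2
      have hz := s.comm_mem_Z hq he.1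
      have h1 : MulAut.conj q e = ⁅q, e⁆ * e := by
        rw [MulAut.conj_apply, commutatorElement_def]; group
      have h3 := hje.map (MulAut.conj q).toMonoidHom
      rw [MulEquiv.coe_toMonoidHom, h1] at h3
      have h4 : Commute (MulAut.conj q j) ⁅q, e⁆ :=
        (s.commute_Z hz (mul_mem (mul_mem (s.Q_le_S hq) (s.hJS hj))
          (inv_mem (s.Q_le_S hq)))).symm
      have h5 : Commute (MulAut.conj q j) e := by
        have := h4.inv_right.mul_right h3
        rwa [inv_mul_cancel_left] at this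
      have h6 := h5.mul_left hje.inv_left
      rwa [MulAut.conj_apply, ← commutatorElement_def] at h6
    have h7 := mul_mem hdJ hj
    rwa [commutatorElement_def, inv_mul_cancel_right] at h7
  intro q hq
  rw [mem_normalizer_iff]
  refine fun j => ⟨key q hq j, fun h => ?_⟩
  simpa [mul_assoc] using key q⁻¹ (inv_mem hq) _ h

theorem centJ : centralizer (s.J : Set G) = s.J := by
  refine le_antisymm ?_ fun j hj => mem_centralizer_iff.2 fun k hk => (s.commute_J hk hj).eq
  have hCZ : centralizer (s.J : Set G) ≤ centralizer (s.Z : Set G) :=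
    centralizer_le fun z hz => s.Z_le_J hz
  have hp : IsPGroup 3 (centralizer (s.J : Set G)) := by
    rw [IsPGroup.iff_orderOf]
    rintro ⟨g, hg⟩
    obtain ⟨a, m, hm, hn⟩ :=
      Nat.exists_eq_pow_mul_and_not_dvd (orderOf_pos g).ne' 3 (by norm_num)
    refine ⟨a, ?_⟩
    rw [Subgroup.orderOf_mk]
    have hh : (g ^ 3 ^ a) ^ m = 1 := by rw [← pow_mul, ← hn, pow_orderOf_eq_one]
    have hgC := pow_mem hg (3 ^ a)
    have hmem : g ^ 3 ^ a ∈ s.Z := by
      rw [← s.centQ]
      refine mem_centralizer_iff.2 fun q hq => (s.pow_commute (fun q hq => ?_) (fun e he => ?_)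
        hh hm q hq).eq.symm
      · exact (mem_normalizer_iff.1 (s.normZ_le_normQ (s.cent_le_normZ (hCZ hgC))) q).1 hq
      · exact (mem_centralizer_iff.1 hgC e he.2).symm
    have h3 : (g ^ 3 ^ a) ^ 3 = 1 := s.hQexp _ (s.Z_le_Q hmem)
    have h1 : g ^ 3 ^ a = 1 := by
      rw [← pow_one (g ^ 3 ^ a), ← show Nat.gcd 3 m = 1 from
        (Nat.prime_three.coprime_iff_not_dvd.2 hm), pow_gcd_eq_one]
      exact ⟨h3, hh⟩
    have hd := orderOf_dvd_of_pow_eq_one h1
    rw [hn] at hd
    have : m = 1 := Nat.dvd_one.1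
      (Nat.dvd_of_mul_dvd_mul_left (k := 3 ^ a) (pow_pos (by norm_num) a) (by simpa using hd))
    rw [hn, this, mul_one]
  have hn : (s.S : Subgroup G) ≤ normalizer (centralizer (s.J : Set G) : Set G) := fun g hg => by
    have key : ∀ g ∈ normalizer (s.J : Set G), ∀ x ∈ centralizer (s.J : Set G),
        g * x * g⁻¹ ∈ centralizer (s.J : Set G) := fun g hg x hx => by
      refine mem_centralizer_iff.2 fun j hj => ?_
      have hj' : g⁻¹ * j * g ∈ s.J := by
        simpa using (mem_normalizer_iff.1 (inv_mem hg) j).1 hj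
      calc j * (g * x * g⁻¹) = g * (g⁻¹ * j * g * x) * g⁻¹ := by group
        _ = g * (x * (g⁻¹ * j * g)) * g⁻¹ := by rw [mem_centralizer_iff.1 hx _ hj']
        _ = g * x * g⁻¹ * j := by group
    rw [mem_normalizer_iff]
    refine fun x => ⟨key g (s.S_le_normJ hg) x, fun h => ?_⟩
    simpa [mul_assoc] using key g⁻¹ (inv_mem (s.S_le_normJ hg)) _ h
  have hS : centralizer (s.J : Set G) ≤ s.S :=
    le_sup_right.trans (s.S.is_maximal' (IsPGroup.to_sup_of_normal_right' s.S.2 hp hn) le_sup_left).le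
  intro g hg
  obtain ⟨q, hq, j, hj, rfl⟩ := s.mem_S_iff (hS hg)
  refine mul_mem (s.centQ_QJ hq fun e he => ?_) hj
  have h1 := mem_centralizer_iff.1 hg e he.2
  exact (Commute.symm (show Commute e q from by
    have : Commute e (q * j) := h1
    have := this.mul_right (s.commute_J he.2 hj).inv_right
    rwa [mul_inv_cancel_right] at this))

theorem mem_M {g : G} (hg : g ∈ normalizer (s.J : Set G)) {k : ℕ} (hk : orderOf g = 3 ^ k) :
    g ∈ s.M := s.hM ▸ subset_closure ⟨hg, k, hk⟩

theorem S_le_M : (s.S : Subgroup G) ≤ s.M := fun _ hg => by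
  obtain ⟨k, hk⟩ := s.exists_orderOf hg
  exact s.mem_M (s.S_le_normJ hg) hk

theorem M_le_normJ : s.M ≤ normalizer (s.J : Set G) :=
  s.hM ▸ (closure_le _).2 fun _ h => h.1

theorem normJ_le_normM : normalizer (s.J : Set G) ≤ normalizer (s.M : Set G) := by
  have key : ∀ g ∈ normalizer (s.J : Set G), ∀ x ∈ s.M, g * x * g⁻¹ ∈ s.M := by
    intro g hg x hx
    have : s.M.map (MulAut.conj g).toMonoidHom ≤ s.M := by
      conv_lhs => rw [s.hM]
      rw [MonoidHom.map_closure, closure_le]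
      rintro _ ⟨y, ⟨hy, k, hk⟩, rfl⟩
      refine s.mem_M (mul_mem (mul_mem hg hy) (inv_mem hg)) (k := k) ?_
      rw [← hk]
      exact (MulEquiv.orderOf_eq (MulAut.conj g) y)
    exact this ⟨x, hx, rfl⟩
  intro g hg
  rw [mem_normalizer_iff]
  refine fun x => ⟨key g hg x, fun h => ?_⟩
  simpa [mul_assoc] using key g⁻¹ (inv_mem hg) _ h

theorem card_M : Nat.card s.M = 3 ^ 4 * 360 := by
  have := s.hJn
  obtain ⟨e⟩ := s.hMq
  rw [card_eq_card_quotient_mul_card_subgroup (s.J.subgroupOf s.M), Nat.card_congr e.toEquiv,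
    Nat.card_congr (subgroupOfEquivOfLe s.hJM).toEquiv, s.hJcard,
    show Nat.card (alternatingGroup (Fin 6)) = 360 from Six.card_alt6, mul_comm]

theorem L_le_centZ : s.L ≤ centralizer (s.Z : Set G) := by
  conv_lhs => rw [s.hL]
  rw [closure_le]
  rintro g ⟨hg, k, hk⟩
  rw [SetLike.mem_coe, mem_centralizer_iff]
  intro z hz
  have hz3 : z ^ 3 = 1 := s.hJexp z (s.Z_le_J hz)
  have hcy : ∀ y ∈ s.Z, z ≠ 1 → y = 1 ∨ y = z ∨ y = z⁻¹ := by
    intro y hy hne
    have hle : zpowers z ≤ s.Z := zpowers_le.2 hz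
    have he : zpowers z = s.Z := eq_of_le_of_card_ge hle (by
      rw [s.card_Z, Nat.card_zpowers, orderOf_eq_prime hz3 hne])
    rw [← he, mem_zpowers_iff] at hy
    obtain ⟨i, rfl⟩ := hy
    rw [← zpow_mod_orderOf, orderOf_eq_prime hz3 hne]
    have : i % (3 : ℕ) = 0 ∨ i % (3 : ℕ) = 1 ∨ i % (3 : ℕ) = 2 := by omega
    rcases this with h | h | h <;> rw [h]
    · exact Or.inl (zpow_zero z)
    · exact Or.inr (Or.inl (zpow_one z))
    · refine Or.inr (Or.inr (eq_inv_of_mul_eq_one_left ?_))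
      rw [show ((2 : ℤ)) = ((2 : ℕ) : ℤ) from rfl, zpow_natCast, ← pow_succ, hz3]
  by_cases hne : z = 1
  · simp [hne]
  have hgz : g * z * g⁻¹ ∈ s.Z := (mem_normalizer_iff.1 hg z).1 hz
  rcases hcy _ hgz hne with h | h | h
  · exact absurd (by simpa using h) hne
  · exact (mul_inv_eq_iff_eq_mul.1 h).symm
  · exfalso
    have h2 : ∀ i : ℕ, g ^ (2 * i + 1) * z * (g ^ (2 * i + 1))⁻¹ = z⁻¹ := by
      intro i
      induction i with
      | zero => simpa using h
      | succ i ih =>
        calc g ^ (2 * (i + 1) + 1) * z * (g ^ (2 * (i + 1) + 1))⁻¹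
            = g * (g * (g ^ (2 * i + 1) * z * (g ^ (2 * i + 1))⁻¹) * g⁻¹) * g⁻¹ := by
              rw [show 2 * (i + 1) + 1 = (2 * i + 1) + 1 + 1 by ring, pow_succ', pow_succ']
              group
          _ = z⁻¹ := by
              rw [ih, show g * z⁻¹ * g⁻¹ = (g * z * g⁻¹)⁻¹ by group, h, inv_inv, h]
    obtain ⟨i, hi⟩ : Odd (orderOf g) := hk ▸ (by decide : Odd 3).pow
    have := h2 i
    rw [← hi, pow_orderOf_eq_one, one_mul, inv_one, mul_one] at this
    have hzz : z * z = 1 := eq_inv_iff_mul_eq_one.1 this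
    exact hne (by simpa [pow_succ, hzz] using hz3)

/-- A map of `M` onto the alternating group with kernel `J`, sending `S` to the named subgroup. -/
theorem exists_hom : ∃ φ : s.M →* Six.Alt6, Function.Surjective φ ∧
    φ.ker = s.J.subgroupOf s.M ∧
    ((s.S : Subgroup G).subgroupOf s.M).map φ = Six.P0 := by
  have := s.hJn
  obtain ⟨e⟩ := s.hMq
  let ψ : s.M →* Six.Alt6 := e.toMonoidHom.comp (QuotientGroup.mk' (s.J.subgroupOf s.M))
  have hψ : Function.Surjective ψ := e.surjective.comp (QuotientGroup.mk'_surjective _)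
  have hker : ψ.ker = s.J.subgroupOf s.M := by
    rw [← QuotientGroup.ker_mk' (s.J.subgroupOf s.M)]
    ext x
    simp [ψ, MonoidHom.mem_ker, MulEquiv.map_eq_one_iff]
  have hc : Nat.card (((s.S : Subgroup G).subgroupOf s.M).map ψ) = 9 := by
    have h := Subgroup.card_eq_card_quotient_mul_card_subgroup
      ((s.J.subgroupOf s.M).subgroupOf ((s.S : Subgroup G).subgroupOf s.M))
    let f := ψ.comp ((s.S : Subgroup G).subgroupOf s.M).subtype
    have hf : f.ker = (s.J.subgroupOf s.M).subgroupOf ((s.S : Subgroup G).subgroupOf s.M) := by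
      rw [← hker]; rfl
    have hr : f.range = ((s.S : Subgroup G).subgroupOf s.M).map ψ := by
      rw [MonoidHom.range_comp, range_subtype]
    rw [← hr, ← Nat.card_congr (QuotientGroup.quotientKerEquivRange f).toEquiv, hf]
    rw [Nat.card_congr (subgroupOfEquivOfLe s.S_le_M).toEquiv, s.card_S,
      Nat.card_congr (subgroupOfEquivOfLe (show s.J.subgroupOf s.M ≤ _ from
        fun _ hx => s.hJS hx)).toEquiv,
      Nat.card_congr (subgroupOfEquivOfLe s.hJM).toEquiv, s.hJcard] at h
    omega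
  have h9 : (9 : ℕ) = 3 ^ (Nat.card Six.Alt6).factorization 3 := by
    rw [Six.card_alt6, Nat.factorization_def _ Nat.prime_three]
    have : padicValNat 3 360 = 2 := by
      rw [show (360 : ℕ) = 3 ^ 2 * 40 by norm_num, padicValNat.mul (by norm_num) (by norm_num),
        padicValNat.prime_pow, padicValNat.eq_zero_of_not_dvd (by norm_num)]
    rw [this]
    norm_num
  let P : Sylow 3 Six.Alt6 := Sylow.ofCard _ (hc.trans h9)
  let R : Sylow 3 Six.Alt6 := Sylow.ofCard Six.P0 (Six.card_P0.trans h9)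
  obtain ⟨g, hg⟩ := MulAction.exists_smul_eq Six.Alt6 P R
  refine ⟨(MulAut.conj g).toMonoidHom.comp ψ, (MulAut.conj g).surjective.comp hψ, ?_, ?_⟩
  · rw [← hker]
    ext x
    simp [MonoidHom.mem_ker]
  · rw [← Subgroup.map_map]
    have := congrArg (fun T : Sylow 3 Six.Alt6 => (T : Subgroup Six.Alt6)) hg
    simp only [Sylow.coe_subgroup_smul] at this
    exact this

end Cfsg.Agent.McLLoc.Setting
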