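import Mathlib

/-!
# Finite facts about the alternating group of degree 6

Named elements: `pa, pb` generate a Sylow 3-subgroup, `pc` of order 4 normalises it, `pt` is its
square, `pc, pu` generate a Sylow 2-subgroup, `px, px2` normalise its two four-groups.
-/

set_option autoImplicit false

open Equiv

namespace Cfsg.Agent.McLLoc.Six

/-- The alternating group of degree six. -/
abbrev Alt6 : Type := alternatingGroup (Fin 6)

def pa : Alt6 := ⟨swap 0 1 * swap 1 2, by rw [Perm.mem_alternatingGroup]; decide⟩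
def pb : Alt6 := ⟨swap 3 4 * swap 4 5, by rw [Perm.mem_alternatingGroup]; decide⟩
def pc : Alt6 := ⟨swap 0 3 * (swap 1 4 * swap 4 2 * swap 2 5), by rw [Perm.mem_alternatingGroup]; decide⟩
def pt : Alt6 := ⟨swap 1 2 * swap 4 5, by rw [Perm.mem_alternatingGroup]; decide⟩
def pu : Alt6 := ⟨swap 0 3 * swap 1 2, by rw [Perm.mem_alternatingGroup]; decide⟩
def px : Alt6 := ⟨swap 0 4 * swap 4 1 * (swap 3 5 * swap 5 2), by rw [Perm.mem_alternatingGroup]; decide⟩
def px2 : Alt6 := ⟨swap 1 2 * swap 2 4, by rw [Perm.mem_alternatingGroup]; decide⟩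

theorem c_sq : pc * pc = pt := by decide +kernel
theorem t_sq : pt * pt = 1 := by decide +kernel
theorem t_ne : pt ≠ 1 := by decide +kernel
theorem u_sq : pu * pu = 1 := by decide +kernel
theorem u_ne : pu ≠ 1 := by decide +kernel
theorem tu_comm : pt * pu = pu * pt := by decide +kernel
theorem tu_ne : pt ≠ pu := by decide +kernel
theorem uc : pu * pc * pu⁻¹ = pc⁻¹ := by decide +kernel
theorem x_cube : px * px * px = 1 := by decide +kernel
theorem xt : px * pt * px⁻¹ = pu := by decide +kernel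
theorem xu : px * pu * px⁻¹ = pt * pu := by decide +kernel
theorem x2_cube : px2 * px2 * px2 = 1 := by decide +kernel
theorem x2t : px2 * pt * px2⁻¹ = pc * pu := by decide +kernel
theorem x2w : px2 * (pc * pu) * px2⁻¹ = pt * (pc * pu) := by decide +kernel
theorem ca : pc * pa * pc⁻¹ = pb := by decide +kernel
theorem cb : pc * pb * pc⁻¹ = pa⁻¹ := by decide +kernel
theorem ta : pt * pa * pt⁻¹ = pa⁻¹ := by decide +kernel
theorem tb : pt * pb * pt⁻¹ = pb⁻¹ := by decide +kernel
theorem a_word : pa = px * px2 * px * px * pu := by decide +kernel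
theorem b_word : pb = pc * pu * px * px2 * pu * px := by decide +kernel
theorem ab_comm : pa * pb = pb * pa := by decide +kernel
theorem a_cube : pa * pa * pa = 1 := by decide +kernel
theorem b_cube : pb * pb * pb = 1 := by decide +kernel

/-- The nine elements of the Sylow 3-subgroup. -/
def el (i j : Fin 3) : Alt6 := pa ^ (i : ℕ) * pb ^ (j : ℕ)

theorem el_eq_one : ∀ i j, el i j = 1 → i = 0 ∧ j = 0 := by decide +kernel

theorem el_mul : ∀ i j k l, el i j * el k l = el (i + k) (j + l) := by decide +kernel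

theorem el_injective : ∀ i j k l, el i j = el k l → i = k ∧ j = l := by decide +kernel

theorem el_cube : ∀ i j, el i j * el i j * el i j = 1 := by decide +kernel

/-- The Sylow 3-subgroup. -/
def P0 : Subgroup Alt6 where
  carrier := {g | ∃ i j, el i j = g}
  one_mem' := ⟨0, 0, by decide +kernel⟩
  mul_mem' := by
    rintro _ _ ⟨i, j, rfl⟩ ⟨k, l, rfl⟩
    exact ⟨i + k, j + l, (el_mul i j k l).symm⟩
  inv_mem' := by
    rintro _ ⟨i, j, rfl⟩
    refine ⟨-i, -j, ?_⟩
    revert i j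
    decide +kernel

theorem mem_P0 {g : Alt6} : g ∈ P0 ↔ ∃ i j, el i j = g := Iff.rfl

theorem a_mem : pa ∈ P0 := ⟨1, 0, by decide +kernel⟩

theorem b_mem : pb ∈ P0 := ⟨0, 1, by decide +kernel⟩

theorem card_P0 : Nat.card P0 = 9 := by
  let f : Fin 3 × Fin 3 → P0 := fun p => ⟨el p.1 p.2, p.1, p.2, rfl⟩
  have hf : Function.Bijective f := by
    constructor
    · rintro ⟨i, j⟩ ⟨k, l⟩ h
      obtain ⟨rfl, rfl⟩ := el_injective i j k l (congrArg Subtype.val h)
      rfl
    · rintro ⟨_, i, j, rfl⟩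
      exact ⟨(i, j), rfl⟩
  rw [← Nat.card_eq_of_bijective f hf]
  simp

theorem c_P0 : ∀ i j, ∃ k l, pc * el i j * pc⁻¹ = el k l := by decide +kernel

theorem t_P0 : ∀ i j, pt * el i j * pt⁻¹ * el i j = 1 := by decide +kernel

theorem u_notNorm : ∀ i j, pu * pa * pu⁻¹ ≠ el i j := by decide +kernel

theorem no_six : ∀ g : Alt6, g ^ 6 = 1 → g ^ 2 = 1 ∨ g ^ 3 = 1 := by decide +kernel

/-- For each non-trivial element of the Sylow 3-subgroup, an involution generating an `A4` with it. -/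
theorem four_of_three : ∀ i j, el i j ≠ 1 → ∃ v : Alt6, v * v = 1 ∧ v ≠ 1 ∧
    el i j * v * (el i j)⁻¹ ≠ v ∧ v * (el i j * v * (el i j)⁻¹) = el i j * v * (el i j)⁻¹ * v ∧
    el i j * (el i j * v * (el i j)⁻¹) * (el i j)⁻¹ = v * (el i j * v * (el i j)⁻¹) := by
  decide +kernel

/-- The elements of the Sylow 2-subgroup. -/
def el2 (i : Fin 4) (j : Fin 2) : Alt6 := pc ^ (i : ℕ) * pu ^ (j : ℕ)

theorem el2_mul : ∀ i j k l, ∃ m n, el2 i j * el2 k l = el2 m n := by decide +kernel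

theorem el2_injective : ∀ i j k l, el2 i j = el2 k l → i = k ∧ j = l := by decide +kernel

/-- The Sylow 2-subgroup. -/
def T8 : Subgroup Alt6 where
  carrier := {g | ∃ i j, el2 i j = g}
  one_mem' := ⟨0, 0, by decide +kernel⟩
  mul_mem' := by
    rintro _ _ ⟨i, j, rfl⟩ ⟨k, l, rfl⟩
    obtain ⟨m, n, h⟩ := el2_mul i j k l
    exact ⟨m, n, h.symm⟩
  inv_mem' := by
    rintro _ ⟨i, j, rfl⟩
    revert i j
    decide +kernel

theorem card_T8 : Nat.card T8 = 8 := by
  let f : Fin 4 × Fin 2 → T8 := fun p => ⟨el2 p.1 p.2, p.1, p.2, rfl⟩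
  have hf : Function.Bijective f := by
    constructor
    · rintro ⟨i, j⟩ ⟨k, l⟩ h
      obtain ⟨rfl, rfl⟩ := el2_injective i j k l (congrArg Subtype.val h)
      rfl
    · rintro ⟨_, i, j, rfl⟩
      exact ⟨(i, j), rfl⟩
  rw [← Nat.card_eq_of_bijective f hf]
  simp

set_option synthInstance.maxSize 4096 in
set_option synthInstance.maxHeartbeats 200000 in
theorem four_normalised : ∀ i j k l, el2 i j * el2 i j = 1 → el2 k l * el2 k l = 1 →
    el2 i j ≠ 1 → el2 k l ≠ 1 → el2 i j ≠ el2 k l → el2 i j * el2 k l = el2 k l * el2 i j →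
    (pc * el2 i j * pc⁻¹ = el2 i j ∨ pc * el2 i j * pc⁻¹ = el2 k l ∨
      pc * el2 i j * pc⁻¹ = el2 i j * el2 k l) ∧
    (pc * el2 k l * pc⁻¹ = el2 i j ∨ pc * el2 k l * pc⁻¹ = el2 k l ∨
      pc * el2 k l * pc⁻¹ = el2 i j * el2 k l) := by
  decide +kernel

theorem no_fifteen : ∀ g : Alt6, g ^ 15 = 1 → g ^ 3 = 1 ∨ g ^ 5 = 1 := by decide +kernel

/-- Every involution of the Sylow 2-subgroup is conjugate to `pt`. -/
theorem conj_pt : ∀ i j, el2 i j * el2 i j = 1 → el2 i j = 1 ∨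
    ∃ g ∈ [1, px, px * px, px2, px2 * px2], g * el2 i j * g⁻¹ = pt := by
  decide +kernel

theorem alt5_four_three : ∃ v w r : alternatingGroup (Fin 5), v * v = 1 ∧ w * w = 1 ∧ v ≠ 1 ∧
    v ≠ w ∧ v * w = w * v ∧ r * v * r⁻¹ = w ∧ r * w * r⁻¹ = v * w ∧ r * r * r = 1 :=
  ⟨⟨swap 0 1 * swap 2 3, by rw [Perm.mem_alternatingGroup]; decide⟩,
    ⟨swap 0 2 * swap 1 3, by rw [Perm.mem_alternatingGroup]; decide⟩,
    ⟨swap 1 2 * swap 2 3, by rw [Perm.mem_alternatingGroup]; decide⟩, by decide +kernel⟩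

theorem alt5_no_four : ∀ g : alternatingGroup (Fin 5), g ^ 4 = 1 → g ^ 2 = 1 := by decide +kernel

theorem alt5_four : ∃ v w : alternatingGroup (Fin 5),
    v * v = 1 ∧ w * w = 1 ∧ v ≠ 1 ∧ w ≠ 1 ∧ v ≠ w ∧ v * w = w * v :=
  ⟨⟨swap 0 1 * swap 2 3, by rw [Perm.mem_alternatingGroup]; decide⟩,
    ⟨swap 0 2 * swap 1 3, by rw [Perm.mem_alternatingGroup]; decide⟩, by decide +kernel⟩

/-- The special linear group over the field with five elements. -/
abbrev SL25 : Type := Matrix.SpecialLinearGroup (Fin 2) (ZMod 5)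

theorem card_SL25 : Nat.card SL25 = 120 := by
  rw [Nat.card_eq_fintype_card]; decide +kernel

theorem central_of_sq : ∀ g : SL25, g * g = 1 → ∀ h, g * h = h * g := by
  intro g hg h
  have : g = 1 ∨ g = -1 := by revert g; decide +kernel
  rcases this with rfl | rfl <;> simp

theorem eq_of_sq : ∀ g h : SL25, g * g = 1 → g ≠ 1 → h * h = 1 → h ≠ 1 → g = h := by
  intro g h hg hg1 hh hh1
  have key : ∀ k : SL25, k * k = 1 → k ≠ 1 → k = -1 := by decide +kernel
  rw [key g hg hg1, key h hh hh1]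

theorem card_alt6 : Nat.card Alt6 = 360 := by
  rw [nat_card_alternatingGroup, Nat.card_fin]
  rfl

end Cfsg.Agent.McLLoc.Six
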