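import Cfsg.Agent.McLLoc.CentZ
import Cfsg.Agent.McLLoc.LocalM
import Cfsg.Agent.McLLoc.CoverEight
import Cfsg.Agent.McLLoc.Six
import Cfsg.Agent.Core.PCore
import Cfsg.Agent.Fusion.PGroup

/-!
# The centraliser of the involution with its map to the permutations of eight points
-/

set_option autoImplicit false
set_option maxRecDepth 10000

open Subgroup Equiv

namespace Cfsg.Agent.McLLoc

variable {G : Type*} [Group G] {s : Setting G} {f : Frame s}

/-- The identification of the quotient, normalised on the two three-cycles. -/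
structure Std (f : Frame s) where
  e : f.Xq ≃* Perm (Fin 8)
  e_z : e f.zq = CoverPerm.a0
  e_z' : e f.z'q = CoverPerm.b0
  h18 : Nat.card (centralizer ({CoverPerm.a0, CoverPerm.b0} : Set (Perm (Fin 8)))) = 18

theorem sl25_key : ∀ x : Matrix.SpecialLinearGroup (Fin 2) (ZMod 5), x ^ 15 = 1 → x ≠ 1 →
    ∃ y, (x * (y * x * y⁻¹)) ^ 15 ≠ 1 := by decide +kernel

theorem sl25_no_odd (N : Subgroup (Matrix.SpecialLinearGroup (Fin 2) (ZMod 5))) [hN : N.Normal]
    (hodd : Odd (Nat.card N)) : N = ⊥ := by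
  refine (eq_bot_iff_forall _).2 fun x hx => by_contra fun hx1 => ?_
  have h15 : ∀ v ∈ N, v ^ 15 = 1 := fun v hv => by
    have h1 : Nat.card N ∣ 15 := by
      have h2 : Nat.card N ∣ 8 * 15 := by
        have := card_subgroup_dvd_card N
        rwa [Six.card_SL25] at this
      exact (Nat.Coprime.pow_right 3 (Nat.coprime_two_right.2 hodd)).dvd_of_dvd_mul_left h2
    exact orderOf_dvd_iff_pow_eq_one.1 ((by
      rw [← Subgroup.orderOf_mk v hv]; exact orderOf_dvd_natCard _ : orderOf v ∣ Nat.card N).trans h1)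
  obtain ⟨y, hy⟩ := sl25_key x (h15 x hx) hx1
  exact hy (h15 _ (mul_mem hx (hN.conj_mem x hx y)))

namespace Facts

variable [Finite G]

theorem proj_ker (F : Facts f) {g : f.X} : f.proj g = 1 ↔ (g : G) = 1 ∨ (g : G) = f.t := by
  show (QuotientGroup.mk' f.T0) g = 1 ↔ _
  rw [QuotientGroup.mk'_apply, QuotientGroup.eq_one_iff, Frame.T0, mem_subgroupOf]
  refine ⟨fun h => F.t_cases h, ?_⟩
  rintro (h | h) <;> rw [h]
  · exact one_mem _
  · exact mem_zpowers _

theorem t_ne_one (_F : Facts f) : f.t ≠ 1 := fun h => by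
  have := f.t_ord
  rw [h, orderOf_one] at this
  omega

theorem u_ne_t (F : Facts f) : f.u ≠ f.t := fun h => by
  have h1 := f.u_z
  rw [h, F.t_fix] at h1
  exact F.z'_notQ (h1 ▸ F.z_memQ)

theorem t_mul_u (F : Facts f) : f.c * f.u * f.c⁻¹ = f.t * f.u := by
  have h2 : f.u * f.c⁻¹ = f.c * f.u := by
    have h := f.u_c
    have hu : f.u * f.u = 1 := by
      have := pow_orderOf_eq_one f.u; rwa [f.u_ord, pow_two] at this
    rw [← h, ← mul_assoc, ← mul_assoc, hu, one_mul, inv_eq_of_mul_eq_one_right hu]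
  rw [mul_assoc, h2, ← mul_assoc, f.c_sq]

theorem Q_not_commute (F : Facts f) : ¬ ∀ q ∈ s.Q, Commute f.t q := by
  intro h
  have hle : s.Q ≤ s.Z := fun q hq =>
    F.centQt ▸ mem_inf.2 ⟨hq, mem_centralizer_singleton_iff.2 (h q hq).eq.symm⟩
  have h1 := Subgroup.card_le_of_le hle
  rw [F.card_Z, s.hQcard] at h1
  norm_num at h1

theorem cent_t_ne_top (F : Facts f) : f.X ≠ ⊤ := fun h => F.Q_not_commute fun q _ =>
  (mem_centralizer_singleton_iff.1 (h ▸ mem_top q : q ∈ f.X)).symm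

/-- The odd core is trivial. -/
theorem oddCore_bot (F : Facts f) : Cfsg.oddCore G = ⊥ := by
  classical
  set R := Cfsg.oddCore G with hR
  haveI : R.Normal := by rw [hR]; infer_instance
  have hnorm : ∀ g : G, g ∈ normalizer (R : Set G) := fun g => by
    rw [Subgroup.normalizer_eq_top]; exact mem_top g
  have hodd : (Nat.card R).Coprime 2 := by rw [hR]; exact Core.coprime_card_pPrimeCore
  refine F.no_core R (fun g _ => hnorm g) ?_
  by_contra h3
  have h3' : 3 ∣ Nat.card R := by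
    by_contra h; exact h3 ((Nat.prime_three.coprime_iff_not_dvd.2 h).symm)
  -- the Sylow subgroup meets it in a normal subgroup, hence in its centre
  haveI := Fact.mk Nat.prime_three
  obtain ⟨r, hr⟩ := exists_prime_orderOf_dvd_card' 3 h3'
  have hP : IsPGroup 3 (zpowers (r : G)) := IsPGroup.of_card (n := 1) (by
    rw [Nat.card_zpowers, orderOf_submonoid, hr, pow_one])
  obtain ⟨S', hS'⟩ := hP.exists_le_sylow
  obtain ⟨g, hg⟩ := MulAction.exists_smul_eq G S' s.S
  have hgr : g * (r : G) * g⁻¹ ∈ (s.S : Subgroup G) := by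
    rw [← hg, Sylow.coe_subgroup_smul]
    exact smul_mem_pointwise_smul _ (MulAut.conj g) _ (hS' (mem_zpowers _))
  have hgR : g * (r : G) * g⁻¹ ∈ R := ‹R.Normal›.conj_mem _ r.2 g
  have hne : R.subgroupOf (s.S : Subgroup G) ≠ ⊥ := fun h => by
    have h1 := congrArg Subtype.val ((Subgroup.eq_bot_iff_forall _).1 h ⟨_, hgr⟩ hgR)
    rw [show ((⟨g * (r : G) * g⁻¹, hgr⟩ : (s.S : Subgroup G)) : G) = g * r * g⁻¹ from rfl] at h1
    rw [OneMemClass.coe_one, conj_eq_one_iff] at h1
    rw [show r = 1 from Subtype.ext h1, orderOf_one] at hr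
    omega
  have hmeet := Fusion.pGroup_inf_center_ne_bot s.S.2 (R.subgroupOf (s.S : Subgroup G)) hne
  obtain ⟨⟨x, hx⟩, hne1⟩ := (Subgroup.ne_bot_iff_exists_ne_one.1 hmeet)
  obtain ⟨hxR, hxZ⟩ := mem_inf.1 hx
  have hx1 : x ≠ 1 := fun e => hne1 (Subtype.ext e)
  have hxz : (x : G) ∈ s.Z := by
    rw [s.hZ]
    exact ⟨x.2, mem_centralizer_iff.2 fun y hy => congrArg Subtype.val (mem_center_iff.1 hxZ ⟨y, hy⟩)⟩
  have hzR : f.z ∈ R := by
    have hZR : s.Z ≤ R := by
      haveI : Fact (Nat.card s.Z).Prime := ⟨by rw [F.card_Z]; exact Nat.prime_three⟩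
      rcases (R.subgroupOf s.Z).eq_bot_or_eq_top_of_prime_card with h | h
      · exact absurd ((Subgroup.eq_bot_iff_forall _).1 h ⟨x, hxz⟩ hxR)
          (fun e => hx1 (Subtype.ext (congrArg (fun v : s.Z => (v : G)) e)))
      · exact subgroupOf_eq_top.1 h
    exact hZR (f.hz ▸ mem_zpowers f.z)
  have hz'R : f.z' ∈ R := f.u_z ▸ ‹R.Normal›.conj_mem _ hzR f.u
  -- its image in `L / Q` would be a normal subgroup of odd order
  haveI := s.hQn
  obtain ⟨e5⟩ := s.hLq
  let φ : s.L →* Matrix.SpecialLinearGroup (Fin 2) (ZMod 5) :=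
    e5.toMonoidHom.comp (QuotientGroup.mk' (s.Q.subgroupOf s.L))
  have hφs : Function.Surjective φ := e5.surjective.comp (QuotientGroup.mk'_surjective _)
  let N := (R.subgroupOf s.L).map φ
  haveI : N.Normal := Normal.map inferInstance φ hφs
  have hNodd : Odd (Nat.card N) := by
    refine Odd.of_dvd_nat ?_ ((card_map_dvd _ φ).trans (card_comap_dvd_of_injective R s.L.subtype s.L.subtype_injective))
    exact Nat.coprime_two_right.1 hodd
  have hNbot : N = ⊥ := sl25_no_odd N hNodd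
  have h1 : φ ⟨f.z', F.z'_memL⟩ = 1 := (Subgroup.eq_bot_iff_forall _).1 hNbot _ ⟨_, hz'R, rfl⟩
  refine F.z'_notQ ?_
  have h2 := e5.map_eq_one_iff.1 h1
  rwa [QuotientGroup.mk'_apply, QuotientGroup.eq_one_iff, mem_subgroupOf] at h2

end Facts

end Cfsg.Agent.McLLoc
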