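import Cfsg.Prelude.Def_Solvable
import Cfsg.Prelude.Def_Transfer
import Mathlib

/-!
# Recognition of the McLaughlin group from two 3-local subgroups: setting and frame

`Setting` repeats the hypotheses; a `Frame` consists of the elements of the two 3-local subgroups
that all later steps refer to: `Z = ⟨z⟩`, an involution `t` of `M ⊓ L` inverting `Q` modulo `Z`,
`W = ⟨z, z'⟩ = C_J(t)`, elements `c, u` of `M` generating a dihedral group of order 8 with
`c * c = t`, `u` exchanging `z` and `z'`, and an element `x` of `M` centralising `y = z * z'` and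
permuting `t, u, t * u`.
-/

set_option autoImplicit false

namespace Cfsg.Agent.McLLoc

open Subgroup
open scoped commutatorElement

variable {G : Type*} [Group G]

/-- The largest normal 3-subgroup of a subgroup, as a subgroup of the whole group. -/
noncomputable abbrev core3 (H : Subgroup G) : Subgroup G := (Cfsg.pCore 3 H).map H.subtype

/-- The hypotheses of the 3-local characterisation. -/
structure Setting (G : Type*) [Group G] where
  /-- A Sylow 3-subgroup. -/
  S : Sylow 3 G
  /-- Its centre. -/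
  Z : Subgroup G
  /-- The elementary abelian subgroup of order `3 ^ 4`. -/
  J : Subgroup G
  /-- The subgroup generated by the 3-elements normalising `J`. -/
  M : Subgroup G
  /-- The subgroup generated by the 3-elements normalising `Z`. -/
  L : Subgroup G
  /-- The largest normal 3-subgroup of the normaliser of `Z`. -/
  Q : Subgroup G
  hZ : Z = (S : Subgroup G) ⊓ centralizer ((S : Subgroup G) : Set G)
  hJS : J ≤ S
  hJcomm : IsMulCommutative J
  hJexp : ∀ a ∈ J, a ^ 3 = 1
  hJcard : Nat.card J = 3 ^ 4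
  hM : M = closure {g : G | g ∈ normalizer (J : Set G) ∧ ∃ k : ℕ, orderOf g = 3 ^ k}
  hJM : J ≤ M
  hJn : (J.subgroupOf M).Normal
  hMq : Nonempty (M ⧸ J.subgroupOf M ≃* alternatingGroup (Fin 6))
  hL : L = closure {g : G | g ∈ normalizer (Z : Set G) ∧ ∃ k : ℕ, orderOf g = 3 ^ k}
  hQ : Q = core3 (normalizer (Z : Set G))
  hQex : Cfsg.IsExtraspecial 3 Q
  hQcard : Nat.card Q = 3 ^ 5
  hQexp : ∀ a ∈ Q, a ^ 3 = 1
  hQL : Q ≤ L
  hQn : (Q.subgroupOf L).Normal
  hLq : Nonempty (L ⧸ Q.subgroupOf L ≃* Matrix.SpecialLinearGroup (Fin 2) (ZMod 5))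
  hiiiZ : centralizer ((core3 (centralizer (Z : Set G)) : Subgroup G) : Set G) ≤
    core3 (centralizer (Z : Set G))

/-- The centraliser of an element of `J` centralised by a four-group of `M ⧸ J` normalises `J`. -/
def CentFour (s : Setting G) : Prop :=
  ∀ v w : G, v ∈ s.M → w ∈ s.M → orderOf v = 2 → orderOf w = 2 → v ≠ w → Commute v w →
    ∀ j ∈ s.J, j ≠ 1 → Commute v j → Commute w j →
      centralizer ({j} : Set G) ≤ normalizer (s.J : Set G)

/-- The named elements of the two local subgroups. -/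
structure Frame (s : Setting G) where
  /-- A generator of `Z`. -/
  z : G
  /-- The conjugate of `z` generating `C_J(t)` together with it. -/
  z' : G
  /-- The involution. -/
  t : G
  /-- An element of order 4 inverting `z` and `z'`. -/
  c : G
  /-- An involution exchanging `z` and `z'`. -/
  u : G
  /-- A 3-element normalising the four-group generated by `t` and `u`. -/
  x : G
  hz : zpowers z = s.Z
  z'_mem : z' ∈ s.J
  hW : closure ({z, z'} : Set G) = s.J ⊓ centralizer ({t} : Set G)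
  card_W : Nat.card (closure ({z, z'} : Set G)) = 9
  t_memM : t ∈ s.M
  t_memL : t ∈ s.L
  c_memM : c ∈ s.M
  u_memM : u ∈ s.M
  x_memM : x ∈ s.M
  t_ord : orderOf t = 2
  u_ord : orderOf u = 2
  c_sq : c * c = t
  tu : Commute t u
  u_c : u * c * u⁻¹ = c⁻¹
  c_z : c * z * c⁻¹ = z⁻¹
  c_z' : c * z' * c⁻¹ = z'⁻¹
  u_z : u * z * u⁻¹ = z'
  x_y : Commute x (z * z')
  x_cube : x ^ 3 ∈ zpowers (z * z')
  x_t : x * t * x⁻¹ = u
  x_u : x * u * x⁻¹ = t * u
  t_Q : ∀ q ∈ s.Q, t * q * t⁻¹ * q ∈ s.Z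

namespace Frame

variable {s : Setting G} (f : Frame s)

/-- The centraliser of the involution. -/
abbrev X : Subgroup G := centralizer ({f.t} : Set G)

/-- The subgroup of order two of its centre. -/
def T0 : Subgroup f.X := (zpowers f.t).subgroupOf f.X

instance T0_normal : f.T0.Normal := by
  refine ⟨fun n hn g => ?_⟩
  obtain ⟨k, hk⟩ := mem_zpowers_iff.1 (mem_subgroupOf.1 hn)
  have hc : (g : G) * (n : G) = (n : G) * (g : G) := by
    rw [← hk]
    exact ((Commute.symm (show Commute f.t (g : G) from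
      mem_centralizer_singleton_iff.1 g.2 |>.symm)).zpow_right k).eq
  have : g * n * g⁻¹ = n := by
    apply Subtype.ext
    simp [hc]
  rwa [this]

/-- The centraliser of the involution modulo the involution. -/
abbrev Xq : Type _ := f.X ⧸ f.T0

/-- The projection to `Xq`. -/
abbrev proj : f.X →* f.Xq := QuotientGroup.mk' f.T0

/-- The group generated by `z` and `z'`. -/
abbrev W : Subgroup G := closure ({f.z, f.z'} : Set G)

theorem W_le : f.W ≤ s.J := f.hW.le.trans inf_le_left

theorem z_memX : f.z ∈ f.X :=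
  ((f.hW.le (subset_closure (Set.mem_insert f.z {f.z'}))) : _ ∈ _).2

theorem z'_memX : f.z' ∈ f.X :=
  ((f.hW.le (subset_closure (Set.mem_insert_of_mem f.z rfl))) : _ ∈ _).2

theorem u_memX : f.u ∈ f.X := mem_centralizer_singleton_iff.2 f.tu.eq.symm

theorem t_memX : f.t ∈ f.X := mem_centralizer_singleton_iff.2 rfl

theorem c_memX : f.c ∈ f.X := by
  rw [mem_centralizer_singleton_iff, ← f.c_sq, mul_assoc]

/-- The image of `z`. -/
abbrev zq : f.Xq := f.proj ⟨f.z, f.z_memX⟩

/-- The image of `z'`. -/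
abbrev z'q : f.Xq := f.proj ⟨f.z', f.z'_memX⟩

/-- The image of `u`. -/
abbrev uq : f.Xq := f.proj ⟨f.u, f.u_memX⟩

/-- The image of `c`. -/
abbrev cq : f.Xq := f.proj ⟨f.c, f.c_memX⟩

end Frame

/-- The kernel of the product of the two sign characters. -/
abbrev evenPairs : Subgroup (Equiv.Perm (Fin 3) × Equiv.Perm (Fin 5)) :=
  (((Equiv.Perm.sign).comp (MonoidHom.fst (Equiv.Perm (Fin 3)) (Equiv.Perm (Fin 5)))) *
    ((Equiv.Perm.sign).comp (MonoidHom.snd (Equiv.Perm (Fin 3)) (Equiv.Perm (Fin 5))))).ker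

/-- The facts about the 3-subgroups that the later steps use. -/
structure Facts {s : Setting G} (f : Frame s) : Prop where
  card_S : Nat.card (s.S : Subgroup G) = 3 ^ 6
  S_eq : (s.S : Subgroup G) = s.Q ⊔ s.J
  card_Z : Nat.card s.Z = 3
  Z_le_QJ : s.Z ≤ s.Q ⊓ s.J
  card_QJ : Nat.card (s.Q ⊓ s.J : Subgroup G) = 3 ^ 3
  z'_notQ : f.z' ∉ s.Q
  centJ : centralizer (s.J : Set G) = s.J
  centQ : centralizer (s.Q : Set G) = s.Z
  centQt : s.Q ⊓ centralizer ({f.t} : Set G) = s.Z
  J_unique : ∀ A : Subgroup G, A ≤ s.S → IsMulCommutative A → Nat.card A = 3 ^ 4 → A = s.J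
  aniso : ∀ q ∈ s.Q, q ∉ s.J → ⁅⁅f.z', q⁆, q⁆ ≠ 1
  c_S : f.c ∈ normalizer ((s.S : Subgroup G) : Set G)
  t_S : ∀ g ∈ (s.S : Subgroup G), f.t * g * f.t⁻¹ * g ∈ s.J
  cent_y : centralizer ({f.z * f.z'} : Set G) ≤ normalizer (s.J : Set G)
  cent_y' : centralizer ({f.z * f.z'⁻¹} : Set G) ≤ normalizer (s.J : Set G)
  not_fused : ∀ g : G, g * f.z * g⁻¹ ∈ f.W →
    g * f.z * g⁻¹ ∈ s.Z ∨ g * f.z * g⁻¹ ∈ zpowers f.z'
  no_core : ∀ R : Subgroup G, s.J ≤ normalizer (R : Set G) → (Nat.card R).Coprime 3 → R = ⊥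
  no_alt5 : ∀ v : G, orderOf v = 3 → ∀ D : Subgroup G, D ≤ centralizer ({v} : Set G) →
    IsEmpty (D ≃* alternatingGroup (Fin 5))

/-- The centraliser of `Z` is `L`: the case of `McL`. -/
structure CaseA {s : Setting G} (f : Frame s) : Prop where
  centZ : centralizer (s.Z : Set G) = s.L
  eC : Nonempty (centralizer ({f.zq} : Set f.Xq) ≃*
    Multiplicative (ZMod 3) × alternatingGroup (Fin 5))
  eL : Nonempty (normalizer (zpowers f.zq : Set f.Xq) ≃* evenPairs)
  centW : centralizer (closure ({f.zq, f.z'q} : Set f.Xq) : Set f.Xq) =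
    closure ({f.zq, f.z'q} : Set f.Xq)

/-- `L` has index 2 in the centraliser of `Z`: the case of the automorphism group. -/
structure CaseB {s : Setting G} (f : Frame s) : Prop where
  centZ : s.L.relIndex (centralizer (s.Z : Set G)) = 2
  eC : Nonempty (centralizer ({f.zq} : Set f.Xq) ≃*
    Multiplicative (ZMod 3) × Equiv.Perm (Fin 5))
  eL : Nonempty (normalizer (zpowers f.zq : Set f.Xq) ≃*
    Equiv.Perm (Fin 3) × Equiv.Perm (Fin 5))
  centW : Nat.card (centralizer (closure ({f.zq, f.z'q} : Set f.Xq) : Set f.Xq)) = 18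
  neg : ∃ h : G, orderOf h = 2 ∧ ∀ j ∈ s.J, h * j * h⁻¹ = j⁻¹

end Cfsg.Agent.McLLoc
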