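import Mathlib

/-!
# A four-group permuted by an element of order 3, acting on a group of order 81 and exponent 3

If `v ≠ 1` and `w` are commuting involutive automorphisms, `r` has cube 1 and maps `v` to `w` and `w` to
`v * w`, the group is the product of `C(v, w)` of order 3 and three groups of order 3 permuted
by `r`; in particular `r` is not quadratic.
-/

set_option autoImplicit false

namespace Cfsg.Agent.McLLoc.Four

variable {A : Type*} [Group A]

/-- The hypotheses. -/
structure Act (v w r : MulAut A) : Prop where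
  comm : ∀ a b : A, a * b = b * a
  cube : ∀ a : A, a ^ 3 = 1
  card : Nat.card A = 81
  vv : ∀ a, v (v a) = a
  ww : ∀ a, w (w a) = a
  vw : ∀ a, v (w a) = w (v a)
  rv : ∀ a, r (v a) = w (r a)
  rw' : ∀ a, r (w a) = v (w (r a))
  rrr : ∀ a, r (r (r a)) = a
  ne : ∃ a, v a ≠ a

variable {v w r : MulAut A}

/-- The common fixed points. -/
def Fix (h : Act v w r) : Subgroup A where
  carrier := {a | v a = a ∧ w a = a}
  mul_mem' ha hb := ⟨by rw [map_mul, ha.1, hb.1], by rw [map_mul, ha.2, hb.2]⟩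
  one_mem' := ⟨map_one _, map_one _⟩
  inv_mem' ha := ⟨by rw [map_inv, ha.1], by rw [map_inv, ha.2]⟩

/-- The elements fixed by `v` and inverted by `w`. -/
def Eig (h : Act v w r) : Subgroup A where
  carrier := {a | v a = a ∧ w a = a⁻¹}
  mul_mem' {a b} ha hb := ⟨by rw [map_mul, ha.1, hb.1], by
    rw [map_mul, ha.2, hb.2, mul_inv_rev, h.comm]⟩
  one_mem' := ⟨map_one _, by rw [map_one, inv_one]⟩
  inv_mem' ha := ⟨by rw [map_inv, ha.1], by rw [map_inv, ha.2]⟩

theorem mem_Fix {h : Act v w r} {a : A} : a ∈ Fix h ↔ v a = a ∧ w a = a := Iff.rfl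

theorem mem_Eig {h : Act v w r} {a : A} : a ∈ Eig h ↔ v a = a ∧ w a = a⁻¹ := Iff.rfl

theorem v_r (h : Act v w r) (a : A) : v (r a) = r (v (w a)) := by
  rw [h.rv, h.rw']
  rw [h.vw, h.ww]

theorem w_r (h : Act v w r) (a : A) : w (r a) = r (v a) := (h.rv a).symm

/-- The decomposition map. -/
def glue (h : Act v w r) (p : Fix h × Eig h × Eig h × Eig h) : A :=
  (p.1 : A) * p.2.1 * r (p.2.2.1 : A) * r (r (p.2.2.2 : A))

theorem v_glue (h : Act v w r) (p : Fix h × Eig h × Eig h × Eig h) :
    v (glue h p) = (p.1 : A) * p.2.1 * (r (p.2.2.1 : A))⁻¹ * (r (r (p.2.2.2 : A)))⁻¹ := by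
  obtain ⟨⟨c, hc⟩, ⟨a, ha⟩, ⟨b, hb⟩, ⟨d, hd⟩⟩ := p
  simp only [glue, map_mul, hc.1, ha.1, v_r h, w_r h, hb.2, hb.1, hd.1, hd.2, map_inv]

theorem w_glue (h : Act v w r) (p : Fix h × Eig h × Eig h × Eig h) :
    w (glue h p) = (p.1 : A) * (p.2.1 : A)⁻¹ * r (p.2.2.1 : A) * (r (r (p.2.2.2 : A)))⁻¹ := by
  obtain ⟨⟨c, hc⟩, ⟨a, ha⟩, ⟨b, hb⟩, ⟨d, hd⟩⟩ := p
  simp only [glue, map_mul, hc.2, ha.2, v_r h, w_r h, hb.1, hd.1, hd.2, map_inv]

theorem glue_injective (h : Act v w r) : Function.Injective (glue h) := by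
  let _ : CommGroup A := { (inferInstance : Group A) with mul_comm := h.comm }
  have key : ∀ p : Fix h × Eig h × Eig h × Eig h,
      (p.1 : A) = glue h p * v (glue h p) * w (glue h p) * v (w (glue h p)) ∧
      (p.2.1 : A) = glue h p * v (glue h p) * (w (glue h p))⁻¹ * (v (w (glue h p)))⁻¹ ∧
      r (p.2.2.1 : A) = glue h p * (v (glue h p))⁻¹ * w (glue h p) * (v (w (glue h p)))⁻¹ ∧
      r (r (p.2.2.2 : A)) = glue h p * (v (glue h p))⁻¹ * (w (glue h p))⁻¹ * v (w (glue h p)) := by
    intro p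
    have hv := v_glue h p
    have hw := w_glue h p
    obtain ⟨⟨c, hc⟩, ⟨a, ha⟩, ⟨b, hb⟩, ⟨d, hd⟩⟩ := p
    have hvw : v (w (glue h (⟨c, hc⟩, ⟨a, ha⟩, ⟨b, hb⟩, ⟨d, hd⟩))) =
        c * a⁻¹ * (r b)⁻¹ * r (r d) := by
      rw [hw]
      simp only [map_mul, map_inv, hc.1, ha.1, v_r h, w_r h, hb.1, hb.2, hd.1, hd.2, inv_inv]
    rw [hvw, hv, hw]
    simp only [glue]
    have c4 : ∀ x : A, x = x * x * x * x := fun x => by
      have := h.cube x
      rw [pow_succ, pow_succ, pow_one] at this
      rw [this, one_mul]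
    refine ⟨?_, ?_, ?_, ?_⟩
    · conv_lhs => rw [c4 c]
      apply Additive.ofMul.injective
      simp only [ofMul_mul, ofMul_inv]
      abel
    · conv_lhs => rw [c4 a]
      apply Additive.ofMul.injective
      simp only [ofMul_mul, ofMul_inv]
      abel
    · conv_lhs => rw [c4 (r b)]
      apply Additive.ofMul.injective
      simp only [ofMul_mul, ofMul_inv]
      abel
    · conv_lhs => rw [c4 (r (r d))]
      apply Additive.ofMul.injective
      simp only [ofMul_mul, ofMul_inv]
      abel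
  intro p q hpq
  obtain ⟨h1, h2, h3, h4⟩ := key p
  obtain ⟨k1, k2, k3, k4⟩ := key q
  rw [hpq] at h1 h2 h3 h4
  exact Prod.ext (Subtype.ext (h1.trans k1.symm)) (Prod.ext (Subtype.ext (h2.trans k2.symm))
    (Prod.ext (Subtype.ext (r.injective (h3.trans k3.symm)))
      (Subtype.ext (r.injective (r.injective (h4.trans k4.symm))))))

theorem glue_surjective (h : Act v w r) (x : A) : ∃ p, glue h p = x := by
  let _ : CommGroup A := { (inferInstance : Group A) with mul_comm := h.comm }
  have hv2 := h.vv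
  have hw2 := h.ww
  have hc := h.vw
  have c4 : x * x * x * x = x := by
    have := h.cube x
    rw [pow_succ, pow_succ, pow_one] at this
    rw [this, one_mul]
  have hvr : ∀ a, v (r.symm a) = r.symm (w a) := fun a => by
    apply r.injective
    rw [h.rv, r.apply_symm_apply, r.apply_symm_apply]
  have hwr : ∀ a, w (r.symm a) = r.symm (v (w a)) := fun a => by
    apply r.injective
    rw [h.rw', r.apply_symm_apply, r.apply_symm_apply]
  refine ⟨(⟨x * v x * w x * v (w x), ?_⟩, ⟨x * v x * (w x)⁻¹ * (v (w x))⁻¹, ?_⟩,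
    ⟨r.symm (x * (v x)⁻¹ * w x * (v (w x))⁻¹), ?_⟩,
    ⟨r.symm (r.symm (x * (v x)⁻¹ * (w x)⁻¹ * v (w x))), ?_⟩), ?_⟩
  · rw [mem_Fix]; constructor <;> simp [hv2, hw2, ← hc, mul_comm, mul_assoc, mul_left_comm]
  · rw [mem_Eig]; constructor <;> simp [hv2, hw2, ← hc, mul_comm, mul_assoc, mul_left_comm]
  · rw [mem_Eig]; constructor <;>
      simp [hvr, hwr, hv2, hw2, ← hc, mul_comm, mul_assoc, mul_left_comm]
  · rw [mem_Eig]; constructor <;>
      simp [hvr, hwr, hv2, hw2, ← hc, mul_comm, mul_assoc, mul_left_comm]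
  · simp only [glue, MulEquiv.apply_symm_apply]
    conv_rhs => rw [← c4]
    apply Additive.ofMul.injective
    simp only [ofMul_mul, ofMul_inv]
    abel

theorem card_parts (h : Act v w r) : Nat.card (Fix h) = 3 ∧ Nat.card (Eig h) = 3 := by
  have hA : Finite A := Nat.finite_of_card_ne_zero (by rw [h.card]; norm_num)
  have hprod : Nat.card (Fix h) * Nat.card (Eig h) ^ 3 = 81 := by
    rw [← h.card, ← Nat.card_eq_of_bijective (glue h) ⟨glue_injective h, glue_surjective h⟩]
    simp only [Nat.card_prod]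
    ring
  have hne : Nat.card (Eig h) ≠ 1 := by
    intro h1
    obtain ⟨a, ha⟩ := h.ne
    obtain ⟨⟨c, e, f, g⟩, rfl⟩ := glue_surjective h a
    have hb := Subgroup.card_eq_one.1 h1
    have ht : ∀ x : Eig h, (x : A) = 1 := fun x => Subgroup.mem_bot.1 (hb ▸ x.2)
    apply ha
    rw [v_glue]
    simp [glue, ht]
  have hd : Nat.card (Eig h) ∣ 81 := h.card ▸ Subgroup.card_subgroup_dvd_card _
  have hpos : 0 < Nat.card (Fix h) := Nat.card_pos
  have hle : Nat.card (Eig h) ≤ 4 := by
    by_contra hh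
    have h5 : 5 ^ 3 ≤ Nat.card (Eig h) ^ 3 := Nat.pow_le_pow_left (by omega) 3
    nlinarith
  have h3 : Nat.card (Eig h) = 3 := by
    generalize Nat.card (Eig h) = n at hd hne hle
    interval_cases n <;> omega
  rw [h3] at hprod
  omega

theorem card_fixed_v (h : Act v w r) : Nat.card {a : A // v a = a} = 9 := by
  let g : Fix h × Eig h → {a : A // v a = a} := fun p =>
    ⟨(p.1 : A) * p.2, by rw [map_mul, p.1.2.1, p.2.2.1]⟩
  have hg : Function.Bijective g := by
    constructor
    · intro p q hpq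
      have : glue h (p.1, p.2, 1, 1) = glue h (q.1, q.2, 1, 1) := by
        simpa [glue, g] using congrArg Subtype.val hpq
      have := glue_injective h this
      simp only [Prod.mk.injEq] at this
      exact Prod.ext this.1 this.2.1
    · rintro ⟨a, ha⟩
      obtain ⟨⟨c, e, f, d⟩, rfl⟩ := glue_surjective h a
      have h2 := ha
      rw [v_glue] at h2
      have h3 : glue h (c, e, f⁻¹, d⁻¹) = glue h (c, e, f, d) := by simpa [glue] using h2
      have h4 := glue_injective h h3
      simp only [Prod.mk.injEq, true_and] at h4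
      have one : ∀ x : Eig h, x⁻¹ = x → x = 1 := fun x hx => by
        have h5 : x * x = 1 := by nth_rewrite 1 [← hx]; exact inv_mul_cancel x
        have h6 : x ^ 3 = 1 := Subtype.ext (h.cube x)
        rwa [pow_succ, pow_two, h5, one_mul] at h6
      refine ⟨(c, e), Subtype.ext ?_⟩
      simp [g, glue, one _ h4.1, one _ h4.2]
  rw [← Nat.card_eq_of_bijective g hg, Nat.card_prod, (card_parts h).1, (card_parts h).2]

theorem card_fixed_r (h : Act v w r) : Nat.card {a : A // r a = a} ≤ 9 := by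
  have hA : Finite A := Nat.finite_of_card_ne_zero (by rw [h.card]; norm_num)
  let _ : CommGroup A := { (inferInstance : Group A) with mul_comm := h.comm }
  choose p hp using glue_surjective h
  have hinj : Function.Injective fun a : {a : A // r a = a} => ((p a.1).1, (p a.1).2.1) := by
    rintro ⟨a, ha⟩ ⟨b, hb⟩ hab
    simp only [Prod.mk.injEq] at hab
    have key : ∀ x, r x = x → (p x).2.2.1 = (p x).2.1 ∧ (p x).2.2.2 = (p x).2.1 := by
      intro x hx
      have hc : r ((p x).1 : A) ∈ Fix h := by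
        obtain ⟨h1, h2⟩ := (p x).1.2
        exact ⟨by rw [v_r h, h2, h1], by rw [w_r h, h1]⟩
      have : glue h (⟨_, hc⟩, (p x).2.2.2, (p x).2.1, (p x).2.2.1) = glue h (p x) := by
        conv_rhs => rw [hp x, ← hx, ← hp x]
        simp only [glue, map_mul, h.rrr]
        apply Additive.ofMul.injective
        simp only [ofMul_mul, ofMul_inv]
        abel
      have := glue_injective h this
      simp only [Prod.ext_iff] at this
      exact ⟨this.2.2.1.symm, this.2.1⟩
    have h5 : p a = p b := by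
      obtain ⟨a1, a2⟩ := key a ha
      obtain ⟨b1, b2⟩ := key b hb
      exact Prod.ext hab.1 (Prod.ext hab.2 (Prod.ext (by rw [a1, b1, hab.2])
        (by rw [a2, b2, hab.2])))
    exact Subtype.ext (((hp a).symm.trans (congrArg (glue h) h5)).trans (hp b))
  refine (Nat.card_le_card_of_injective _ hinj).trans ?_
  rw [Nat.card_prod, (card_parts h).1, (card_parts h).2]

theorem not_quadratic (h : Act v w r) : ∃ a : A, a * r a * r (r a) ≠ 1 := by
  obtain ⟨e, he⟩ : ∃ e : Eig h, e ≠ 1 := by
    have : 1 < Nat.card (Eig h) := by rw [(card_parts h).2]; norm_num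
    have hA : Finite A := Nat.finite_of_card_ne_zero (by rw [h.card]; norm_num)
    have := Finite.one_lt_card_iff_nontrivial.1 this
    exact exists_ne 1
  refine ⟨e, fun hh => he ?_⟩
  have : glue h (1, e, e, e) = glue h (1, 1, 1, 1) := by simpa [glue] using hh
  exact ((Prod.ext_iff.1 (Prod.ext_iff.1 (glue_injective h this)).2).1)

end Cfsg.Agent.McLLoc.Four
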