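import Cfsg.Agent.McLLoc.QuotInv
import Cfsg.Agent.A8ThreeLocal.Final


/-!
In the first case the centraliser of the involution modulo it is the alternating group of degree 8.
-/

set_option autoImplicit false
set_option synthInstance.maxSize 2000

namespace Cfsg.Agent.McLLoc

open Equiv Equiv.Perm Subgroup
open Cfsg.Agent.A8ThreeLocal (A5)

variable {G : Type*} [Group G] [Finite G] {s : Setting G} {f : Frame s}

theorem alt8 (F : Facts f) (h : CaseA f) : Nonempty (f.Xq ≃* alternatingGroup (Fin 8)) := by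
  obtain ⟨eC⟩ := h.eC
  obtain ⟨eL⟩ := h.eL
  have hz : Nat.card (centralizer ({f.zq} : Set f.Xq)) = 180 := by
    rw [Nat.card_congr eC.toEquiv, Nat.card_prod, nat_card_alternatingGroup, Nat.card_fin,
      Nat.card_congr Multiplicative.toAdd, Nat.card_zmod]
    rfl
  have hC : centralizer (Bar.Wq f : Set f.Xq) = Bar.Wq f := h.centW
  have hC9 : Nat.card (centralizer (Bar.Wq f : Set f.Xq)) = 9 := by rw [hC, Bar.card_Wq]
  obtain ⟨φ, -, -, -, p, -, P⟩ := Bar.exists_inverter F eC (MonoidHom.id A5) (fun _ _ e => e)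
    Bar.a5_center Bar.a5_invert (by rw [hC9, hz]; norm_num)
  obtain ⟨S, hS⟩ := Bar.exists_sylow f P (by rw [hC9]; norm_num)
  have hNcard : Nat.card (normalizer (Bar.Wq f : Set f.Xq) ⧸
      (Bar.Wq f).subgroupOf (normalizer (Bar.Wq f : Set f.Xq))) = 8 := by
    have h8 := P.card_quot
    rwa [show centralizer (closure ({f.zq, f.z'q} : Set f.Xq) : Set f.Xq) = Bar.Wq f from hC] at h8
  have hy := Bar.cy_le f F
  have hycard : Nat.card (centralizer ({f.zq * f.z'q} : Set f.Xq)) = 18 := by
    rw [P.card_cy hy]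
    exact (congrArg (2 * ·) hC9)
  have hWy : Bar.Wq f ≤ centralizer ({f.zq * f.z'q} : Set f.Xq) := by
    rw [← hC]; exact Bar.Pair.cent_le_cy
  have hyn : ((Bar.Wq f).subgroupOf (centralizer ({f.zq * f.z'q} : Set f.Xq))).Normal :=
    (normal_subgroupOf_iff_le_normalizer hWy).2 hy
  have hgen : closure ({f.zq * f.z'q, f.zq} : Set f.Xq) = Bar.Wq f := by
    refine le_antisymm ((closure_le _).2 ?_) ((closure_le _).2 ?_)
    · rintro x (rfl | rfl)
      · exact mul_mem (subset_closure (Set.mem_insert _ _))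
          (subset_closure (Set.mem_insert_of_mem _ (Set.mem_singleton _)))
      · exact subset_closure (Set.mem_insert _ _)
    · rintro x (rfl | rfl)
      · exact subset_closure (Set.mem_insert_of_mem _ (Set.mem_singleton _))
      · have := mul_mem (inv_mem (subset_closure (Set.mem_insert_of_mem (f.zq * f.z'q) (Set.mem_singleton f.zq))))
          (subset_closure (Set.mem_insert (f.zq * f.z'q) ({f.zq} : Set f.Xq)))
        rwa [inv_mul_cancel_left] at this
  obtain ⟨H⟩ := A8ThreeLocal.exists_hyp S (Bar.Wq f) hS (f.zq * f.z'q) f.zq hgen P.isComm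
    (Bar.card_Wq f) (fun _ ha => P.cube ha) hC hNcard hyn hycard hz eL
  exact H.nonempty_iso

end Cfsg.Agent.McLLoc
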