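import Cfsg.Agent.McLLoc.QuotExcl
import Cfsg.Agent.S8ThreeLocal.SymFinish

/-!
In the second case the centraliser of the involution modulo it is the symmetric group of degree 8.
-/

set_option autoImplicit false
set_option synthInstance.maxSize 2000

namespace Cfsg.Agent.McLLoc

open Equiv Equiv.Perm Subgroup
open Cfsg.Agent.A8ThreeLocal (A5 centralizer_card_conj)

namespace Bar

variable {G : Type*} [Group G] {s : Setting G} {f : Frame s}

theorem cent_inv {Y : Type*} [Group Y] (x : Y) :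
    centralizer ({x⁻¹} : Set Y) = centralizer ({x} : Set Y) := by
  ext g
  simp only [mem_centralizer_singleton_iff]
  exact Commute.inv_right_iff (a := g) (b := x)

/-- An element of `Wq` with a large centraliser lies on one of the two lines. -/
theorem line_of_card [Finite G] {v : f.Xq} (P : Pair f.zq f.z'q f.uq v)
    (hy : Nat.card (centralizer ({f.zq * f.z'q} : Set f.Xq)) = 36) {x : f.Xq} (hx : x ∈ Wq f)
    (hx1 : x ≠ 1) (hc : Nat.card (centralizer ({x} : Set f.Xq)) = 360) :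
    (x = f.zq ∨ x = f.zq⁻¹) ∨ (x = f.z'q ∨ x = f.z'q⁻¹) := by
  obtain ⟨ea, ea', eb, eb'⟩ := P.val
  have h11 : co f.zq f.z'q (1, 1) = f.zq * f.z'q := by simp [co]
  have h12 : co f.zq f.z'q (1, 2) = v * (f.zq * f.z'q) * v⁻¹ := by
    rw [show v * (f.zq * f.z'q) * v⁻¹ = v * f.zq * v⁻¹ * (v * f.z'q * v⁻¹) by group, P.v_a, P.v_b, eb']
    nth_rw 2 [ea]
    rw [co_mul P.a3 P.b3 P.comm]
    rfl
  have c11 : Nat.card (centralizer ({co f.zq f.z'q (1, 1)} : Set f.Xq)) = 36 := by rw [h11, hy]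
  have c12 : Nat.card (centralizer ({co f.zq f.z'q (1, 2)} : Set f.Xq)) = 36 := by
    rw [h12, centralizer_card_conj, hy]
  have c22 : Nat.card (centralizer ({co f.zq f.z'q (2, 2)} : Set f.Xq)) = 36 := by
    rw [show co f.zq f.z'q (2, 2) = (co f.zq f.z'q (1, 1))⁻¹ from
      (co_inv P.a3 P.b3 P.comm (1, 1)).symm, cent_inv, c11]
  have c21 : Nat.card (centralizer ({co f.zq f.z'q (2, 1)} : Set f.Xq)) = 36 := by
    rw [show co f.zq f.z'q (2, 1) = (co f.zq f.z'q (1, 2))⁻¹ from
      (co_inv P.a3 P.b3 P.comm (1, 2)).symm, cent_inv, c12]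
  obtain ⟨⟨i, j⟩, rfl⟩ := exists_co P.a3 P.b3 P.comm hx
  fin_cases i <;> fin_cases j
  · exact absurd (co_zero _ _) hx1
  · exact Or.inr (Or.inl eb.symm)
  · exact Or.inr (Or.inr eb'.symm)
  · exact Or.inl (Or.inl ea.symm)
  · exact absurd (c11.symm.trans hc) (by norm_num)
  · exact absurd (c12.symm.trans hc) (by norm_num)
  · exact Or.inl (Or.inr ea'.symm)
  · exact absurd (c21.symm.trans hc) (by norm_num)
  · exact absurd (c22.symm.trans hc) (by norm_num)

/-- Every copy of the alternating group centralising `zq` is the given one. -/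
theorem cover [Finite G] (e : centralizer ({f.zq} : Set f.Xq) ≃* Multiplicative (ZMod 3) × Perm (Fin 5))
    {φ ψ : A5 →* f.Xq} (hφc : ∀ p, φ p * f.zq = f.zq * φ p)
    (hφ : ∀ (p : A5) (hp : φ p ∈ centralizer ({f.zq} : Set f.Xq)), e ⟨φ p, hp⟩ = (1, (p : Perm (Fin 5))))
    (hψ : Function.Injective ψ) (hψc : ∀ q, ψ q * f.zq = f.zq * ψ q) (r : A5) :
    ∃ q, ψ q = φ r := by
  let ψ' : A5 →* centralizer ({f.zq} : Set f.Xq) :=
    ψ.codRestrict _ fun q => mem_centralizer_singleton_iff.2 (hψc q)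
  have h1 : ∀ q, (e (ψ' q)).1 = 1 := fun q =>
    a5_abelian ((MonoidHom.fst _ _).comp (e.toMonoidHom.comp ψ')) q
  have h2 : ∀ q, sign (e (ψ' q)).2 = 1 := fun q => by
    simpa only [MonoidHom.comp_apply, MonoidHom.coe_snd, MulEquiv.coe_toMonoidHom] using
      a5_abelian (sign.comp ((MonoidHom.snd _ _).comp (e.toMonoidHom.comp ψ'))) q
  let m : A5 → A5 := fun q => ⟨(e (ψ' q)).2, mem_alternatingGroup.2 (h2 q)⟩
  have hm : ∀ q, φ (m q) = ψ q := by
    intro q
    have hp : φ (m q) ∈ centralizer ({f.zq} : Set f.Xq) := mem_centralizer_singleton_iff.2 (hφc _)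
    have : (⟨φ (m q), hp⟩ : centralizer ({f.zq} : Set f.Xq)) = ψ' q :=
      e.injective ((hφ _ hp).trans (Prod.ext (h1 q).symm rfl))
    exact congrArg Subtype.val this
  obtain ⟨q, hq⟩ := (Finite.injective_iff_surjective (f := m)).1
    (fun a b hab => hψ (by rw [← hm, ← hm, hab])) r
  exact ⟨q, by rw [← hm, hq]⟩

end Bar

variable {G : Type*} [Group G] [Finite G] {s : Setting G} {f : Frame s}

theorem sym8 (F : Facts f) (h : CaseB f) : Nonempty (f.Xq ≃* Equiv.Perm (Fin 8)) := by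
  obtain ⟨eC⟩ := h.eC
  obtain ⟨eL⟩ := h.eL
  have hz : Nat.card (centralizer ({f.zq} : Set f.Xq)) = 360 := by
    rw [Nat.card_congr eC.toEquiv, Nat.card_prod, Nat.card_perm, Nat.card_fin,
      Nat.card_congr Multiplicative.toAdd, Nat.card_zmod]
    rfl
  have hC18 : Nat.card (centralizer (Bar.Wq f : Set f.Xq)) = 18 := h.centW
  obtain ⟨φ, -, hφc, hφ, p, hp2, P⟩ := Bar.exists_inverter F eC (alternatingGroup (Fin 5)).subtype
    Subtype.val_injective Bar.p5_center Bar.p5_invert (by rw [hC18, hz]; norm_num)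
  obtain ⟨S, hS⟩ := Bar.exists_sylow f P (by rw [hC18]; norm_num)
  have hNcard : Nat.card (normalizer (Bar.Wq f : Set f.Xq) ⧸
      (Bar.Wq f).subgroupOf (normalizer (Bar.Wq f : Set f.Xq))) = 16 := by
    have h8 := P.card_norm
    rw [card_eq_card_quotient_mul_card_subgroup ((Bar.Wq f).subgroupOf
        (normalizer (Bar.Wq f : Set f.Xq))),
      Nat.card_congr (subgroupOfEquivOfLe le_normalizer).toEquiv, Bar.card_Wq, hC18] at h8
    omega
  have hcn := Bar.Pair.cent_normal (a := f.zq) (b := f.z'q)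
  obtain ⟨eNC⟩ := P.dihedral
  have hy := Bar.cy_le f F
  have hycard : Nat.card (centralizer ({f.zq * f.z'q} : Set f.Xq)) = 36 := by
    rw [P.card_cy hy]
    exact (congrArg (2 * ·) hC18)
  have hWC : Bar.Wq f ≤ centralizer (Bar.Wq f : Set f.Xq) := fun x hx =>
    mem_centralizer_iff.2 fun y hy =>
      congrArg Subtype.val (P.isComm.is_comm.comm (⟨y, hy⟩ : Bar.Wq f) ⟨x, hx⟩)
  have hWy : Bar.Wq f ≤ centralizer ({f.zq * f.z'q} : Set f.Xq) := hWC.trans Bar.Pair.cent_le_cy
  have hyn : ((Bar.Wq f).subgroupOf (centralizer ({f.zq * f.z'q} : Set f.Xq))).Normal :=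
    (normal_subgroupOf_iff_le_normalizer hWy).2 hy
  have hidx : ((Bar.Wq f).subgroupOf (centralizer (Bar.Wq f : Set f.Xq))).index = 2 := by
    have := ((Bar.Wq f).subgroupOf (centralizer (Bar.Wq f : Set f.Xq))).card_mul_index
    rw [Nat.card_congr (subgroupOfEquivOfLe hWC).toEquiv, Bar.card_Wq f, hC18] at this
    omega
  have hysq : ∀ g ∈ centralizer ({f.zq * f.z'q} : Set f.Xq), g ^ 2 ∈ Bar.Wq f := by
    intro g hg
    have hg' : g * (f.zq * f.z'q) * g⁻¹ = f.zq * f.z'q := by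
      rw [mem_centralizer_singleton_iff.1 hg, mul_inv_cancel_right]
    rw [pow_two]
    rcases P.fix_prod (hy hg) hg' with hk | hk
    · exact mem_subgroupOf.1 (mul_self_mem_of_index_two hidx ⟨g, hk⟩)
    · set k := g * f.uq with hkd
      have hu : f.uq * k * f.uq⁻¹ ∈ centralizer (Bar.Wq f : Set f.Xq) := by
        refine Bar.Pair.cent_of_fix ?_ ?_
        · calc f.uq * k * f.uq⁻¹ * f.zq * (f.uq * k * f.uq⁻¹)⁻¹
              = f.uq * (k * (f.uq⁻¹ * f.zq * f.uq) * k⁻¹) * f.uq⁻¹ := by group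
            _ = f.uq * f.z'q * f.uq⁻¹ := by
              rw [show f.uq⁻¹ * f.zq * f.uq = f.z'q by rw [← P.u_b]; group,
                Bar.Pair.fix_of_cent hk (subset_closure (Set.mem_insert_of_mem _ (Set.mem_singleton _)))]
            _ = f.zq := P.u_b
        · calc f.uq * k * f.uq⁻¹ * f.z'q * (f.uq * k * f.uq⁻¹)⁻¹
              = f.uq * (k * (f.uq⁻¹ * f.z'q * f.uq) * k⁻¹) * f.uq⁻¹ := by group
            _ = f.uq * f.zq * f.uq⁻¹ := by
              rw [show f.uq⁻¹ * f.z'q * f.uq = f.zq by rw [← P.u_a]; group,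
                Bar.Pair.fix_of_cent hk (subset_closure (Set.mem_insert _ _))]
            _ = f.z'q := P.u_a
      have hiff : f.uq * k * f.uq⁻¹ ∈ Bar.Wq f ↔ k ∈ Bar.Wq f :=
        ((Subgroup.mem_normalizer_iff.1 P.u_norm) k).symm
      have hm := (mul_mem_iff_of_index_two hidx (a := ⟨k, hk⟩) (b := ⟨_, hu⟩)).2
        (by simpa [mem_subgroupOf] using hiff.symm)
      rw [mem_subgroupOf] at hm
      have hui : f.uq⁻¹ = f.uq := inv_eq_of_mul_eq_one_right (Bar.uq_sq f)
      have : g * g = k * (f.uq * k * f.uq⁻¹) := by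
        rw [hkd, show g * f.uq * (f.uq * (g * f.uq) * f.uq⁻¹) = g * (f.uq * f.uq) * g by group,
          Bar.uq_sq, mul_one]
      rw [this]
      exact hm
  have hgen : closure ({f.zq * f.z'q, f.zq} : Set f.Xq) = Bar.Wq f := by
    refine le_antisymm ((closure_le _).2 ?_) ((closure_le _).2 ?_)
    · rintro x (rfl | rfl)
      · exact mul_mem (subset_closure (Set.mem_insert _ _))
          (subset_closure (Set.mem_insert_of_mem _ (Set.mem_singleton _)))
      · exact subset_closure (Set.mem_insert _ _)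
    · rintro x (rfl | rfl)
      · exact subset_closure (Set.mem_insert_of_mem _ (Set.mem_singleton _))
      · have := mul_mem (inv_mem (subset_closure (Set.mem_insert_of_mem (f.zq * f.z'q) (Set.mem_singleton f.zq))))
          (subset_closure (Set.mem_insert (f.zq * f.z'q) ({f.zq} : Set f.Xq)))
        rwa [inv_mul_cancel_left] at this
  obtain ⟨H⟩ := S8ThreeLocal.exists_hyp S (Bar.Wq f) hS (f.zq * f.z'q) f.zq hgen P.isComm
    (Bar.card_Wq f) (fun _ ha => P.cube ha) hC18 hNcard eNC hyn hycard hysq hz eL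
  rcases H.i_t with hs | hse
  · exfalso
    have hs' : H.i * H.t * H.i = H.s := hs
    have hcomm := H.s_comm hs'
    obtain ⟨k, hk⟩ := H.conj_D (Bar.Wq f) (Bar.card_Wq f)
    have hmap : (Bar.Wq f).map (MulAut.conj k).toMonoidHom = H.D := by
      refine Subgroup.eq_of_le_of_card_ge ?_ ?_
      · rintro _ ⟨x, hx, rfl⟩; exact hk x hx
      · rw [H.card_D, Subgroup.card_map_of_injective (MulAut.conj k).injective, Bar.card_Wq]
    let κ : f.Xq ≃* f.Xq := (MulAut.conj k).symm
    have hκ : ∀ x ∈ H.D, κ x ∈ Bar.Wq f := by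
      intro x hx
      rw [← hmap] at hx
      obtain ⟨w, hw, rfl⟩ := hx
      show (MulAut.conj k).symm (MulAut.conj k w) ∈ Bar.Wq f
      rw [MulEquiv.symm_apply_apply]
      exact hw
    have hzz : H.i * H.z * H.i = H.z' := H.i_z_eq
    have hzne : H.z ≠ 1 := H.z_ne
    have hz'ne : H.z' ≠ 1 := fun e => hzne (by rw [← H.i_z', e, mul_one, H.i_sq])
    have hcz : Nat.card (centralizer ({H.z} : Set f.Xq)) = 360 := H.card_cz
    have hcz' : Nat.card (centralizer ({H.z'} : Set f.Xq)) = 360 := by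
      rw [← H.i_z_eq, show H.i * H.z * H.i = H.i * H.z * H.i⁻¹ by rw [H.i_inv], centralizer_card_conj, hcz]
    have cls : ∀ x ∈ H.D, x ≠ 1 → Nat.card (centralizer ({x} : Set f.Xq)) = 360 →
        (κ x = f.zq ∨ κ x = f.zq⁻¹) ∨ (κ x = f.z'q ∨ κ x = f.z'q⁻¹) := by
      intro x hx h1 hc
      refine Bar.line_of_card P hycard (hκ x hx) (fun e => h1 (κ.injective (e.trans (map_one κ).symm))) ?_
      rw [show κ x = k⁻¹ * x * k⁻¹⁻¹ by simp [κ], centralizer_card_conj, hc]
    have hne : ∀ w, κ H.z = w → κ H.z' ≠ w ∧ κ H.z' ≠ w⁻¹ := by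
      have k1 : S8ThreeLocal.inA Cfsg.Agent.A8ThreeLocal.c5 ≠ S8ThreeLocal.zP ∧
          S8ThreeLocal.inA Cfsg.Agent.A8ThreeLocal.c5 ≠ S8ThreeLocal.zP⁻¹ := by decide +kernel
      rintro w rfl
      refine ⟨fun e => k1.1 (H.psi_inj (κ.injective e)), fun e => k1.2 (H.psi_inj ?_)⟩
      rw [map_inv]
      exact κ.injective (e.trans (map_inv κ _).symm)
    let ψ1 : A5 →* f.Xq := κ.toMonoidHom.comp H.f
    let ψ2 : A5 →* f.Xq := κ.toMonoidHom.comp ((MulAut.conj H.i).toMonoidHom.comp H.f)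
    have h1i : Function.Injective ψ1 := κ.injective.comp H.f_inj
    have h2i : Function.Injective ψ2 := κ.injective.comp ((MulAut.conj H.i).injective.comp H.f_inj)
    have h2e : ∀ q, (MulAut.conj H.i).toMonoidHom (H.f q) = H.i * H.f q * H.i := fun q => by
      show H.i * H.f q * H.i⁻¹ = _
      rw [H.i_inv]
    have h12 : ∀ a b, Commute (ψ1 a) (ψ2 b) := fun a b => by
      show Commute (κ (H.f a)) (κ ((MulAut.conj H.i).toMonoidHom (H.f b)))
      rw [h2e]
      exact (hcomm a b).map κ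
    have h1c : ∀ q, Commute (ψ1 q) (κ H.z) := fun q =>
      ((show Commute H.z (H.f q) from H.z_f q).symm).map κ
    have h2c : ∀ q, Commute (ψ2 q) (κ H.z') := fun q => by
      show Commute (κ ((MulAut.conj H.i).toMonoidHom (H.f q))) (κ H.z')
      rw [h2e, ← H.i_z_eq]
      refine Commute.map ?_ κ
      show H.i * H.f q * H.i * (H.i * H.z * H.i) = H.i * H.z * H.i * (H.i * H.f q * H.i)
      rw [← H.i_mul, ← H.i_mul, H.z_f]
    -- a copy centralising a point of a line centralises its generator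
    have gena : ∀ {x w : f.Xq}, Commute w x → (x = f.zq ∨ x = f.zq⁻¹) → w * f.zq = f.zq * w := by
      intro x w hw hx
      rcases hx with rfl | rfl
      · exact hw.eq
      · exact (Commute.inv_right_iff.1 hw).eq
    have genb : ∀ {x w : f.Xq}, Commute w x → (x = f.z'q ∨ x = f.z'q⁻¹) →
        MulAut.conj f.uq w * f.zq = f.zq * MulAut.conj f.uq w := by
      intro x w hw hx
      have h0 : Commute w f.z'q := by
        rcases hx with rfl | rfl
        · exact hw
        · exact Commute.inv_right_iff.1 hw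
      have := h0.map (MulAut.conj f.uq)
      rw [show MulAut.conj f.uq f.z'q = f.zq from Bar.uq_z' f] at this
      exact this.eq
    have huu : ∀ w : f.Xq, f.uq * (MulAut.conj f.uq w) * f.uq⁻¹ = w := fun w => by
      show f.uq * (f.uq * w * f.uq⁻¹) * f.uq⁻¹ = w
      rw [show f.uq * (f.uq * w * f.uq⁻¹) * f.uq⁻¹ = (f.uq * f.uq) * w * (f.uq * f.uq)⁻¹ by group,
        Bar.uq_sq, one_mul, inv_one, mul_one]
    refine Bar.not_commuting F h P hp2 fun q r => ?_
    rcases cls H.z H.z_mem hzne hcz with hA | hA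
    · have hB : κ H.z' = f.z'q ∨ κ H.z' = f.z'q⁻¹ := by
        refine (cls H.z' H.z'_mem hz'ne hcz').resolve_left fun hB => ?_
        rcases hA with eA | eA <;> obtain ⟨n1, n2⟩ := hne _ eA <;> rcases hB with eB | eB
        · exact n1 eB
        · exact n2 eB
        · exact n2 (eB.trans (inv_inv _).symm)
        · exact n1 eB
      obtain ⟨a, ha⟩ := Bar.cover eC hφc hφ h1i (fun x => gena (h1c x) hA) q
      obtain ⟨b, hb⟩ := Bar.cover eC hφc hφ
        (ψ := (MulAut.conj f.uq).toMonoidHom.comp ψ2) ((MulAut.conj f.uq).injective.comp h2i)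
        (fun x => genb (h2c x) hB) r
      rw [← ha, ← hb]
      show Commute (ψ1 a) (f.uq * (MulAut.conj f.uq (ψ2 b)) * f.uq⁻¹)
      rw [huu]
      exact h12 a b
    · have hB : κ H.z' = f.zq ∨ κ H.z' = f.zq⁻¹ := by
        refine (cls H.z' H.z'_mem hz'ne hcz').resolve_right fun hB => ?_
        rcases hA with eA | eA <;> obtain ⟨n1, n2⟩ := hne _ eA <;> rcases hB with eB | eB
        · exact n1 eB
        · exact n2 eB
        · exact n2 (eB.trans (inv_inv _).symm)
        · exact n1 eB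
      obtain ⟨a, ha⟩ := Bar.cover eC hφc hφ h2i (fun x => gena (h2c x) hB) q
      obtain ⟨b, hb⟩ := Bar.cover eC hφc hφ
        (ψ := (MulAut.conj f.uq).toMonoidHom.comp ψ1) ((MulAut.conj f.uq).injective.comp h1i)
        (fun x => genb (h1c x) hA) r
      rw [← ha, ← hb]
      show Commute (ψ2 a) (f.uq * (MulAut.conj f.uq (ψ1 b)) * f.uq⁻¹)
      rw [huu]
      exact (h12 b a).symm
  · have hse' : H.i * H.t * H.i = H.s * H.e :=
      hse.trans (map_mul H.psi S8ThreeLocal.sP S8ThreeLocal.eP)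
    obtain ⟨Sp⟩ := H.se_split hse'
    exact Sp.nonempty_iso hse'

end Cfsg.Agent.McLLoc
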