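import Cfsg.Agent.McLLoc.LocalAlt
import Cfsg.Agent.McLLoc.CentZ
import Cfsg.Agent.McLLoc.QuotAlt
import Cfsg.Agent.McLLoc.QuotSym
import Cfsg.Agent.McLLoc.Cover

/-!
# Assembly of the 3-local characterisation of `McL`
-/

set_option autoImplicit false

namespace Cfsg.Agent.McLLoc

/-- A group with a setting satisfying `CentFour` is `McL` or its automorphism group. -/
theorem mcl_of_setting {G : Type*} [Group G] [Finite G] (s : Setting G) (h4 : CentFour s) :
    Nonempty (G ≃* Cfsg.Spor.McL) ∨ Nonempty (G ≃* MulAut Cfsg.Spor.McL) := by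
  obtain ⟨f, F⟩ := exists_facts s h4
  exact F.mcl_of_quot ((cases F).imp (fun hA => ⟨hA, alt8 F hA⟩) fun hB => ⟨hB, sym8 F hB⟩)

end Cfsg.Agent.McLLoc
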