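import Cfsg.Agent.McLLoc.LocalM
import Cfsg.Agent.McLLoc.Four

/-!
# The action of the alternating group on `J`

Each 3-element outside `J` has a Jordan block of size 3, so `J` is the only abelian subgroup of order
`3 ^ 4` of `S` and an element of order 3 of `S` lies in `Q` or in `J`.
-/

set_option autoImplicit false
set_option linter.unusedSectionVars false

namespace Cfsg.Agent.McLLoc

open Subgroup
open scoped commutatorElement

variable {G : Type*} [Group G] [Finite G]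

/-- A map of `M` onto the alternating group with kernel `J` sending `S` to the named subgroup. -/
structure Chart (s : Setting G) where
  /-- The map. -/
  φ : s.M →* Six.Alt6
  surj : Function.Surjective φ
  ker : φ.ker = s.J.subgroupOf s.M
  mapS : ((s.S : Subgroup G).subgroupOf s.M).map φ = Six.P0

theorem Setting.nonempty_chart (s : Setting G) : Nonempty (Chart s) := by
  obtain ⟨φ, h1, h2, h3⟩ := s.exists_hom
  exact ⟨⟨φ, h1, h2, h3⟩⟩

namespace Chart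

variable {s : Setting G} (C : Chart s)

include C

theorem φ_eq_one {m : s.M} : C.φ m = 1 ↔ (m : G) ∈ s.J := by
  rw [← MonoidHom.mem_ker, C.ker, mem_subgroupOf]

theorem φ_mem_P0 {m : s.M} (h : (m : G) ∈ (s.S : Subgroup G)) : C.φ m ∈ Six.P0 :=
  C.mapS ▸ ⟨m, h, rfl⟩

/-- Conjugation of `M` on `J`. -/
def conjJ (s : Setting G) : s.M →* MulAut s.J :=
  (normalizerMonoidHom s.J).comp (inclusion s.M_le_normJ)

theorem conjJ_ker : C.φ.ker ≤ (conjJ s).ker := by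
  intro m hm
  rw [MonoidHom.mem_ker]
  apply MulEquiv.ext
  intro j
  apply Subtype.ext
  show (m : G) * j * (m : G)⁻¹ = j
  rw [(s.commute_J (C.φ_eq_one.1 hm) j.2).eq, mul_inv_cancel_right]

/-- The action on `J`. -/
noncomputable def ρ : Six.Alt6 →* MulAut s.J :=
  MonoidHom.liftOfSurjective C.φ C.surj ⟨conjJ s, C.conjJ_ker⟩

theorem ρ_apply (m : s.M) (j : s.J) : ((C.ρ (C.φ m) j : s.J) : G) = m * j * (m : G)⁻¹ := by
  have h : C.ρ (C.φ m) = conjJ s m :=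
    MonoidHom.liftOfRightInverse_comp_apply C.φ _ _ _ m
  rw [h]
  rfl

theorem ρ_injective : Function.Injective C.ρ := by
  rw [injective_iff_map_eq_one]
  intro p hp
  obtain ⟨m, rfl⟩ := C.surj p
  rw [C.φ_eq_one, ← s.centJ, mem_centralizer_iff]
  intro j hj
  have h := C.ρ_apply m ⟨j, hj⟩
  rw [hp] at h
  exact mul_inv_eq_iff_eq_mul.1 h.symm |>.symm

theorem ρ_comp (p q : Six.Alt6) (j : s.J) : C.ρ p (C.ρ q j) = C.ρ (p * q) j := by
  rw [map_mul]; rfl

theorem act {v w r : Six.Alt6} (hv : v * v = 1) (hw : w * w = 1) (hvw : v * w = w * v)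
    (hrv : r * v * r⁻¹ = w) (hrw : r * w * r⁻¹ = v * w) (hr : r * r * r = 1) (hv1 : v ≠ 1) :
    Four.Act (C.ρ v) (C.ρ w) (C.ρ r) where
  comm a b := Subtype.ext (s.commute_J a.2 b.2).eq
  cube a := Subtype.ext (s.hJexp a a.2)
  card := s.hJcard
  vv a := by rw [C.ρ_comp, hv, map_one]; rfl
  ww a := by rw [C.ρ_comp, hw, map_one]; rfl
  vw a := by rw [C.ρ_comp, C.ρ_comp, hvw]
  rv a := by rw [C.ρ_comp, C.ρ_comp, ← hrv, inv_mul_cancel_right]
  rw' a := by rw [C.ρ_comp, C.ρ_comp, C.ρ_comp, ← hrw, inv_mul_cancel_right]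
  rrr a := by rw [C.ρ_comp, C.ρ_comp, hr, map_one]; rfl
  ne := by
    by_contra h
    push Not at h
    exact hv1 (C.ρ_injective (by rw [map_one]; exact MulEquiv.ext h))

theorem exists_four {r : Six.Alt6} (hr : r ∈ Six.P0) (hr1 : r ≠ 1) :
    ∃ v w : Six.Alt6, v * v = 1 ∧ v ≠ 1 ∧ w ≠ v ∧ w * w = 1 ∧ v * w = w * v ∧
      Four.Act (C.ρ v) (C.ρ w) (C.ρ r) := by
  obtain ⟨i, j, rfl⟩ := Six.mem_P0.1 hr
  obtain ⟨v, h1, h2, h3, h4, h5⟩ := Six.four_of_three i j hr1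
  have hw : Six.el i j * v * (Six.el i j)⁻¹ * (Six.el i j * v * (Six.el i j)⁻¹) = 1 := by
    calc Six.el i j * v * (Six.el i j)⁻¹ * (Six.el i j * v * (Six.el i j)⁻¹)
        = Six.el i j * (v * v) * (Six.el i j)⁻¹ := by group
      _ = 1 := by rw [h1, mul_one, mul_inv_cancel]
  have hc := Six.el_cube i j
  exact ⟨v, _, h1, h2, h3, hw, h4, C.act h1 hw h4 rfl h5 hc h2⟩

theorem norm_ne {q j : G} (hq : q ∈ s.Q) (hqJ : q ∉ s.J) (hj : j ∈ s.J) (hjQ : j ∉ s.Q) :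
    j * (q * j * q⁻¹) * (q * (q * j * q⁻¹) * q⁻¹) ≠ 1 := by
  intro h
  let m : s.M := ⟨q, s.S_le_M (s.Q_le_S hq)⟩
  have hr1 : C.φ m ≠ 1 := fun hh => hqJ (C.φ_eq_one.1 hh)
  obtain ⟨v, w, -, -, -, -, -, hA⟩ := C.exists_four (C.φ_mem_P0 (m := m) (s.Q_le_S hq)) hr1
  let N : Subgroup s.J :=
    { carrier := {a | a * C.ρ (C.φ m) a * C.ρ (C.φ m) (C.ρ (C.φ m) a) = 1}
      mul_mem' := fun {a b} ha hb => by
        show a * b * _ * _ = 1
        let _ : CommGroup s.J := { (inferInstance : Group s.J) with mul_comm := hA.comm }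
        rw [map_mul, map_mul]
        calc a * b * (C.ρ (C.φ m) a * C.ρ (C.φ m) b) *
              (C.ρ (C.φ m) (C.ρ (C.φ m) a) * C.ρ (C.φ m) (C.ρ (C.φ m) b))
            = (a * C.ρ (C.φ m) a * C.ρ (C.φ m) (C.ρ (C.φ m) a)) *
              (b * C.ρ (C.φ m) b * C.ρ (C.φ m) (C.ρ (C.φ m) b)) := by
              ac_rfl
          _ = 1 := by rw [ha, hb, one_mul]
      one_mem' := by simp
      inv_mem' := fun {a} ha => by
        show a⁻¹ * _ * _ = 1
        let _ : CommGroup s.J := { (inferInstance : Group s.J) with mul_comm := hA.comm }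
        rw [map_inv, map_inv, ← mul_inv, ← mul_inv, ha, inv_one] }
  have hval : ∀ a : s.J, (a : G) * (q * a * q⁻¹) * (q * (q * a * q⁻¹) * q⁻¹) = 1 → a ∈ N := by
    intro a ha
    apply Subtype.ext
    simp only [Subgroup.coe_mul, C.ρ_apply, Subgroup.coe_one]
    exact ha
  have hE : ∀ a : s.J, (a : G) ∈ s.Q → a ∈ N := by
    intro a ha
    apply hval
    have hz := s.comm_mem_Z hq ha
    have h1 : q * a * q⁻¹ = ⁅q, (a : G)⁆ * a := by rw [commutatorElement_def]; group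
    have h2 : Commute q ⁅q, (a : G)⁆ := (s.commute_Z hz (s.Q_le_S hq)).symm
    have h3 : Commute (a : G) ⁅q, (a : G)⁆ := (s.commute_Z hz (s.hJS a.2)).symm
    set z := ⁅q, (a : G)⁆
    rw [h1]
    have h4 : q * (z * a) * q⁻¹ = z * (z * a) := by
      calc q * (z * a) * q⁻¹ = (q * z) * a * q⁻¹ := by group
        _ = z * (q * a * q⁻¹) := by rw [h2.eq]; group
        _ = z * (z * a) := by rw [h1]
    rw [h4]
    calc (a : G) * (z * a) * (z * (z * a)) = z ^ 3 * (a : G) ^ 3 := by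
          simp only [pow_succ, pow_zero, one_mul, mul_assoc]
          rw [h3.left_comm, h3.left_comm, h3.left_comm, h3.left_comm, h3.left_comm]
      _ = 1 := by rw [s.hJexp a a.2, s.hQexp z (s.Z_le_Q hz), one_mul]
  have htop : N = ⊤ := by
    apply eq_top_of_card_eq
    have hd : Nat.card N ∣ 3 ^ 4 := s.hJcard ▸ card_subgroup_dvd_card _
    obtain ⟨k, hk4, hk⟩ := (Nat.dvd_prime_pow Nat.prime_three).1 hd
    have hlt : 3 ^ 3 < Nat.card N := by
      rw [← s.card_QJ]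
      have hsub : (s.Q ⊓ s.J) ≤ N.map s.J.subtype := fun x hx =>
        ⟨⟨x, hx.2⟩, hE _ hx.1, rfl⟩
      rw [← card_map_of_injective s.J.subtype_injective (K := N)]
      rcases (card_le_of_le hsub).lt_or_eq with hl | he
      · exact hl
      · exfalso
        have hjN : j ∈ N.map s.J.subtype := ⟨⟨j, hj⟩, hval _ h, rfl⟩
        rw [← eq_of_le_of_card_ge hsub he.ge] at hjN
        exact hjQ hjN.1
    rw [hk] at hlt ⊢
    have := (Nat.pow_lt_pow_iff_right (by norm_num : 1 < 3)).1 hlt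
    rw [s.hJcard, show k = 4 by omega]
  obtain ⟨a, ha⟩ := Four.not_quadratic hA
  exact ha (show a ∈ N from htop ▸ mem_top a)

theorem fixed_le {r : Six.Alt6} (hr : r ∈ Six.P0) (hr1 : r ≠ 1) (A : Subgroup G) (hA : A ≤ s.J)
    (hfix : ∀ a : s.J, (a : G) ∈ A → C.ρ r a = a) : Nat.card A ≤ 9 := by
  obtain ⟨v, w, -, -, -, -, -, hact⟩ := C.exists_four hr hr1
  refine le_trans ?_ (Four.card_fixed_r hact)
  exact Nat.card_le_card_of_injective (fun a : A => (⟨⟨a, hA a.2⟩, hfix _ a.2⟩ :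
    {a : s.J // C.ρ r a = a})) fun a b h => Subtype.ext (congrArg (fun x => ((x.1 : s.J) : G)) h)

theorem J_unique {A : Subgroup G} (hA : A ≤ s.S) (hc : IsMulCommutative A)
    (hcard : Nat.card A = 3 ^ 4) : A = s.J := by
  refine eq_of_le_of_card_ge ?_ (by rw [hcard, s.hJcard])
  have hAM : A ≤ s.M := hA.trans s.S_le_M
  by_contra hne
  obtain ⟨a, ha, haJ⟩ := SetLike.not_le_iff_exists.1 hne
  have hcm : ∀ x ∈ A, ∀ y ∈ A, Commute x y := fun x hx y hy =>
    congrArg Subtype.val (mul_comm' (⟨x, hx⟩ : A) ⟨y, hy⟩)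
  let f : A →* Six.Alt6 := C.φ.comp (inclusion hAM)
  have hr : C.φ ⟨a, hAM ha⟩ ≠ 1 := fun h => haJ (C.φ_eq_one.1 h)
  have hfix : ∀ x : s.J, (x : G) ∈ A ⊓ s.J → ∀ m : s.M, (m : G) ∈ A → C.ρ (C.φ m) x = x := by
    intro x hx m hm
    apply Subtype.ext
    rw [C.ρ_apply, (hcm _ hm _ hx.1).eq, mul_inv_cancel_right]
  have h9 := C.fixed_le (C.φ_mem_P0 (m := ⟨a, hAM ha⟩) (hA ha)) hr (A ⊓ s.J) inf_le_right
    fun x hx => hfix x hx ⟨a, hAM ha⟩ ha
  have hker : f.ker = (A ⊓ s.J).subgroupOf A := by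
    ext x
    rw [MonoidHom.mem_ker, mem_subgroupOf]
    exact (C.φ_eq_one (m := inclusion hAM x)).trans ⟨fun h => ⟨x.2, h⟩, fun h => h.2⟩
  have hrange : f.range ≤ Six.P0 := by
    rintro _ ⟨x, rfl⟩
    exact C.φ_mem_P0 (hA x.2)
  have hmul := card_eq_card_quotient_mul_card_subgroup f.ker
  rw [Nat.card_congr (QuotientGroup.quotientKerEquivRange f).toEquiv, hker,
    Nat.card_congr (subgroupOfEquivOfLe inf_le_left).toEquiv, hcard] at hmul
  have hr9 : Nat.card f.range ≤ 9 := Six.card_P0 ▸ card_le_of_le hrange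
  have heq : f.range = Six.P0 := eq_of_le_of_card_ge hrange (by rw [Six.card_P0]; nlinarith)
  have h9' : Nat.card (A ⊓ s.J : Subgroup G) = 9 := by
    rw [heq, Six.card_P0] at hmul
    omega
  have hsub : A ⊓ s.J ≤ s.Z := by
    intro x hx
    rw [s.hZ]
    refine ⟨hA hx.1, mem_centralizer_iff.2 fun g hg => ?_⟩
    obtain ⟨b, hb⟩ : C.φ ⟨g, s.S_le_M hg⟩ ∈ f.range := heq ▸ C.φ_mem_P0 hg
    have hb' : C.φ (inclusion hAM b) = C.φ ⟨g, s.S_le_M hg⟩ := hb
    have h := hfix ⟨x, hx.2⟩ hx (inclusion hAM b) b.2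
    rw [hb'] at h
    have h' := congrArg Subtype.val h
    rw [C.ρ_apply] at h'
    exact mul_inv_eq_iff_eq_mul.1 h'
  have := card_le_of_le hsub
  rw [h9', s.card_Z] at this
  norm_num at this

theorem mem_of_cube {g : G} (hg : g ∈ (s.S : Subgroup G)) (h3 : g ^ 3 = 1) :
    g ∈ s.Q ∨ g ∈ s.J := by
  obtain ⟨q, hq, j, hj, rfl⟩ := s.mem_S_iff hg
  by_cases hqJ : q ∈ s.J
  · exact Or.inr (mul_mem hqJ hj)
  by_cases hjQ : j ∈ s.Q
  · exact Or.inl (mul_mem hq hjQ)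
  exfalso
  have hq3 : q * q * q = 1 := by simpa [pow_succ] using s.hQexp q hq
  have hj' : q * j * q⁻¹ ∈ s.J := (mem_normalizer_iff.1 (s.S_le_normJ (s.Q_le_S hq)) j).1 hj
  have hj'' : q * (q * j * q⁻¹) * q⁻¹ ∈ s.J :=
    (mem_normalizer_iff.1 (s.S_le_normJ (s.Q_le_S hq)) _).1 hj'
  refine C.norm_ne hq hqJ hj hjQ ?_
  calc j * (q * j * q⁻¹) * (q * (q * j * q⁻¹) * q⁻¹)
      = (q * j * q⁻¹) * (q * (q * j * q⁻¹) * q⁻¹) * j := by
        rw [mul_assoc, (s.commute_J hj (mul_mem hj' hj'')).eq]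
    _ = (q * j * q⁻¹) * (q * (q * j * q⁻¹) * q⁻¹) * ((q * q * q) * j * (q * q * q)⁻¹) := by
        rw [hq3]; simp
    _ = (q * j) * (q * j) * (q * j) * (q * q * q)⁻¹ := by group
    _ = 1 := by
        rw [hq3, inv_one, mul_one]
        simpa [pow_succ] using h3

theorem comm_comm_ne {q j : G} (hq : q ∈ s.Q) (hqJ : q ∉ s.J) (hj : j ∈ s.J) (hjQ : j ∉ s.Q) :
    ⁅⁅j, q⁆, q⁆ ≠ 1 := by
  intro h
  have hn := s.S_le_normJ (s.Q_le_S hq)
  have h1 : q * j * q⁻¹ ∈ s.J := (mem_normalizer_iff.1 hn j).1 hj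
  have h2 : q * (q * j * q⁻¹) * q⁻¹ ∈ s.J := (mem_normalizer_iff.1 hn _).1 h1
  refine C.norm_ne hq hqJ hj hjQ ?_
  set a := q * j * q⁻¹ with ha
  set b := q * a * q⁻¹ with hb
  have he : ⁅⁅j, q⁆, q⁆ = j * a⁻¹ * (b * a⁻¹) := by
    simp only [commutatorElement_def, ha, hb]
    group
  rw [he] at h
  have h3 : a * a * a = 1 := by simpa [pow_succ] using s.hJexp a h1
  have h4 : a = a⁻¹ * a⁻¹ := by
    rw [← mul_inv_rev, eq_inv_iff_mul_eq_one, ← mul_assoc, h3]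
  calc j * a * b = j * (a * b) := mul_assoc _ _ _
    _ = j * (a⁻¹ * a⁻¹ * b) := by rw [← h4]
    _ = j * a⁻¹ * (b * a⁻¹) := by
        rw [mul_assoc a⁻¹, (s.commute_J (inv_mem h1) h2).eq, ← mul_assoc j]
    _ = 1 := h

end Chart

end Cfsg.Agent.McLLoc
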