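import Cfsg.Agent.McLLoc.LocalFacts

/-!
# No element of order 3 centralises an alternating group of degree 5; all facts
-/

set_option autoImplicit false
set_option linter.unusedSectionVars false

namespace Cfsg.Agent.McLLoc

open Subgroup
open scoped commutatorElement Pointwise

variable {G : Type*} [Group G] [Finite G] {s : Setting G}

theorem alt5_generated {D : Subgroup G} (e : D ≃* alternatingGroup (Fin 5)) {H : Subgroup G}
    (h : ∀ d ∈ D, d ^ 3 = 1 → d ∈ H) : D ≤ H := by
  intro d hd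
  have hs : IsSimpleGroup D := MulEquiv.isSimpleGroup e
  let N : Subgroup D := closure {a : D | a ^ 3 = 1}
  have hN : N.Normal := by
    rw [← normalizer_eq_top_iff, eq_top_iff]
    intro g _
    have key : ∀ g : D, N.map (MulAut.conj g).toMonoidHom ≤ N := by
      intro g
      rw [MonoidHom.map_closure, closure_le]
      rintro _ ⟨a, ha, rfl⟩
      refine subset_closure ?_
      show ((MulAut.conj g).toMonoidHom a) ^ 3 = 1
      rw [← map_pow, show a ^ 3 = 1 from ha, map_one]
    rw [mem_normalizer_iff]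
    intro a
    refine ⟨fun ha => key g ⟨a, ha, rfl⟩, fun ha => ?_⟩
    have := key g⁻¹ ⟨_, ha, rfl⟩
    simpa [mul_assoc] using this
  have hne : N ≠ ⊥ := by
    intro hb
    obtain ⟨a, ha⟩ := exists_prime_orderOf_dvd_card' (G := D) 3 (by
      rw [Nat.card_congr e.toEquiv, nat_card_alternatingGroup, Nat.card_fin]; decide)
    have : a ∈ N := subset_closure (by
      show a ^ 3 = 1
      rw [← ha]; exact pow_orderOf_eq_one a)
    rw [hb, mem_bot] at this
    rw [this, orderOf_one] at ha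
    norm_num at ha
  have hle : N.map D.subtype ≤ H := by
    rw [MonoidHom.map_closure, closure_le]
    rintro _ ⟨a, ha, rfl⟩
    exact h a a.2 (congrArg Subtype.val (show a ^ 3 = 1 from ha))
  rcases hN.eq_bot_or_eq_top with hb | ht
  · exact absurd hb hne
  · exact hle ⟨⟨d, hd⟩, ht ▸ mem_top _, rfl⟩

theorem alt5_inf_bot {D : Subgroup G} (e : D ≃* alternatingGroup (Fin 5)) {H : Subgroup G}
    (hH : IsPGroup 3 H) (hn : D ≤ normalizer (H : Set G)) : D ⊓ H = ⊥ := by
  have hs : IsSimpleGroup D := MulEquiv.isSimpleGroup e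
  rcases (normal_subgroupOf_of_le_normalizer (N := H) (H := D) hn).eq_bot_or_eq_top with h | h
  · rw [subgroupOf_eq_bot, disjoint_comm, disjoint_iff] at h
    exact h
  · exfalso
    rw [subgroupOf_eq_top] at h
    have hp := hH.to_le h
    obtain ⟨k, hk⟩ := IsPGroup.iff_card.1 hp
    rw [Nat.card_congr e.toEquiv, nat_card_alternatingGroup, Nat.card_fin] at hk
    have h2 : 2 ∣ 3 ^ k := hk ▸ (by decide)
    exact absurd (Nat.prime_two.dvd_of_dvd_pow h2) (by norm_num)

namespace Lift

variable {C : Chart s} (l : Lift C) (z : G) (hz : zpowers z = s.Z) (hz1 : z ≠ 1)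

include l hz hz1

theorem no_alt5_centZ {D : Subgroup G} (e : D ≃* alternatingGroup (Fin 5))
    (hD : D ≤ centralizer (s.Z : Set G)) : False := by
  have := s.hQn
  have hDL : D ≤ s.L := alt5_generated e fun d hd h3 => by
    rw [s.hL]
    refine subset_closure ⟨s.cent_le_normZ (hD hd), ?_⟩
    rcases (Nat.dvd_prime Nat.prime_three).1 (orderOf_dvd_of_pow_eq_one h3) with h | h
    · exact ⟨0, by simpa using h⟩
    · exact ⟨1, by simpa using h⟩
  have hbot := alt5_inf_bot e s.Q_isPGroup (hD.trans (s.cent_le_normZ.trans s.normZ_le_normQ))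
  obtain ⟨eL⟩ := s.hLq
  let π : D →* Six.SL25 :=
    (eL.toMonoidHom.comp (QuotientGroup.mk' (s.Q.subgroupOf s.L))).comp (inclusion hDL)
  have hπ : Function.Injective π := by
    rw [injective_iff_map_eq_one]
    intro a ha
    have h1 : (a : G) ∈ s.Q := by simpa [π, mem_subgroupOf] using ha
    have h2 : (a : G) ∈ D ⊓ s.Q := ⟨a.2, h1⟩
    rw [hbot, mem_bot] at h2
    exact Subtype.ext h2
  obtain ⟨v, w, r, hv, hw, hv1, hne, hvw, hrv, -⟩ := Six.alt5_four_three
  have hw1 : w ≠ 1 := by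
    intro h
    rw [h] at hrv
    exact hv1 (by
      calc v = r⁻¹ * (r * v * r⁻¹) * r := by group
        _ = 1 := by rw [hrv]; group)
  have hev : e.symm v ≠ 1 := fun h => hv1 (by rwa [MulEquiv.map_eq_one_iff] at h)
  have hew : e.symm w ≠ 1 := fun h => hw1 (by rwa [MulEquiv.map_eq_one_iff] at h)
  have := Six.eq_of_sq (π (e.symm v)) (π (e.symm w))
    (by rw [← map_mul, ← map_mul, hv, map_one, map_one])
    (fun h => hev (hπ (h.trans (map_one π).symm)))
    (by rw [← map_mul, ← map_mul, hw, map_one, map_one])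
    (fun h => hew (hπ (h.trans (map_one π).symm)))
  exact hne (e.symm.injective (hπ this))

theorem no_alt5_normJ {D : Subgroup G} (e : D ≃* alternatingGroup (Fin 5)) {j : G} (hj : j ∈ s.J)
    (hj1 : j ≠ 1) (hD : D ≤ centralizer ({j} : Set G)) (hDN : D ≤ normalizer (s.J : Set G)) :
    False := by
  have := s.hJn
  have hDM : D ≤ s.M := alt5_generated e fun d hd h3 => by
    rcases (Nat.dvd_prime Nat.prime_three).1 (orderOf_dvd_of_pow_eq_one h3) with h | h
    · exact s.mem_M (hDN hd) (k := 0) (by simpa using h)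
    · exact s.mem_M (hDN hd) (k := 1) (by simpa using h)
  have hbot := alt5_inf_bot e (IsPGroup.of_card s.hJcard) hDN
  let π : D →* Six.Alt6 := C.φ.comp (inclusion hDM)
  have hπ : Function.Injective π := by
    rw [injective_iff_map_eq_one]
    intro a ha
    have h2 : (a : G) ∈ D ⊓ s.J := ⟨a.2, (C.φ_eq_one (m := inclusion hDM a)).1 ha⟩
    rw [hbot, mem_bot] at h2
    exact Subtype.ext h2
  let jj : s.J := ⟨j, hj⟩
  have hfix : ∀ a : D, C.ρ (π a) jj = jj := fun a =>
    (ρ_fix (hDM a.2) rfl jj).2 (mem_centralizer_singleton_iff.1 (hD a.2))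
  -- the subgroup stabilising the line of `j`
  let K : Subgroup Six.Alt6 :=
    { carrier := {p | C.ρ p jj = jj ∨ C.ρ p jj = jj⁻¹}
      mul_mem' := by
        intro a b ha hb
        show C.ρ (a * b) jj = jj ∨ C.ρ (a * b) jj = jj⁻¹
        rw [← C.ρ_comp]
        rcases hb with h | h <;> rw [h] <;> rcases ha with h' | h' <;> simp [h']
      one_mem' := Or.inl (by rw [map_one]; rfl)
      inv_mem' := by
        intro a ha
        rcases ha with h | h
        · exact Or.inl (by nth_rewrite 1 [← h]; rw [C.ρ_comp, inv_mul_cancel, map_one]; rfl)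
        · refine Or.inr ?_
          apply (C.ρ a).injective
          rw [C.ρ_comp, mul_inv_cancel, map_one, map_inv, h, inv_inv]
          rfl }
  obtain ⟨v, w, r, hv, hw, hv1, hne, hvw, hrv, hrw, hr⟩ := Six.alt5_four_three
  have hw1 : w ≠ 1 := by
    intro h
    rw [h] at hrv
    exact hv1 (by
      calc v = r⁻¹ * (r * v * r⁻¹) * r := by group
        _ = 1 := by rw [hrv]; group)
  let σ : alternatingGroup (Fin 5) →* Six.Alt6 := π.comp e.symm.toMonoidHom
  have hσ : Function.Injective σ := hπ.comp e.symm.injective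
  have hA : Four.Act (C.ρ (σ v)) (C.ρ (σ w)) (C.ρ (σ r)) :=
    C.act (by rw [← map_mul, hv, map_one]) (by rw [← map_mul, hw, map_one])
      (by rw [← map_mul, ← map_mul, hvw]) (by rw [← map_inv, ← map_mul, ← map_mul, hrv])
      (by rw [← map_inv, ← map_mul, ← map_mul, hrw, map_mul])
      (by rw [← map_mul, ← map_mul, hr, map_one])
      (fun h => hv1 (hσ (h.trans (map_one σ).symm)))
  have hfv : C.ρ (σ v) jj = jj ∧ C.ρ (σ w) jj = jj := ⟨hfix _, hfix _⟩
  have hgen := (C.fix_of_four hA jj hfv).2 (fun h => hj1 (congrArg Subtype.val h))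
  obtain ⟨h, h4, h2, hhv, hhw⟩ := Six.exists_four_normal (v := σ v) (w := σ w)
    (by rw [← map_mul, hv, map_one]) (by rw [← map_mul, hw, map_one])
    (fun h => hv1 (hσ (h.trans (map_one σ).symm))) (fun h => hw1 (hσ (h.trans (map_one σ).symm)))
    (fun h => hne (hσ h)) (by rw [← map_mul, ← map_mul, hvw])
  have hhK : h ∈ K := by
    have key : ∀ a : Six.Alt6, (h * a * h⁻¹ = σ v ∨ h * a * h⁻¹ = σ w ∨ h * a * h⁻¹ = σ v * σ w) →
        C.ρ a (C.ρ h⁻¹ jj) = C.ρ h⁻¹ jj := by
      intro a ha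
      have e1 : C.ρ (h * a * h⁻¹) jj = jj := by
        rcases ha with e | e | e <;> rw [e]
        · exact hfv.1
        · exact hfv.2
        · rw [← C.ρ_comp, hfv.2, hfv.1]
      apply (C.ρ h).injective
      rw [C.ρ_comp h h⁻¹, mul_inv_cancel, map_one]
      rw [C.ρ_comp, C.ρ_comp, e1]
      rfl
    have hm := hgen _ (key _ hhv) (key _ hhw)
    obtain ⟨k, hk⟩ := mem_zpowers_iff.1 hm
    have hinv : h⁻¹ ∈ K := by
      show C.ρ h⁻¹ jj = jj ∨ C.ρ h⁻¹ jj = jj⁻¹
      have h3 : jj ^ 3 = 1 := Subtype.ext (s.hJexp j hj)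
      have hj1' : jj ≠ 1 := fun h => hj1 (congrArg Subtype.val h)
      rw [← hk, ← zpow_mod_orderOf, orderOf_eq_prime h3 hj1']
      rcases (by omega : k % (3 : ℕ) = 0 ∨ k % (3 : ℕ) = 1 ∨ k % (3 : ℕ) = 2) with h' | h' | h'
      · exfalso
        have : C.ρ h⁻¹ jj = 1 := by
          rw [← hk, ← zpow_mod_orderOf, orderOf_eq_prime h3 hj1', h', zpow_zero]
        exact hj1' ((C.ρ h⁻¹).injective (this.trans (map_one _).symm))
      · rw [h']; exact Or.inl (zpow_one _)
      · rw [h']
        refine Or.inr (eq_inv_of_mul_eq_one_left ?_)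
        rw [show ((2 : ℤ)) = ((2 : ℕ) : ℤ) from rfl, zpow_natCast, ← pow_succ, h3]
    simpa using inv_mem hinv
  have hDK : π.range ≤ K := by
    rintro _ ⟨a, rfl⟩
    exact Or.inl (hfix a)
  have hhD : h ∉ π.range := by
    rintro ⟨a, ha⟩
    apply h2
    have h5 := Six.alt5_no_four (e a) (by
      rw [← map_pow, MulEquiv.map_eq_one_iff]
      exact hπ (by rw [map_pow, ha, h4, map_one]))
    rw [← map_pow, MulEquiv.map_eq_one_iff] at h5
    rw [← ha, ← map_pow, h5, map_one]
  have hcardD : Nat.card π.range = 60 := by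
    rw [← Nat.card_congr (MonoidHom.ofInjective hπ).toEquiv, Nat.card_congr e.toEquiv,
      nat_card_alternatingGroup, Nat.card_fin]
    rfl
  have hlt : 60 < Nat.card K := by
    rcases (hcardD ▸ card_le_of_le hDK : 60 ≤ Nat.card K).lt_or_eq with h' | h'
    · exact h'
    · exact absurd (eq_of_le_of_card_ge hDK (by rw [hcardD, ← h']) ▸ hhK) hhD
  have htop : K = ⊤ := by
    by_contra hne'
    have h6 := Six.six_le_index K hne'
    have hmul := card_mul_index K
    rw [Six.card_alt6] at hmul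
    nlinarith
  have hcube : ∀ p : Six.Alt6, p * p * p = 1 → C.ρ p jj = jj := by
    intro p hp
    rcases (htop ▸ mem_top p : p ∈ K) with h' | h'
    · exact h'
    · have : C.ρ (p * p * p) jj = jj⁻¹ := by
        rw [← C.ρ_comp, ← C.ρ_comp, h', map_inv, h', inv_inv, h']
      rw [hp, map_one] at this
      exact h'.trans this.symm
  have hjZ : j ∈ s.Z := by
    rw [s.hZ]
    refine ⟨s.hJS hj, mem_centralizer_iff.2 fun a ha => ?_⟩
    obtain ⟨i, k, hik⟩ := Six.mem_P0.1 (C.φ_mem_P0 (m := ⟨a, s.S_le_M ha⟩) ha)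
    exact ((ρ_fix (s.S_le_M ha) hik.symm jj).1 (hcube _ (Six.el_cube i k))).eq
  refine l.u_not_Z hjZ hj1 ?_
  have h' := congrArg Subtype.val (show C.ρ Six.pu jj = C.ρ Six.pu jj from rfl)
  rcases (htop ▸ mem_top Six.pu : Six.pu ∈ K) with hu | hu <;>
    have hu' := congrArg Subtype.val hu <;>
    rw [← l.φu, C.ρ_apply] at hu'
  · rw [hu']; exact hjZ
  · rw [hu']; exact inv_mem hjZ

theorem no_alt5 (h4 : CentFour s) (v : G) (hv : orderOf v = 3) (D : Subgroup G)
    (hD : D ≤ centralizer ({v} : Set G)) : IsEmpty (D ≃* alternatingGroup (Fin 5)) := by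
  refine ⟨fun e => ?_⟩
  obtain ⟨g, hg⟩ := l.exists_conj_into_J (s := s) (v := v) (by rw [← hv]; exact pow_orderOf_eq_one v)
  have hw1 : g * v * g⁻¹ ≠ 1 := fun h => by
    rw [mul_inv_eq_one, mul_eq_left] at h
    rw [h, orderOf_one] at hv
    norm_num at hv
  have hconj : ∀ a : G, D.map (MulAut.conj a).toMonoidHom ≤ centralizer ({a * v * a⁻¹} : Set G) := by
    rintro a _ ⟨d, hd, rfl⟩
    rw [mem_centralizer_singleton_iff, MulEquiv.coe_toMonoidHom, MulAut.conj_apply]
    calc a * d * a⁻¹ * (a * v * a⁻¹) = a * (d * v) * a⁻¹ := by group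
      _ = a * (v * d) * a⁻¹ := by rw [mem_centralizer_singleton_iff.1 (hD hd)]
      _ = a * v * a⁻¹ * (a * d * a⁻¹) := by group
  have he : ∀ a : G, Nonempty ((D.map (MulAut.conj a).toMonoidHom : Subgroup G) ≃*
      alternatingGroup (Fin 5)) := fun a =>
    ⟨(D.equivMapOfInjective _ (MulAut.conj a).injective).symm.trans e⟩
  rcases l.dichotomy z hz hz1 h4 hg hw1 with ⟨k, -, hk⟩ | hle
  · obtain ⟨e'⟩ := he (k * g)
    refine l.no_alt5_centZ z hz hz1 e' ?_
    have hne : k * (g * v * g⁻¹) * k⁻¹ ≠ 1 := fun h => hw1 (by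
      rwa [mul_inv_eq_one, mul_eq_left] at h)
    have hgen : zpowers (k * (g * v * g⁻¹) * k⁻¹) = s.Z := eq_of_le_of_card_ge (zpowers_le.2 hk) (by
      rw [s.card_Z, Nat.card_zpowers, orderOf_eq_prime (s.hJexp _ (s.Z_le_J hk)) hne])
    rw [s.cent_gen hgen, show k * (g * v * g⁻¹) * k⁻¹ = k * g * v * (k * g)⁻¹ by group]
    exact hconj _
  · obtain ⟨e'⟩ := he g
    exact l.no_alt5_normJ z hz hz1 e' hg hw1 (hconj g) ((hconj g).trans hle)

theorem facts (h4 : CentFour s) : Facts (l.frame z hz hz1) where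
  card_S := (l.base z hz hz1).card_S
  S_eq := (l.base z hz hz1).S_eq
  card_Z := (l.base z hz hz1).card_Z
  Z_le_QJ := (l.base z hz hz1).Z_le_QJ
  card_QJ := (l.base z hz hz1).card_QJ
  z'_notQ := (l.base z hz hz1).z'_notQ
  centJ := (l.base z hz hz1).centJ
  centQ := (l.base z hz hz1).centQ
  centQt := (l.base z hz hz1).centQt
  J_unique := (l.base z hz hz1).J_unique
  aniso := (l.base z hz hz1).aniso
  c_S := (l.base z hz hz1).c_S
  t_S := (l.base z hz hz1).t_S
  cent_y := (l.y_cent z hz hz1 h4).1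
  cent_y' := (l.y_cent z hz hz1 h4).2
  not_fused g hg := l.not_fused z hz hz1 h4 g (by
    rw [← l.closure_eq_CJt (hz ▸ mem_zpowers z) hz1]; exact hg)
  no_core := l.no_core z hz hz1 h4
  no_alt5 := fun v hv D hD => l.no_alt5 z hz hz1 h4 v hv D hD

end Lift

/-- All facts hold for a suitable frame. -/
theorem exists_facts (s : Setting G) (h4 : CentFour s) : ∃ f : Frame s, Facts f := by
  obtain ⟨C⟩ := s.nonempty_chart
  obtain ⟨l⟩ := C.nonempty_lift
  obtain ⟨z, hz, -, hz1⟩ := s.exists_generator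
  exact ⟨l.frame z hz hz1, l.facts z hz hz1 h4⟩

end Cfsg.Agent.McLLoc
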