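import Cfsg.Agent.McLLoc.Defs
import Cfsg.Agent.McLLoc.Six
import Cfsg.Agent.Core.PCore

/-!
# The orders of the 3-subgroups, `S = QJ`, `C(J) = J`, `C(Q) = Z`
-/

set_option autoImplicit false
set_option linter.unusedSectionVars false

namespace Cfsg.Agent.McLLoc

open Subgroup
open scoped commutatorElement

variable {G : Type*} [Group G] [Finite G]

theorem core3_le (H : Subgroup G) : core3 H ≤ H := map_subtype_le _

theorem core3_isPGroup (H : Subgroup G) : IsPGroup 3 (core3 H) := Core.pCore_isPGroup.map _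

theorem le_core3 {H N : Subgroup G} (h : N ≤ H) (hn : H ≤ normalizer (N : Set G))
    (hp : IsPGroup 3 N) : N ≤ core3 H := fun x hx =>
  ⟨⟨x, h hx⟩, (@Core.le_pCore _ _ 3 (N.subgroupOf H) (normal_subgroupOf_of_le_normalizer hn)
    (hp.comap_of_injective H.subtype H.subtype_injective))
    (show (⟨x, h hx⟩ : H) ∈ N.subgroupOf H from hx), rfl⟩

theorem le_normalizer_core3 (H : Subgroup G) : H ≤ normalizer (core3 H : Set G) := by
  intro g hg
  rw [mem_normalizer_iff]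
  intro x
  constructor
  · rintro ⟨y, hy, rfl⟩
    exact ⟨⟨g, hg⟩ * y * ⟨g, hg⟩⁻¹, (Core.pCore_normal (p := 3) (G := H)).conj_mem y hy _, rfl⟩
  · rintro ⟨y, hy, he⟩
    refine ⟨⟨g, hg⟩⁻¹ * y * (⟨g, hg⟩⁻¹)⁻¹,
      (Core.pCore_normal (p := 3) (G := H)).conj_mem y hy _, ?_⟩
    have he' : (y : G) = g * x * g⁻¹ := he
    simp [he', mul_assoc]

theorem eq_one_of_three {g : G} {k : ℕ} (h3 : orderOf g = 3 ^ k) (hco : ¬ 3 ∣ orderOf g) :
    g = 1 := by
  rcases k with _ | k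
  · exact orderOf_eq_one_iff.1 (by simpa using h3)
  · exact absurd (by rw [h3]; exact dvd_pow_self 3 (by omega)) hco

namespace Setting

variable (s : Setting G)

theorem Z_le_S : s.Z ≤ s.S := s.hZ.le.trans inf_le_left

theorem commute_Z {z g : G} (hz : z ∈ s.Z) (hg : g ∈ (s.S : Subgroup G)) : Commute z g :=
  ((mem_centralizer_iff.1 (s.hZ.le hz).2) g hg).symm

theorem exists_orderOf {g : G} (hg : g ∈ (s.S : Subgroup G)) : ∃ k, orderOf g = 3 ^ k := by
  obtain ⟨k, hk⟩ := IsPGroup.iff_orderOf.1 s.S.2 ⟨g, hg⟩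
  exact ⟨k, by rw [← hk, Subgroup.orderOf_mk]⟩

theorem S_le_cent : (s.S : Subgroup G) ≤ centralizer (s.Z : Set G) := fun _ hg =>
  mem_centralizer_iff.2 fun _ hz => (s.commute_Z hz hg).eq

omit [Finite G] in
theorem cent_le_normZ : centralizer (s.Z : Set G) ≤ normalizer (s.Z : Set G) :=
  centralizer_le_normalizer _

theorem S_le_L : (s.S : Subgroup G) ≤ s.L := fun _ hg =>
  s.hL ▸ subset_closure ⟨s.cent_le_normZ (s.S_le_cent hg), s.exists_orderOf hg⟩

theorem card_L : Nat.card s.L = 3 ^ 5 * 120 := by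
  have := s.hQn
  obtain ⟨e⟩ := s.hLq
  rw [card_eq_card_quotient_mul_card_subgroup (s.Q.subgroupOf s.L), Nat.card_congr e.toEquiv,
    Six.card_SL25, Nat.card_congr (subgroupOfEquivOfLe s.hQL).toEquiv, s.hQcard,
    mul_comm]

theorem card_S : Nat.card (s.S : Subgroup G) = 3 ^ 6 := by
  obtain ⟨k, hk⟩ := IsPGroup.iff_card.1 s.S.2
  have h1 : 3 ^ k ∣ 3 ^ 6 * 40 := by
    rw [← hk, show 3 ^ 6 * 40 = 3 ^ 5 * 120 by norm_num, ← s.card_L]
    exact card_dvd_of_le s.S_le_L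
  have hk6 : k ≤ 6 := by
    by_contra hh
    have h7 : 3 ^ 7 ∣ 3 ^ 6 * 40 := (pow_dvd_pow 3 (by omega : 7 ≤ k)).trans h1
    norm_num at h7
  obtain ⟨P, hP⟩ := Sylow.exists_subgroup_card_pow_prime (G := s.L) 3 (n := 6)
    (by rw [s.card_L]; norm_num)
  obtain ⟨T, hT⟩ := (IsPGroup.of_card (by rw [card_map_of_injective s.L.subtype_injective, hP]) :
    IsPGroup 3 (P.map s.L.subtype)).exists_le_sylow
  have h2 : 3 ^ 6 ∣ Nat.card (T : Subgroup G) := by
    have := card_dvd_of_le hT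
    rwa [card_map_of_injective s.L.subtype_injective, hP] at this
  rw [T.card_eq_multiplicity, ← s.S.card_eq_multiplicity, hk] at h2
  have : 6 ≤ k := (Nat.pow_dvd_pow_iff_le_right (by norm_num)).1 h2
  rw [hk, le_antisymm hk6 this]

theorem normZ_le_normQ : normalizer (s.Z : Set G) ≤ normalizer (s.Q : Set G) :=
  s.hQ ▸ le_normalizer_core3 _

theorem Q_isPGroup : IsPGroup 3 s.Q := IsPGroup.of_card s.hQcard

theorem Q_le_S : s.Q ≤ s.S := by
  have h := IsPGroup.to_sup_of_normal_right' s.S.2 s.Q_isPGroup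
    ((s.S_le_cent.trans s.cent_le_normZ).trans s.normZ_le_normQ)
  exact le_sup_right.trans (s.S.is_maximal' h le_sup_left).le

theorem Z_le_Q : s.Z ≤ s.Q := by
  rw [s.hQ]
  exact le_core3 le_normalizer le_rfl (s.S.2.to_le s.Z_le_S)

theorem card_Z : Nat.card s.Z = 3 := by
  have hne : s.Z ≠ ⊥ := by
    intro h
    have hS : Nontrivial (s.S : Subgroup G) :=
      (Finite.one_lt_card_iff_nontrivial).1 (by rw [s.card_S]; norm_num)
    obtain ⟨⟨z, hz⟩, hz1⟩ := (nontrivial_iff_exists_ne (1 : center (s.S : Subgroup G))).1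
      s.S.2.center_nontrivial
    have : (z : G) ∈ s.Z := by
      rw [s.hZ]
      exact ⟨z.2, mem_centralizer_iff.2 fun g hg => congrArg Subtype.val
        (Subgroup.mem_center_iff.1 hz ⟨g, hg⟩)⟩
    rw [h, mem_bot] at this
    exact hz1 (Subtype.ext (Subtype.ext this))
  have hc := s.hQex.2
  have hle : s.Z ≤ (center s.Q).map s.Q.subtype := fun z hz =>
    ⟨⟨z, s.Z_le_Q hz⟩, Subgroup.mem_center_iff.2 fun g =>
      Subtype.ext (s.commute_Z hz (s.Q_le_S g.2)).eq.symm, rfl⟩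
  have hd := card_dvd_of_le hle
  rw [card_map_of_injective s.Q.subtype_injective, hc] at hd
  rcases (Nat.dvd_prime Nat.prime_three).1 hd with h | h
  · exact absurd (card_eq_one.1 h) hne
  · exact h

theorem mem_Z_of_central {z : G} (hz : z ∈ s.Q) (h : ∀ q ∈ s.Q, Commute z q) : z ∈ s.Z := by
  have hle : s.Z ≤ (center s.Q).map s.Q.subtype := fun y hy =>
    ⟨⟨y, s.Z_le_Q hy⟩, Subgroup.mem_center_iff.2 fun g =>
      Subtype.ext (s.commute_Z hy (s.Q_le_S g.2)).eq.symm, rfl⟩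
  have he := eq_of_le_of_card_ge hle
    (by rw [card_map_of_injective s.Q.subtype_injective, s.hQex.2, s.card_Z])
  rw [he]
  exact ⟨⟨z, hz⟩, Subgroup.mem_center_iff.2 fun g => Subtype.ext (h g g.2).eq.symm, rfl⟩

theorem comm_mem_Z {p q : G} (hp : p ∈ s.Q) (hq : q ∈ s.Q) : ⁅p, q⁆ ∈ s.Z := by
  have hc : commutator s.Q = center s.Q := s.hQex.1.2.2
  have h1 : ⁅(⟨p, hp⟩ : s.Q), (⟨q, hq⟩ : s.Q)⁆ ∈ center s.Q :=
    hc ▸ commutator_mem_commutator (mem_top _) (mem_top _)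
  refine s.mem_Z_of_central ?_ fun r hr => ?_
  · exact (⁅(⟨p, hp⟩ : s.Q), ⟨q, hq⟩⁆ : s.Q).2
  · exact congrArg Subtype.val (Subgroup.mem_center_iff.1 h1 ⟨r, hr⟩).symm

theorem commute_J {a b : G} (ha : a ∈ s.J) (hb : b ∈ s.J) : Commute a b :=
  have := s.hJcomm
  congrArg Subtype.val (mul_comm' (⟨a, ha⟩ : s.J) ⟨b, hb⟩)

end Setting

end Cfsg.Agent.McLLoc
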