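import Cfsg.Agent.McLLoc.Six

/-!
# Facts on subgroups of the alternating group of degree 6
-/

set_option autoImplicit false

namespace Cfsg.Agent.McLLoc.Six

open Subgroup
open scoped Pointwise

theorem fact_three : Fact (Nat.Prime 3) := ⟨Nat.prime_three⟩

theorem fact_two : Fact (Nat.Prime 2) := ⟨Nat.prime_two⟩

/-- The named Sylow 3-subgroup. -/
noncomputable def syl3 : Sylow 3 Alt6 :=
  Sylow.ofCard P0 (card_P0.trans (by
    rw [card_alt6, Nat.factorization_def _ Nat.prime_three,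
      show (360 : ℕ) = 3 ^ 2 * 40 by norm_num, padicValNat.mul (by norm_num) (by norm_num),
      padicValNat.prime_pow, padicValNat.eq_zero_of_not_dvd (by norm_num)]
    norm_num))

/-- The named Sylow 2-subgroup. -/
noncomputable def syl2 : Sylow 2 Alt6 :=
  Sylow.ofCard T8 (card_T8.trans (by
    rw [card_alt6, Nat.factorization_def _ Nat.prime_two,
      show (360 : ℕ) = 2 ^ 3 * 45 by norm_num, padicValNat.mul (by norm_num) (by norm_num),
      padicValNat.prime_pow, padicValNat.eq_zero_of_not_dvd (by norm_num)]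
    norm_num))

theorem exists_conj_P0 {R : Subgroup Alt6} (hR : IsPGroup 3 R) :
    ∃ g : Alt6, ∀ r ∈ R, g * r * g⁻¹ ∈ P0 := by
  have := fact_three
  obtain ⟨P, hP⟩ := hR.exists_le_sylow
  obtain ⟨g, hg⟩ := MulAction.exists_smul_eq Alt6 P syl3
  refine ⟨g, fun r hr => ?_⟩
  have : g * r * g⁻¹ ∈ ((g • P : Sylow 3 Alt6) : Subgroup Alt6) := by
    rw [Sylow.coe_subgroup_smul]
    exact ⟨r, hP hr, rfl⟩
  rwa [hg] at this

theorem exists_conj_T8 {R : Subgroup Alt6} (hR : IsPGroup 2 R) :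
    ∃ g : Alt6, ∀ r ∈ R, g * r * g⁻¹ ∈ T8 := by
  have := fact_two
  obtain ⟨P, hP⟩ := hR.exists_le_sylow
  obtain ⟨g, hg⟩ := MulAction.exists_smul_eq Alt6 P syl2
  refine ⟨g, fun r hr => ?_⟩
  have : g * r * g⁻¹ ∈ ((g • P : Sylow 2 Alt6) : Subgroup Alt6) := by
    rw [Sylow.coe_subgroup_smul]
    exact ⟨r, hP hr, rfl⟩
  rwa [hg] at this

theorem exists_conj_pt {i : Alt6} (hi : i * i = 1) (hi1 : i ≠ 1) :
    ∃ g : Alt6, g * i * g⁻¹ = pt := by
  have hp : IsPGroup 2 (zpowers i) := IsPGroup.of_card (n := 1) (by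
    rw [Nat.card_zpowers, orderOf_eq_prime (by rw [pow_two]; exact hi) hi1, pow_one])
  obtain ⟨g, hg⟩ := exists_conj_T8 hp
  obtain ⟨a, b, hab⟩ := hg i (mem_zpowers i)
  have h2 : el2 a b * el2 a b = 1 := by
    rw [hab, show g * i * g⁻¹ * (g * i * g⁻¹) = g * (i * i) * g⁻¹ by group, hi, mul_one,
      mul_inv_cancel]
  rcases conj_pt a b h2 with h | ⟨k, -, hk⟩
  · rw [hab, mul_inv_eq_one, mul_eq_left] at h
    exact absurd h hi1
  · refine ⟨k * g, ?_⟩
    rw [hab] at hk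
    rw [← hk]
    group

/-- A 3-subgroup normalised by a four-group is trivial. -/
theorem three_norm_trivial {v w : Alt6} (hv : v * v = 1) (hw : w * w = 1) (hv1 : v ≠ 1)
    (hw1 : w ≠ 1) (hne : v ≠ w) (hvw : v * w = w * v) {R : Subgroup Alt6} (hR : IsPGroup 3 R)
    (hRv : ∀ r ∈ R, v * r * v⁻¹ ∈ R) (hRw : ∀ r ∈ R, w * r * w⁻¹ ∈ R) : R = ⊥ := by
  obtain ⟨g, hg⟩ := exists_conj_P0 hR
  have hcomm : ∀ a ∈ R, ∀ b ∈ R, a * b = b * a := by
    intro a ha b hb
    obtain ⟨i, j, hij⟩ := hg a ha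
    obtain ⟨k, l, hkl⟩ := hg b hb
    have h : g * a * g⁻¹ * (g * b * g⁻¹) = g * b * g⁻¹ * (g * a * g⁻¹) := by
      rw [← hij, ← hkl, el_mul, el_mul, add_comm i k, add_comm j l]
    have h2 : g * (a * b) * g⁻¹ = g * (b * a) * g⁻¹ :=
      calc g * (a * b) * g⁻¹ = g * a * g⁻¹ * (g * b * g⁻¹) := by group
        _ = g * b * g⁻¹ * (g * a * g⁻¹) := h
        _ = g * (b * a) * g⁻¹ := by group
    exact mul_left_cancel (mul_right_cancel h2)
  have hcube : ∀ a ∈ R, a * a * a = 1 := by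
    intro a ha
    obtain ⟨i, j, hij⟩ := hg a ha
    have h : g * a * g⁻¹ * (g * a * g⁻¹) * (g * a * g⁻¹) = 1 := by rw [← hij, el_cube]
    rw [show g * a * g⁻¹ * (g * a * g⁻¹) * (g * a * g⁻¹) = g * (a * a * a) * g⁻¹ by group,
      mul_inv_eq_one, mul_eq_left] at h
    exact h
  have key : ∀ i : Alt6, i * i = 1 → i ≠ 1 → (∀ r ∈ R, i * r * i⁻¹ ∈ R) →
      ∀ r ∈ R, i * r * i⁻¹ = r⁻¹ := by
    intro i hi hi1 hRi r hr
    obtain ⟨p, hp⟩ : ∃ p, p = r * (i * r * i⁻¹) := ⟨_, rfl⟩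
    have hpR : p ∈ R := hp ▸ mul_mem hr (hRi r hr)
    have hii : i⁻¹ = i := inv_eq_of_mul_eq_one_right hi
    have hfix : i * p * i⁻¹ = p := by
      rw [hp, show i * (r * (i * r * i⁻¹)) * i⁻¹ = i * r * i⁻¹ * ((i * i) * r * (i * i)⁻¹) by
        group, hi, one_mul, inv_one, mul_one, hcomm _ (hRi r hr) _ hr]
    have hc : Commute i p := mul_inv_eq_iff_eq_mul.1 hfix
    have h6 : (i * p) ^ 6 = 1 := by
      rw [hc.mul_pow, show i ^ 6 = (i * i) ^ 3 by rw [← pow_two, ← pow_mul],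
        show p ^ 6 = (p * p * p) ^ 2 by rw [← pow_three', ← pow_mul], hi, hcube p hpR, one_pow,
        one_pow, one_mul]
    have hp1 : p = 1 := by
      rcases no_six _ h6 with h | h
      · rw [hc.mul_pow, pow_two, hi, one_mul, pow_two] at h
        simpa [h] using hcube p hpR
      · rw [hc.mul_pow, pow_three', pow_three', hcube p hpR, mul_one, hi, one_mul] at h
        exact absurd h hi1
    rw [hp] at hp1
    exact eq_inv_of_mul_eq_one_right hp1
  have hvw2 : v * w * (v * w) = 1 := by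
    rw [mul_assoc, ← mul_assoc w, ← hvw, mul_assoc v w w, hw, mul_one, hv]
  have hvw1 : v * w ≠ 1 := fun h => hne (by
    rw [eq_inv_of_mul_eq_one_left h]
    exact inv_eq_of_mul_eq_one_right hw)
  have hRvw : ∀ r ∈ R, v * w * r * (v * w)⁻¹ ∈ R := fun r hr => by
    rw [show v * w * r * (v * w)⁻¹ = v * (w * r * w⁻¹) * v⁻¹ by group]
    exact hRv _ (hRw r hr)
  rw [Subgroup.eq_bot_iff_forall]
  intro r hr
  have h1 := key v hv hv1 hRv
  have h2 := key w hw hw1 hRw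
  have h3 := key (v * w) hvw2 hvw1 hRvw r hr
  rw [show v * w * r * (v * w)⁻¹ = v * (w * r * w⁻¹) * v⁻¹ by group, h2 r hr,
    h1 _ (inv_mem hr), inv_inv] at h3
  have hrr : r * r = 1 := by
    nth_rewrite 1 [h3]
    exact inv_mul_cancel r
  simpa [hrr] using hcube r hr

theorem exists_four_normal {v w : Alt6} (hv : v * v = 1) (hw : w * w = 1) (hv1 : v ≠ 1)
    (hw1 : w ≠ 1) (hne : v ≠ w) (hvw : v * w = w * v) :
    ∃ h : Alt6, h ^ 4 = 1 ∧ h ^ 2 ≠ 1 ∧ (h * v * h⁻¹ = v ∨ h * v * h⁻¹ = w ∨ h * v * h⁻¹ = v * w) ∧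
      (h * w * h⁻¹ = v ∨ h * w * h⁻¹ = w ∨ h * w * h⁻¹ = v * w) := by
  have hm : IsMulCommutative (closure ({v, w} : Set Alt6)) := by
    refine Subgroup.isMulCommutative_closure ?_
    rintro a (rfl | rfl) b (rfl | rfl) <;> simp [hvw]
  have hp : IsPGroup 2 (closure ({v, w} : Set Alt6)) := by
    intro x
    refine ⟨1, ?_⟩
    obtain ⟨x, hx⟩ := x
    apply Subtype.ext
    simp only [pow_one, SubmonoidClass.coe_pow, OneMemClass.coe_one]
    induction hx using closure_induction with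
    | mem a ha => rcases ha with rfl | rfl <;> simp [pow_two, hv, hw]
    | one => simp
    | mul a b ha hb h1 h2 =>
      have hc : a * b = b * a := congrArg Subtype.val
        (mul_comm' (⟨a, ha⟩ : closure ({v, w} : Set Alt6)) ⟨b, hb⟩)
      rw [Commute.mul_pow hc, h1, h2, one_mul]
    | inv a _ h1 => rw [inv_pow, h1, inv_one]
  obtain ⟨g, hg⟩ := exists_conj_T8 hp
  obtain ⟨i, j, hij⟩ := hg v (subset_closure (Set.mem_insert _ _))
  obtain ⟨k, l, hkl⟩ := hg w (subset_closure (Set.mem_insert_of_mem _ rfl))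
  have hgi : ∀ a : Alt6, g * a * g⁻¹ = 1 ↔ a = 1 := fun a => by
    rw [mul_inv_eq_one, mul_eq_left]
  have h := four_normalised i j k l
    (by rw [hij, show g * v * g⁻¹ * (g * v * g⁻¹) = g * (v * v) * g⁻¹ by group, hv, mul_one,
      mul_inv_cancel])
    (by rw [hkl, show g * w * g⁻¹ * (g * w * g⁻¹) = g * (w * w) * g⁻¹ by group, hw, mul_one,
      mul_inv_cancel])
    (by rw [hij]; exact fun h => hv1 ((hgi v).1 h))
    (by rw [hkl]; exact fun h => hw1 ((hgi w).1 h))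
    (by rw [hij, hkl]; exact fun h => hne (mul_left_cancel (mul_right_cancel h)))
    (by rw [hij, hkl, show g * v * g⁻¹ * (g * w * g⁻¹) = g * (v * w) * g⁻¹ by group, hvw]; group)
  rw [hij, hkl] at h
  have e : ∀ a b : Alt6, pc * (g * a * g⁻¹) * pc⁻¹ = g * b * g⁻¹ →
      g⁻¹ * pc * g * a * (g⁻¹ * pc * g)⁻¹ = b := fun a b hab => by
    calc g⁻¹ * pc * g * a * (g⁻¹ * pc * g)⁻¹ = g⁻¹ * (pc * (g * a * g⁻¹) * pc⁻¹) * g := by group
      _ = b := by rw [hab]; group
  have e2 : g * v * g⁻¹ * (g * w * g⁻¹) = g * (v * w) * g⁻¹ := by group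
  rw [e2] at h
  refine ⟨g⁻¹ * pc * g, ?_, ?_, ?_, ?_⟩
  · rw [show (g⁻¹ * pc * g) ^ 4 = g⁻¹ * (pc * pc * (pc * pc)) * g by
      rw [pow_succ, pow_three']; group, c_sq, t_sq]
    group
  · intro h2
    apply t_ne
    rw [← c_sq]
    calc pc * pc = g * ((g⁻¹ * pc * g) ^ 2) * g⁻¹ := by rw [pow_two]; group
      _ = 1 := by rw [h2]; group
  · rcases h.1 with h1 | h1 | h1
    · exact Or.inl (e _ _ h1)
    · exact Or.inr (Or.inl (e _ _ h1))
    · exact Or.inr (Or.inr (e _ _ h1))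
  · rcases h.2 with h1 | h1 | h1
    · exact Or.inl (e _ _ h1)
    · exact Or.inr (Or.inl (e _ _ h1))
    · exact Or.inr (Or.inr (e _ _ h1))

/-- A proper subgroup has index at least 6. -/
theorem six_le_index (K : Subgroup Alt6) (hK : K ≠ ⊤) : 6 ≤ K.index := by
  have hs : IsSimpleGroup Alt6 := alternatingGroup.isSimpleGroup (by simp)
  by_contra hlt
  have hn : K.normalCore = ⊥ := by
    rcases K.normalCore_normal.eq_bot_or_eq_top with h | h
    · exact h
    · exact absurd (top_le_iff.1 (h ▸ K.normalCore_le)) hK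
  rw [normalCore_eq_ker] at hn
  have hinj : Function.Injective (MulAction.toPermHom Alt6 (Alt6 ⧸ K)) :=
    (MonoidHom.ker_eq_bot_iff _).1 hn
  have h := Nat.card_le_card_of_injective _ hinj
  rw [card_alt6, Nat.card_perm, ← Subgroup.index_eq_card] at h
  have := Nat.factorial_le (show K.index ≤ 5 by omega)
  have h5 : Nat.factorial 5 = 120 := rfl
  omega

end Cfsg.Agent.McLLoc.Six
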