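import Cfsg.Agent.McLLoc.LocalFrame
import Cfsg.Agent.McLLoc.LocalSix

/-!
# Every element of order 3 is conjugate into `J`, every element of `J` into `W`
-/

set_option autoImplicit false
set_option linter.unusedSectionVars false

namespace Cfsg.Agent.McLLoc

open Subgroup
open scoped commutatorElement Pointwise

variable {G : Type*} [Group G] [Finite G] {s : Setting G}

namespace Lift

variable {C : Chart s} (l : Lift C)

include l

/-- Every element of `Q` is conjugate in `L` into `J`. -/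
theorem exists_conj_Q_into_J {q : G} (hq : q ∈ s.Q) :
    ∃ g ∈ s.L, g * q * g⁻¹ ∈ s.J := by
  by_cases hqZ : q ∈ s.Z
  · exact ⟨1, one_mem _, by simpa using s.Z_le_J hqZ⟩
  have := s.hQn
  have hLZ := s.L_le_centZ
  have hcj : ∀ a ∈ s.L, ∀ z ∈ s.Z, a * z * a⁻¹ = z := fun a ha z hz => by
    rw [← (mem_centralizer_iff.1 (hLZ ha)) z hz, mul_inv_cancel_right]
  let K : Subgroup G :=
    { carrier := {a | a ∈ s.L ∧ ⁅a, q⁆ ∈ s.Z}
      mul_mem' := by
        rintro a b ⟨ha, ha'⟩ ⟨hb, hb'⟩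
        refine ⟨mul_mem ha hb, ?_⟩
        rw [show ⁅a * b, q⁆ = a * ⁅b, q⁆ * a⁻¹ * ⁅a, q⁆ by
          simp only [commutatorElement_def]; group, hcj a ha _ hb']
        exact mul_mem hb' ha'
      one_mem' := ⟨one_mem _, by simp⟩
      inv_mem' := by
        rintro a ⟨ha, ha'⟩
        refine ⟨inv_mem ha, ?_⟩
        rw [show ⁅a⁻¹, q⁆ = a⁻¹ * ⁅a, q⁆⁻¹ * a⁻¹⁻¹ by simp only [commutatorElement_def]; group,
          hcj _ (inv_mem ha) _ (inv_mem ha')]
        exact inv_mem ha' }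
  have hKL : K ≤ s.L := fun a ha => ha.1
  have hQK : s.Q ≤ K := fun a ha => ⟨s.hQL ha, s.comm_mem_Z ha hq⟩
  have hQn : (s.Q.subgroupOf K).Normal := normal_subgroupOf_of_le_normalizer
    ((hKL.trans hLZ).trans (s.cent_le_normZ.trans s.normZ_le_normQ))
  -- the orbit of `q` modulo `Z` has at most 80 elements
  have hindex : K.relIndex s.L ≤ 80 := by
    let f : (s.L ⧸ K.subgroupOf s.L) × s.Z → (↑(s.Q : Set G) \ ↑(s.Z : Set G) : Set G) :=
      fun p => ⟨((p.1.out : s.L) : G) * q * ((p.1.out : s.L) : G)⁻¹ * p.2, by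
        have ha : ((p.1.out : s.L) : G) ∈ s.L := (p.1.out).2
        have hn := s.normZ_le_normQ (s.cent_le_normZ (hLZ ha))
        refine ⟨mul_mem ((mem_normalizer_iff.1 hn q).1 hq) (s.Z_le_Q p.2.2), fun h => hqZ ?_⟩
        have h2 : ((p.1.out : s.L) : G) * q * ((p.1.out : s.L) : G)⁻¹ ∈ s.Z :=
          (mul_mem_cancel_right p.2.2).1 h
        exact (mem_normalizer_iff.1 (s.cent_le_normZ (hLZ ha)) q).2 h2⟩
    have hf : Function.Injective f := by
      rintro ⟨x, z⟩ ⟨y, w⟩ h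
      have h' : ((x.out : s.L) : G) * q * ((x.out : s.L) : G)⁻¹ * z =
          ((y.out : s.L) : G) * q * ((y.out : s.L) : G)⁻¹ * w := congrArg Subtype.val h
      have hxy : x = y := by
        rw [← QuotientGroup.out_eq' x, ← QuotientGroup.out_eq' y, QuotientGroup.eq, mem_subgroupOf]
        set a : G := ((x.out : s.L) : G)
        set b : G := ((y.out : s.L) : G)
        refine ⟨(x.out⁻¹ * y.out).2, ?_⟩
        have e1 : b * q * b⁻¹ = a * q * a⁻¹ * ((z : G) * (w : G)⁻¹) := by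
          rw [← mul_assoc, h', mul_inv_cancel_right]
        have e2 : ⁅a⁻¹ * b, q⁆ = a⁻¹ * (b * q * b⁻¹) * a * q⁻¹ := by
          simp only [commutatorElement_def]; group
        show ⁅a⁻¹ * b, q⁆ ∈ s.Z
        rw [e2, e1, show a⁻¹ * (a * q * a⁻¹ * ((z : G) * (w : G)⁻¹)) * a * q⁻¹ =
          q * (a⁻¹ * ((z : G) * (w : G)⁻¹) * a⁻¹⁻¹) * q⁻¹ by group,
          hcj _ (inv_mem (x.out).2) _ (mul_mem z.2 (inv_mem w.2))]
        exact (mem_normalizer_iff.1 (s.cent_le_normZ (s.Q_le_centZ hq)) _).1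
          (mul_mem z.2 (inv_mem w.2))
      subst hxy
      exact Prod.ext rfl (Subtype.ext (mul_left_cancel h'))
    have h1 := Nat.card_le_card_of_injective f hf
    have h2 : Nat.card (↑(s.Q : Set G) \ ↑(s.Z : Set G) : Set G) = 240 := by
      rw [Nat.card_coe_set_eq, Set.ncard_diff (fun x hx => s.Z_le_Q hx), ← Nat.card_coe_set_eq,
        ← Nat.card_coe_set_eq]
      have e1 : Nat.card ↥(s.Q : Set G) = 243 := by rw [← Nat.card_congr (Equiv.refl _)]; exact s.hQcard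
      have e2 : Nat.card ↥(s.Z : Set G) = 3 := s.card_Z
      omega
    rw [Nat.card_prod, s.card_Z, h2] at h1
    rw [relIndex, index]
    omega
  have hKcard : Nat.card K * K.relIndex s.L = 3 ^ 5 * 120 := by
    rw [← s.card_L, ← Nat.card_congr (subgroupOfEquivOfLe hKL).toEquiv]
    exact card_mul_index _
  have hm : Nat.card K = Nat.card (K ⧸ s.Q.subgroupOf K) * 3 ^ 5 := by
    rw [card_eq_card_quotient_mul_card_subgroup (s.Q.subgroupOf K),
      Nat.card_congr (subgroupOfEquivOfLe hQK).toEquiv, s.hQcard]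
  set m := Nat.card (K ⧸ s.Q.subgroupOf K) with hmdef
  have hmd : m * K.relIndex s.L = 120 := by
    rw [hm] at hKcard
    refine Nat.eq_of_mul_eq_mul_left (by norm_num : 0 < 3 ^ 5) ?_
    rw [← hKcard]; ring
  -- `m` is neither even nor 5
  have hodd : ¬ 2 ∣ m := by
    intro h2
    obtain ⟨i, hi⟩ := exists_prime_orderOf_dvd_card' (G := K) 2 (hp := ⟨Nat.prime_two⟩)
      (by rw [hm]; exact Dvd.dvd.mul_right h2 _)
    obtain ⟨e⟩ := s.hLq
    let π : s.L →* Six.SL25 := e.toMonoidHom.comp (QuotientGroup.mk' (s.Q.subgroupOf s.L))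
    have hπ : ∀ a : s.L, π a = 1 ↔ (a : G) ∈ s.Q := fun a => by
      simp [π, mem_subgroupOf]
    have hi2 : (i : G) * i = 1 := by
      rw [← pow_two, ← orderOf_dvd_iff_pow_eq_one, Subgroup.orderOf_coe, hi]
    have hiQ : (i : G) ∉ s.Q := fun h => by
      have := orderOf_dvd_of_pow_eq_one (s.hQexp _ h)
      rw [Subgroup.orderOf_coe, hi] at this
      norm_num at this
    have htQ : l.t ∉ s.Q := fun h => by
      have := orderOf_dvd_of_pow_eq_one (s.hQexp _ h)
      rw [l.t_ord] at this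
      norm_num at this
    have heq := Six.eq_of_sq (π ⟨i, hKL i.2⟩) (π ⟨l.t, l.t_memL⟩)
      (by rw [← map_mul]; exact (hπ _).2 (by simp [hi2]))
      (fun h => hiQ ((hπ _).1 h))
      (by rw [← map_mul]; exact (hπ _).2 (by simp [l.t_two]))
      (fun h => htQ ((hπ _).1 h))
    have hit : (i : G)⁻¹ * l.t ∈ s.Q :=
      (hπ (⟨i, hKL i.2⟩⁻¹ * ⟨l.t, l.t_memL⟩)).1 (by rw [map_mul, map_inv, heq, inv_mul_cancel])
    have htK : l.t ∈ K := by simpa using mul_mem i.2 (hQK hit)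
    have h1 : ⁅l.t, q⁆ ∈ s.Z := htK.2
    have h2' := mul_mem (inv_mem h1) (l.t_Q q hq)
    rw [show ⁅l.t, q⁆⁻¹ * (l.t * q * l.t⁻¹ * q) = q * q by
      simp only [commutatorElement_def]; group] at h2'
    apply hqZ
    have : q = q * q * (q * q) := by
      rw [show q * q * (q * q) = q ^ 3 * q by simp [pow_succ, mul_assoc], s.hQexp q hq, one_mul]
    rw [this]
    exact mul_mem h2' h2'
  have h5 : m ≠ 5 := by
    intro h5
    obtain ⟨f, hf⟩ := exists_prime_orderOf_dvd_card' (G := K) 5 (hp := ⟨by norm_num⟩)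
      (by rw [hm, h5]; exact dvd_mul_right _ _)
    have hfZ : (f : G) ∈ centralizer (s.Z : Set G) := hLZ (hKL f.2)
    have hfN := s.normZ_le_normQ (s.cent_le_normZ hfZ)
    have htriv := fiveTrivial s (f : G) (by rw [Subgroup.orderOf_coe, hf]) hfZ s.Q le_rfl s.Z_le_Q
      (Or.inr ⟨q, hq, hqZ, f.2.2⟩) (fun a ha => (mem_normalizer_iff.1 hfN a).1 ha)
    have hfQ := s.mem_Q_of_trivial (s.cent_le_normZ hfZ) htriv hfZ
    have := orderOf_dvd_of_pow_eq_one (s.hQexp _ hfQ)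
    rw [Subgroup.orderOf_coe, hf] at this
    norm_num at this
  have h3 : 3 ∣ m := by
    have hd : m ∣ 120 := ⟨_, hmd.symm⟩
    have hge : 2 ≤ m := by
      by_contra hh
      interval_cases m <;> omega
    have hm120 : m ≤ 120 := Nat.le_of_dvd (by norm_num) hd
    by_contra h3
    have h40 : m ∣ 2 ^ 3 * 5 := by
      have : m ∣ 3 * (2 ^ 3 * 5) := hd
      exact ((Nat.prime_three.coprime_iff_not_dvd.2 h3).symm).dvd_of_dvd_mul_left this
    have hcop : Nat.Coprime m (2 ^ 3) :=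
      ((Nat.prime_two.coprime_iff_not_dvd.2 hodd).symm).pow_right 3
    rcases (Nat.dvd_prime (by norm_num : Nat.Prime 5)).1 (hcop.dvd_of_dvd_mul_left h40) with h | h
    · omega
    · exact h5 h
  obtain ⟨P, hP⟩ := Sylow.exists_subgroup_card_pow_prime (G := K) 3 (n := 6)
    (by rw [hm]; exact (mul_dvd_mul h3 dvd_rfl : 3 * 3 ^ 5 ∣ m * 3 ^ 5))
  have hfac : (Nat.card s.L).factorization 3 = 6 := by
    rw [s.card_L, Nat.factorization_def _ Nat.prime_three,
      show 3 ^ 5 * 120 = 3 ^ 6 * 40 by norm_num, padicValNat.mul (by norm_num) (by norm_num),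
      padicValNat.prime_pow, padicValNat.eq_zero_of_not_dvd (by norm_num)]
  let A : Sylow 3 s.L := Sylow.ofCard ((s.S : Subgroup G).subgroupOf s.L) (by
    rw [Nat.card_congr (subgroupOfEquivOfLe s.S_le_L).toEquiv, s.card_S, hfac])
  let B : Sylow 3 s.L := Sylow.ofCard (P.map (inclusion hKL)) (by
    rw [card_map_of_injective (inclusion_injective hKL), hP, hfac])
  obtain ⟨g, hg⟩ := MulAction.exists_smul_eq s.L B A
  have hsub : ∀ p ∈ P, (g : G) * ((p : K) : G) * (g : G)⁻¹ ∈ (s.S : Subgroup G) := by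
    intro p hp
    have h1 : g * inclusion hKL p * g⁻¹ ∈ ((g • B : Sylow 3 s.L) : Subgroup s.L) := by
      rw [Sylow.coe_subgroup_smul]
      exact ⟨inclusion hKL p, ⟨p, hp, rfl⟩, rfl⟩
    rw [hg] at h1
    exact h1
  have hsurj : ∀ a ∈ (s.S : Subgroup G), ∃ p ∈ P, (g : G) * ((p : K) : G) * (g : G)⁻¹ = a := by
    intro a ha
    have h1 : (⟨a, s.S_le_L ha⟩ : s.L) ∈ ((g • B : Sylow 3 s.L) : Subgroup s.L) := by
      rw [hg]; exact ha
    rw [Sylow.coe_subgroup_smul] at h1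
    obtain ⟨_, ⟨p, hp, rfl⟩, hpa⟩ := h1
    exact ⟨p, hp, congrArg Subtype.val hpa⟩
  refine ⟨g, g.2, ?_⟩
  set q' := (g : G) * q * (g : G)⁻¹ with hq'
  have hgn := s.normZ_le_normQ (s.cent_le_normZ (hLZ g.2))
  have hq'Q : q' ∈ s.Q := (mem_normalizer_iff.1 hgn q).1 hq
  by_contra hne
  obtain ⟨z, hz, hzZ, hz1⟩ := s.exists_generator
  have hne' := C.comm_comm_ne hq'Q hne (l.conj_z' hzZ).1 (l.z'_notQ hzZ hz1)
  apply hne'
  obtain ⟨p, hp, hpa⟩ := hsurj _ (s.hJS (l.conj_z' hzZ).1)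
  have hpq : ⁅(p : G), q⁆ ∈ s.Z := (p : K).2.2
  have hz' : ⁅l.u * z * l.u⁻¹, q'⁆ ∈ s.Z := by
    rw [← hpa, hq', show ⁅(g : G) * ((p : K) : G) * (g : G)⁻¹, (g : G) * q * (g : G)⁻¹⁆ =
      (g : G) * ⁅((p : K) : G), q⁆ * (g : G)⁻¹ by simp only [commutatorElement_def]; group,
      hcj _ g.2 _ hpq]
    exact hpq
  exact commutatorElement_eq_one_iff_mul_comm.2 (s.commute_Z hz' (s.Q_le_S hq'Q))

/-- Every element of order 3 is conjugate into `J`. -/
theorem exists_conj_into_J {v : G} (hv : v ^ 3 = 1) : ∃ g : G, g * v * g⁻¹ ∈ s.J := by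
  have hp : IsPGroup 3 (zpowers v) := by
    intro x
    refine ⟨1, ?_⟩
    obtain ⟨x, hx⟩ := x
    obtain ⟨k, rfl⟩ := mem_zpowers_iff.1 hx
    apply Subtype.ext
    simp only [pow_one, SubmonoidClass.coe_pow, OneMemClass.coe_one]
    rw [← zpow_natCast, ← zpow_mul, mul_comm, zpow_mul, zpow_natCast, hv, one_zpow]
  obtain ⟨P, hP⟩ := hp.exists_le_sylow
  obtain ⟨g, hg⟩ := MulAction.exists_smul_eq G P s.S
  have h1 : g * v * g⁻¹ ∈ ((g • P : Sylow 3 G) : Subgroup G) := by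
    rw [Sylow.coe_subgroup_smul]
    exact ⟨v, hP (mem_zpowers v), rfl⟩
  rw [hg] at h1
  rcases C.mem_of_cube h1 (by rw [conj_pow, hv, mul_one, mul_inv_cancel]) with h | h
  · obtain ⟨k, -, hk⟩ := l.exists_conj_Q_into_J h
    exact ⟨k * g, by rwa [show k * g * v * (k * g)⁻¹ = k * (g * v * g⁻¹) * k⁻¹ by group]⟩
  · exact ⟨g, h⟩

end Lift

end Cfsg.Agent.McLLoc
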