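import Cfsg.Agent.McLLoc.LocalOrbit

/-!
# An element of `J` is conjugate into `Z` or its centraliser normalises `J`
-/

set_option autoImplicit false
set_option linter.unusedSectionVars false

namespace Cfsg.Agent.McLLoc

open Subgroup
open scoped commutatorElement Pointwise

variable {G : Type*} [Group G] [Finite G] {s : Setting G}

namespace Lift

variable {C : Chart s} (l : Lift C) (z : G) (hz : zpowers z = s.Z) (hz1 : z ≠ 1)

include l hz hz1

/-- The four kinds of elements of `W`. -/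
theorem W_cases {w : G} (hw : w ∈ s.J) (hwt : Commute l.t w) :
    w ∈ s.Z ∨ w ∈ zpowers (l.u * z * l.u⁻¹) ∨ w ∈ zpowers (z * (l.u * z * l.u⁻¹)) ∨
      w ∈ zpowers (z * (l.u * z * l.u⁻¹)⁻¹) := by
  have hzZ : z ∈ s.Z := hz ▸ mem_zpowers z
  have hmem : w ∈ closure ({z, l.u * z * l.u⁻¹} : Set G) := by
    rw [l.closure_eq_CJt hzZ hz1]
    exact ⟨hw, mem_centralizer_singleton_iff.2 hwt.eq.symm⟩
  set z' := l.u * z * l.u⁻¹ with hz'
  have hcomm : Commute z z' := s.commute_J (s.Z_le_J hzZ) (l.conj_z' hzZ).1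
  have hform : ∃ a b : ℤ, w = z ^ a * z' ^ b := by
    induction hmem using closure_induction with
    | mem y hy =>
      rcases hy with rfl | rfl
      · exact ⟨1, 0, by simp⟩
      · exact ⟨0, 1, by simp⟩
    | one => exact ⟨0, 0, by simp⟩
    | mul x y _ _ h1 h2 =>
      obtain ⟨a, b, rfl⟩ := h1 (by
        have : x ∈ closure ({z, z'} : Set G) := by assumption
        rw [l.closure_eq_CJt hzZ hz1] at this
        exact this.1) (by
        have : x ∈ closure ({z, z'} : Set G) := by assumption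
        rw [l.closure_eq_CJt hzZ hz1] at this
        exact (mem_centralizer_singleton_iff.1 this.2).symm)
      obtain ⟨c, d, rfl⟩ := h2 (by
        have : y ∈ closure ({z, z'} : Set G) := by assumption
        rw [l.closure_eq_CJt hzZ hz1] at this
        exact this.1) (by
        have : y ∈ closure ({z, z'} : Set G) := by assumption
        rw [l.closure_eq_CJt hzZ hz1] at this
        exact (mem_centralizer_singleton_iff.1 this.2).symm)
      refine ⟨a + c, b + d, ?_⟩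
      rw [zpow_add, zpow_add, mul_assoc, mul_assoc, ← mul_assoc (z' ^ b),
        ((hcomm.zpow_zpow c b).symm).eq, mul_assoc]
    | inv x _ h1 =>
      obtain ⟨a, b, rfl⟩ := h1 (by
        have : x ∈ closure ({z, z'} : Set G) := by assumption
        rw [l.closure_eq_CJt hzZ hz1] at this
        exact this.1) (by
        have : x ∈ closure ({z, z'} : Set G) := by assumption
        rw [l.closure_eq_CJt hzZ hz1] at this
        exact (mem_centralizer_singleton_iff.1 this.2).symm)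
      exact ⟨-a, -b, by rw [mul_inv_rev, zpow_neg, zpow_neg, ((hcomm.zpow_zpow a b).inv_inv).eq]⟩
  obtain ⟨a, b, rfl⟩ := hform
  have hz3 : z ^ 3 = 1 := s.hJexp z (s.Z_le_J hzZ)
  have hz'3 : z' ^ 3 = 1 := s.hJexp z' (l.conj_z' hzZ).1
  have e1 : ∀ n : ℤ, z ^ n = z ^ (n % 3) := fun n => by
    conv_lhs => rw [← Int.emod_add_mul_ediv n 3, zpow_add, zpow_mul, zpow_ofNat, hz3, one_zpow,
      mul_one]
  have e2 : ∀ n : ℤ, z' ^ n = z' ^ (n % 3) := fun n => by
    conv_lhs => rw [← Int.emod_add_mul_ediv n 3, zpow_add, zpow_mul, zpow_ofNat, hz'3, one_zpow,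
      mul_one]
  have ha : a % 3 = 0 ∨ (b % 3 = 0 ∨ (a % 3 = b % 3 ∨ (a + b) % 3 = 0)) := by omega
  rcases ha with h | h | h | h
  · exact Or.inr (Or.inl ⟨b, by rw [e1 a, h, zpow_zero, one_mul]⟩)
  · exact Or.inl (by rw [e2 b, h, zpow_zero, mul_one]; exact zpow_mem hzZ a)
  · exact Or.inr (Or.inr (Or.inl ⟨a, by
      show (z * z') ^ a = _
      rw [hcomm.mul_zpow, e2 b, ← h, ← e2 a]⟩))
  · exact Or.inr (Or.inr (Or.inr ⟨a, by
      show (z * z'⁻¹) ^ a = _
      rw [hcomm.inv_right.mul_zpow, inv_zpow, ← zpow_neg, e2 b, e2 (-a)]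
      congr 2
      omega⟩))

theorem y_ne : z * (l.u * z * l.u⁻¹) ≠ 1 ∧ z * (l.u * z * l.u⁻¹)⁻¹ ≠ 1 := by
  have hzZ : z ∈ s.Z := hz ▸ mem_zpowers z
  refine ⟨fun h => l.u_not_Z hzZ hz1 ?_, fun h => l.u_not_Z hzZ hz1 ?_⟩
  · rw [eq_inv_of_mul_eq_one_right h]
    exact inv_mem hzZ
  · rw [← mul_inv_eq_one.1 h]
    exact hzZ

theorem cu_data : orderOf (l.c * l.u) = 2 ∧ Commute l.t (l.c * l.u) ∧ l.t ≠ l.c * l.u ∧
    Commute (l.c * l.u) (z * (l.u * z * l.u⁻¹)⁻¹) := by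
  have hzZ : z ∈ s.Z := hz ▸ mem_zpowers z
  have hcu2 : l.c * l.u * (l.c * l.u) = 1 := by
    calc l.c * l.u * (l.c * l.u) = l.c * (l.u * l.c * l.u⁻¹) * (l.u * l.u) := by group
      _ = 1 := by rw [l.uc, l.u2, mul_inv_cancel, one_mul]
  have hne1 : l.c * l.u ≠ 1 := by
    intro h
    have h1 : C.φ (⟨l.c, l.hc⟩ * ⟨l.u, l.hu⟩) = 1 := by
      rw [show (⟨l.c, l.hc⟩ * ⟨l.u, l.hu⟩ : s.M) = 1 from Subtype.ext h, map_one]
    rw [map_mul, l.φc, l.φu] at h1
    exact absurd h1 (by decide +kernel)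
  refine ⟨orderOf_eq_prime (by rw [pow_two, hcu2]) hne1, ?_, ?_, ?_⟩
  · exact (show Commute (l.c * l.c) l.c from (Commute.refl _).mul_left (Commute.refl _)).mul_right
      l.t_comm_u
  · intro h
    have h1 : C.φ ⟨l.t, l.ht⟩ = C.φ (⟨l.c, l.hc⟩ * ⟨l.u, l.hu⟩) := congrArg C.φ (Subtype.ext h)
    rw [map_mul, l.φt, l.φc, l.φu] at h1
    exact absurd h1 (by decide +kernel)
  · obtain ⟨h1, h2⟩ := l.c_inverts hzZ hz1
    set z' := l.u * z * l.u⁻¹ with hz'
    have hu : l.u * z' * l.u⁻¹ = z := by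
      rw [hz', show l.u * (l.u * z * l.u⁻¹) * l.u⁻¹ = (l.u * l.u) * z * (l.u * l.u)⁻¹ by group,
        l.u2]
      group
    apply mul_inv_eq_iff_eq_mul.1
    calc l.c * l.u * (z * z'⁻¹) * (l.c * l.u)⁻¹
        = (l.c * (l.u * z * l.u⁻¹) * l.c⁻¹) * (l.c * (l.u * z' * l.u⁻¹) * l.c⁻¹)⁻¹ := by group
      _ = z'⁻¹ * z := by rw [← hz', hu, h1, h2, inv_inv]
      _ = z * z'⁻¹ := ((s.commute_J (s.Z_le_J hzZ) (inv_mem (l.conj_z' hzZ).1)).symm).eq

/-- Every element of `J` is conjugate into `Z`, or its centraliser normalises `J`. -/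
theorem dichotomy (h4 : CentFour s) {j : G} (hj : j ∈ s.J) (hj1 : j ≠ 1) :
    (∃ g ∈ normalizer (s.J : Set G), g * j * g⁻¹ ∈ s.Z) ∨
      centralizer ({j} : Set G) ≤ normalizer (s.J : Set G) := by
  have hzZ : z ∈ s.Z := hz ▸ mem_zpowers z
  obtain ⟨⟨m, hm⟩, hmt⟩ := l.exists_conj_fixed ⟨j, hj⟩
  have hmJ := s.M_le_normJ hm
  have hwJ : m * j * m⁻¹ ∈ s.J := (mem_normalizer_iff.1 hmJ j).1 hj
  have hw1 : m * j * m⁻¹ ≠ 1 := fun h => hj1 (by
    rwa [mul_inv_eq_one, mul_eq_left] at h)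
  have hcent : centralizer ({m * j * m⁻¹} : Set G) ≤ normalizer (s.J : Set G) →
      centralizer ({j} : Set G) ≤ normalizer (s.J : Set G) := by
    intro h a ha
    rw [mem_centralizer_singleton_iff] at ha
    have h2 : m * a * m⁻¹ ∈ normalizer (s.J : Set G) := h (mem_centralizer_singleton_iff.2 (by
      calc m * a * m⁻¹ * (m * j * m⁻¹) = m * (a * j) * m⁻¹ := by group
        _ = m * (j * a) * m⁻¹ := by rw [ha]
        _ = m * j * m⁻¹ * (m * a * m⁻¹) := by group))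
    have h3 := mul_mem (mul_mem (inv_mem hmJ) h2) hmJ
    simpa [mul_assoc] using h3
  obtain ⟨hy, hy'⟩ := l.y_ne z hz hz1
  have hmem : ∀ g : G, m * j * m⁻¹ ∈ zpowers g → ∀ a : G, Commute a g →
      Commute a (m * j * m⁻¹) := fun g hg a ha => by
    obtain ⟨k, hk⟩ := mem_zpowers_iff.1 hg
    rw [← hk]
    exact ha.zpow_right k
  rcases l.W_cases z hz hz1 hwJ hmt with h | h | h | h
  · exact Or.inl ⟨m, hmJ, h⟩
  · refine Or.inl ⟨l.u * m, mul_mem (s.M_le_normJ l.hu) hmJ, ?_⟩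
    obtain ⟨k, hk⟩ := mem_zpowers_iff.1 h
    rw [show l.u * m * j * (l.u * m)⁻¹ = l.u * (m * j * m⁻¹) * l.u⁻¹ by group, ← hk, ← conj_zpow,
      show l.u * (l.u * z * l.u⁻¹) * l.u⁻¹ = (l.u * l.u) * z * (l.u * l.u)⁻¹ by group, l.u2]
    simpa using zpow_mem hzZ k
  · refine Or.inr (hcent ?_)
    have hne : l.t ≠ l.u := fun he => Six.tu_ne (by
      rw [← l.φt, ← l.φu]; exact congrArg C.φ (Subtype.ext he))
    have hyu : Commute l.u (z * (l.u * z * l.u⁻¹)) := by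
      have := (l.x_cube hzZ hz1).1
      show l.u * (z * (l.u * z * l.u⁻¹)) = z * (l.u * z * l.u⁻¹) * l.u
      have hui : l.u⁻¹ = l.u := inv_eq_of_mul_eq_one_right l.u2
      calc l.u * (z * (l.u * z * l.u⁻¹)) = (l.u * z * l.u⁻¹) * ((l.u * l.u) * z) * l.u⁻¹ := by
            group
        _ = (l.u * z * l.u⁻¹) * z * l.u⁻¹ := by rw [l.u2, one_mul]
        _ = z * (l.u * z * l.u⁻¹) * l.u := by
            rw [(s.commute_J (l.conj_z' hzZ).1 (s.Z_le_J hzZ)).eq, hui]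
    exact h4 l.t l.u l.ht l.hu l.t_ord l.u_ord hne l.t_comm_u _ hwJ hw1 hmt
      (hmem _ h _ hyu)
  · refine Or.inr (hcent ?_)
    obtain ⟨h2, htc, hne, hc⟩ := l.cu_data z hz hz1
    exact h4 l.t (l.c * l.u) l.ht (mul_mem l.hc l.hu) l.t_ord h2 hne htc _ hwJ hw1 hmt
      (hmem _ h _ hc)

end Lift

end Cfsg.Agent.McLLoc
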