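import Cfsg.Agent.McLLoc.LocalDicho
import Cfsg.Agent.Coprime.Generation

/-!
# All the facts, from `CentFour`
-/

set_option autoImplicit false
set_option linter.unusedSectionVars false

namespace Cfsg.Agent.McLLoc

open Subgroup
open scoped commutatorElement Pointwise

variable {G : Type*} [Group G] [Finite G] {s : Setting G}

/-- A 3-subgroup normalised by the centraliser of `Z` lies in `Q`. -/
theorem Setting.le_Q_of_normal (s : Setting G) {P : Subgroup G} (hP : IsPGroup 3 P)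
    (hle : P ≤ centralizer (s.Z : Set G))
    (hn : centralizer (s.Z : Set G) ≤ normalizer (P : Set G)) : P ≤ s.Q :=
  s.core3_centZ ▸ le_core3 hle hn hP

theorem Setting.cent_gen (s : Setting G) {z : G} (hz : zpowers z = s.Z) :
    centralizer (s.Z : Set G) = centralizer ({z} : Set G) := by
  ext g
  rw [mem_centralizer_iff, mem_centralizer_singleton_iff]
  constructor
  · intro h
    exact (h z (hz ▸ mem_zpowers z)).symm
  · intro h y hy
    rw [← hz] at hy
    obtain ⟨k, rfl⟩ := mem_zpowers_iff.1 hy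
    exact ((show Commute g z from h).zpow_right k).eq.symm

/-- A 3'-subgroup of the centraliser of `Z` normalised by `J` is trivial. -/
theorem Setting.bot_of_centZ (s : Setting G) {R : Subgroup G}
    (hRJ : s.J ≤ normalizer (R : Set G)) (hcop : (Nat.card R).Coprime 3) {k : G} (hk : k ∈ R)
    (hkZ : k ∈ centralizer (s.Z : Set G)) : k = 1 := by
  have hkQ := s.normZ_le_normQ (s.cent_le_normZ hkZ)
  have hco : ¬ 3 ∣ orderOf k := fun hd => by
    have h1 : 3 ∣ Nat.card R := hd.trans (by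
      rw [← Subgroup.orderOf_mk k hk]; exact orderOf_dvd_natCard _)
    exact absurd (Nat.eq_one_of_dvd_coprimes hcop h1 dvd_rfl) (by norm_num)
  have he : ∀ e ∈ s.Q ⊓ s.J, Commute k e := by
    intro e he
    have h1 : ⁅k, e⁆ ∈ R := by
      rw [show ⁅k, e⁆ = k * (e * k⁻¹ * e⁻¹) by rw [commutatorElement_def]; group]
      exact mul_mem hk ((mem_normalizer_iff.1 (hRJ he.2) _).1 (inv_mem hk))
    have h2 : ⁅k, e⁆ ∈ s.Q := s.Q.mul_mem ((mem_normalizer_iff.1 hkQ e).1 he.1) (inv_mem he.1)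
    apply commutatorElement_eq_one_iff_mul_comm.1
    have h3 := s.hQexp _ h2
    have h4 : orderOf (⁅k, e⁆) ∣ Nat.card R := by
      rw [← Subgroup.orderOf_mk _ h1]; exact orderOf_dvd_natCard _
    exact orderOf_eq_one_iff.1 (Nat.eq_one_of_dvd_coprimes hcop h4
      (orderOf_dvd_of_pow_eq_one h3))
  have hc := s.pow_commute (fun q hq => (mem_normalizer_iff.1 hkQ q).1 hq) he
    (pow_orderOf_eq_one k) hco
  have hkZ' : k ∈ s.Z := by
    rw [← s.centQ]
    exact mem_centralizer_iff.2 fun q hq => (hc q hq).eq.symm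
  have h3 := orderOf_dvd_of_pow_eq_one (s.hQexp k (s.Z_le_Q hkZ'))
  rcases (Nat.dvd_prime Nat.prime_three).1 h3 with h | h
  · exact orderOf_eq_one_iff.1 h
  · exact absurd (dvd_of_eq h.symm) hco

namespace Lift

variable {C : Chart s} (l : Lift C) (z : G) (hz : zpowers z = s.Z) (hz1 : z ≠ 1)

include l hz hz1

theorem no_core (h4 : CentFour s) (R : Subgroup G) (hRJ : s.J ≤ normalizer (R : Set G))
    (hcop : (Nat.card R).Coprime 3) : R = ⊥ := by
  have := s.hJcomm
  have hJc : ¬ IsCyclic s.J := by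
    intro h
    obtain ⟨g, hg⟩ := h.exists_generator
    have htop : zpowers g = ⊤ := by ext x; simp [hg x]
    have h1 : Nat.card (zpowers g) = 3 ^ 4 := by rw [htop, card_top]; exact s.hJcard
    rw [Nat.card_zpowers] at h1
    have h3 : g ^ 3 = 1 := Subtype.ext (s.hJexp g g.2)
    have h2 := orderOf_dvd_of_pow_eq_one h3
    rw [h1] at h2
    norm_num at h2
  have hcop' : (Nat.card s.J).Coprime (Nat.card R) := by
    rw [s.hJcard]; exact (hcop.symm).pow_left 4
  rw [← Coprime.iSup_centralizer_eq hJc hRJ hcop', eq_bot_iff]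
  refine iSup₂_le ?_
  rintro j ⟨hj, hj1⟩ k hk'
  have hk : k ∈ R := hk'.1
  have hkj : k ∈ centralizer ({j} : Set G) := hk'.2
  rw [mem_bot]
  rcases l.dichotomy z hz hz1 h4 hj hj1 with ⟨g, hg, hgj⟩ | hle
  · -- transport to `Z`
    let R' := R.map (MulAut.conj g).toMonoidHom
    have hR'J : s.J ≤ normalizer (R' : Set G) := by
      intro a ha
      have ha' : g⁻¹ * a * g ∈ normalizer (R : Set G) :=
        hRJ ((mem_normalizer_iff''.1 hg a).1 ha)
      rw [mem_normalizer_iff]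
      intro b
      simp only [R', Subgroup.mem_map_equiv, MulAut.conj_symm_apply]
      rw [mem_normalizer_iff.1 ha' (g⁻¹ * b * g)]
      simp [mul_assoc]
    have hj1' : g * j * g⁻¹ ≠ 1 := fun h => hj1 (by rwa [mul_inv_eq_one, mul_eq_left] at h)
    have hgz : zpowers (g * j * g⁻¹) = s.Z := eq_of_le_of_card_ge (zpowers_le.2 hgj) (by
      rw [s.card_Z, Nat.card_zpowers,
        orderOf_eq_prime (s.hJexp _ (s.Z_le_J hgj)) hj1'])
    have hk' : g * k * g⁻¹ = 1 := by
      refine s.bot_of_centZ (R := R') hR'J ?_ ⟨k, hk, rfl⟩ ?_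
      · rw [card_map_of_injective (MulAut.conj g).injective]; exact hcop
      · rw [s.cent_gen hgz, mem_centralizer_singleton_iff]
        rw [mem_centralizer_singleton_iff] at hkj
        calc g * k * g⁻¹ * (g * j * g⁻¹) = g * (k * j) * g⁻¹ := by group
          _ = g * (j * k) * g⁻¹ := by rw [hkj]
          _ = g * j * g⁻¹ * (g * k * g⁻¹) := by group
    rwa [mul_inv_eq_one, mul_eq_left] at hk'
  · have hkN := hle hkj
    have hkC : k ∈ centralizer (s.J : Set G) := by
      refine mem_centralizer_iff.2 fun a ha => ?_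
      have h1 : ⁅k, a⁆ ∈ R := by
        rw [show ⁅k, a⁆ = k * (a * k⁻¹ * a⁻¹) by rw [commutatorElement_def]; group]
        exact mul_mem hk ((mem_normalizer_iff.1 (hRJ ha) _).1 (inv_mem hk))
      have h2 : ⁅k, a⁆ ∈ s.J := s.J.mul_mem ((mem_normalizer_iff.1 hkN a).1 ha) (inv_mem ha)
      have h5 : orderOf (⁅k, a⁆) ∣ Nat.card R := by
        rw [← Subgroup.orderOf_mk _ h1]; exact orderOf_dvd_natCard _
      exact (commutatorElement_eq_one_iff_mul_comm.1 (orderOf_eq_one_iff.1
        (Nat.eq_one_of_dvd_coprimes hcop h5 (orderOf_dvd_of_pow_eq_one (s.hJexp _ h2))))).symm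
    rw [s.centJ] at hkC
    have h5 : orderOf k ∣ Nat.card R := by
      rw [← Subgroup.orderOf_mk _ hk]; exact orderOf_dvd_natCard _
    exact orderOf_eq_one_iff.1 (Nat.eq_one_of_dvd_coprimes hcop h5
      (orderOf_dvd_of_pow_eq_one (s.hJexp _ hkC)))

/-- A conjugate of a generator of `Z` has centraliser not normalising `J`. -/
theorem not_le_normJ {g w : G} (hgw : g * z * g⁻¹ = w) (hw : w ∈ s.J) :
    ¬ centralizer ({w} : Set G) ≤ normalizer (s.J : Set G) := by
  intro hle
  let P := s.J.map (MulAut.conj g⁻¹).toMonoidHom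
  have hP : P ≤ centralizer (s.Z : Set G) := by
    rw [s.cent_gen hz]
    rintro _ ⟨a, ha, rfl⟩
    rw [mem_centralizer_singleton_iff, MulEquiv.coe_toMonoidHom, MulAut.conj_apply, inv_inv]
    calc g⁻¹ * a * g * z = g⁻¹ * (a * (g * z * g⁻¹)) * g := by group
      _ = g⁻¹ * ((g * z * g⁻¹) * a) * g := by rw [hgw, (s.commute_J ha hw).eq]
      _ = z * (g⁻¹ * a * g) := by group
  have hn : centralizer (s.Z : Set G) ≤ normalizer (P : Set G) := by
    rw [s.cent_gen hz]
    intro a ha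
    rw [mem_centralizer_singleton_iff] at ha
    have ha' : g * a * g⁻¹ ∈ normalizer (s.J : Set G) := hle (mem_centralizer_singleton_iff.2 (by
      rw [← hgw]
      calc g * a * g⁻¹ * (g * z * g⁻¹) = g * (a * z) * g⁻¹ := by group
        _ = g * (z * a) * g⁻¹ := by rw [ha]
        _ = g * z * g⁻¹ * (g * a * g⁻¹) := by group))
    rw [mem_normalizer_iff]
    intro b
    simp only [P, Subgroup.mem_map_equiv, MulAut.conj_symm_apply, inv_inv]
    rw [mem_normalizer_iff.1 ha' (g * b * g⁻¹)]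
    simp [mul_assoc]
  have hPp : IsPGroup 3 P := (IsPGroup.of_card s.hJcard).map _
  have hle' := s.le_Q_of_normal hPp hP hn
  have h := s.card_abelian_le hle' (by
    rintro _ ⟨a, ha, rfl⟩ _ ⟨b, hb, rfl⟩
    exact (s.commute_J ha hb).map _)
  rw [card_map_of_injective (MulAut.conj g⁻¹).injective, s.hJcard] at h
  norm_num at h

theorem y_cent (h4 : CentFour s) :
    centralizer ({z * (l.u * z * l.u⁻¹)} : Set G) ≤ normalizer (s.J : Set G) ∧
      centralizer ({z * (l.u * z * l.u⁻¹)⁻¹} : Set G) ≤ normalizer (s.J : Set G) := by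
  have hzZ : z ∈ s.Z := hz ▸ mem_zpowers z
  obtain ⟨hy, hy'⟩ := l.y_ne z hz hz1
  have htz : Commute l.t z := ((mem_centralizer_iff.1 l.t_cent_Z) z hzZ).symm
  have htz' : Commute l.t (l.u * z * l.u⁻¹) :=
    (l.t_comm_u.mul_right htz).mul_right l.t_comm_u.inv_right
  constructor
  · have hne : l.t ≠ l.u := fun he => Six.tu_ne (by
      rw [← l.φt, ← l.φu]; exact congrArg C.φ (Subtype.ext he))
    refine h4 l.t l.u l.ht l.hu l.t_ord l.u_ord hne l.t_comm_u _
      (mul_mem (s.Z_le_J hzZ) (l.conj_z' hzZ).1) hy (htz.mul_right htz') ?_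
    show l.u * (z * (l.u * z * l.u⁻¹)) = z * (l.u * z * l.u⁻¹) * l.u
    have hui : l.u⁻¹ = l.u := inv_eq_of_mul_eq_one_right l.u2
    calc l.u * (z * (l.u * z * l.u⁻¹)) = (l.u * z * l.u⁻¹) * ((l.u * l.u) * z) * l.u⁻¹ := by
          group
      _ = (l.u * z * l.u⁻¹) * z * l.u⁻¹ := by rw [l.u2, one_mul]
      _ = z * (l.u * z * l.u⁻¹) * l.u := by
          rw [(s.commute_J (l.conj_z' hzZ).1 (s.Z_le_J hzZ)).eq, hui]
  · obtain ⟨h2, htc, hne, hc⟩ := l.cu_data z hz hz1
    exact h4 l.t (l.c * l.u) l.ht (mul_mem l.hc l.hu) l.t_ord h2 hne htc _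
      (mul_mem (s.Z_le_J hzZ) (inv_mem (l.conj_z' hzZ).1)) hy' (htz.mul_right htz'.inv_right) hc

theorem not_fused (h4 : CentFour s) (g : G)
    (hg : g * z * g⁻¹ ∈ s.J ⊓ centralizer ({l.t} : Set G)) :
    g * z * g⁻¹ ∈ s.Z ∨ g * z * g⁻¹ ∈ zpowers (l.u * z * l.u⁻¹) := by
  obtain ⟨hy, hy'⟩ := l.y_cent z hz hz1 h4
  set w := g * z * g⁻¹ with hw
  have hw1 : w ≠ 1 := fun h => hz1 (by
    rwa [hw, mul_inv_eq_one, mul_eq_left] at h)
  have key : ∀ y : G, y ∈ s.J → centralizer ({y} : Set G) ≤ normalizer (s.J : Set G) →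
      w ∈ zpowers y → False := by
    intro y hyJ hyc hwy
    refine l.not_le_normJ z hz hz1 hw.symm hg.1 (le_trans ?_ hyc)
    have hy1 : y ≠ 1 := fun h => hw1 (by
      rw [h, zpowers_one_eq_bot, mem_bot] at hwy
      exact hwy)
    have hy3 := orderOf_eq_prime (s.hJexp y hyJ) hy1
    have heq : zpowers w = zpowers y := eq_of_le_of_card_ge (zpowers_le.2 hwy) (by
      rw [Nat.card_zpowers, Nat.card_zpowers, hy3, orderOf_eq_prime (s.hJexp w hg.1) hw1])
    intro a ha
    rw [mem_centralizer_singleton_iff] at ha ⊢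
    obtain ⟨k, hk⟩ := mem_zpowers_iff.1 (heq.symm ▸ mem_zpowers y : y ∈ zpowers w)
    rw [← hk]
    exact ((show Commute a w from ha).zpow_right k).eq
  have hzJ : z ∈ s.J := s.Z_le_J (hz ▸ mem_zpowers z)
  have hz'J : l.u * z * l.u⁻¹ ∈ s.J := (l.conj_z' (hz ▸ mem_zpowers z)).1
  rcases l.W_cases z hz hz1 hg.1 (mem_centralizer_singleton_iff.1 hg.2).symm with h | h | h | h
  · exact Or.inl h
  · exact Or.inr h
  · exact (key _ (mul_mem hzJ hz'J) hy h).elim
  · exact (key _ (mul_mem hzJ (inv_mem hz'J)) hy' h).elim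

end Lift

end Cfsg.Agent.McLLoc
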