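import Cfsg.Agent.McLLoc.LocalT

/-!
# The frame of a setting, and the facts that do not need condition (iii) beyond `Z`
-/

set_option autoImplicit false
set_option linter.unusedSectionVars false

namespace Cfsg.Agent.McLLoc

open Subgroup
open scoped commutatorElement

variable {G : Type*} [Group G] [Finite G] {s : Setting G}

/-- The facts that use condition (iii) only at `Z`. -/
structure Base (f : Frame s) : Prop where
  card_S : Nat.card (s.S : Subgroup G) = 3 ^ 6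
  S_eq : (s.S : Subgroup G) = s.Q ⊔ s.J
  card_Z : Nat.card s.Z = 3
  Z_le_QJ : s.Z ≤ s.Q ⊓ s.J
  card_QJ : Nat.card (s.Q ⊓ s.J : Subgroup G) = 3 ^ 3
  z'_notQ : f.z' ∉ s.Q
  centJ : centralizer (s.J : Set G) = s.J
  centQ : centralizer (s.Q : Set G) = s.Z
  centQt : s.Q ⊓ centralizer ({f.t} : Set G) = s.Z
  J_unique : ∀ A : Subgroup G, A ≤ s.S → IsMulCommutative A → Nat.card A = 3 ^ 4 → A = s.J
  aniso : ∀ q ∈ s.Q, q ∉ s.J → ⁅⁅f.z', q⁆, q⁆ ≠ 1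
  c_S : f.c ∈ normalizer ((s.S : Subgroup G) : Set G)
  t_S : ∀ g ∈ (s.S : Subgroup G), f.t * g * f.t⁻¹ * g ∈ s.J

theorem Setting.exists_generator (s : Setting G) :
    ∃ z : G, zpowers z = s.Z ∧ z ∈ s.Z ∧ z ≠ 1 := by
  obtain ⟨z, hz, hz1⟩ : ∃ z ∈ s.Z, z ≠ 1 := by
    by_contra h
    push Not at h
    have : s.Z = ⊥ := (Subgroup.eq_bot_iff_forall _).2 h
    have h3 := s.card_Z
    rw [this, card_bot] at h3
    norm_num at h3
  refine ⟨z, eq_of_le_of_card_ge (zpowers_le.2 hz) ?_, hz, hz1⟩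
  rw [s.card_Z, Nat.card_zpowers, orderOf_eq_prime (s.hJexp z (s.Z_le_J hz)) hz1]

namespace Lift

variable {C : Chart s} (l : Lift C)

theorem z'_notQ {z : G} (hz : z ∈ s.Z) (hz1 : z ≠ 1) : l.u * z * l.u⁻¹ ∉ s.Q := by
  intro h
  refine l.u_not_Z hz hz1 ?_
  rw [← l.centQt]
  exact ⟨h, (l.conj_z' hz).2⟩

theorem x_cube {z : G} (hz : z ∈ s.Z) (hz1 : z ≠ 1) :
    Commute l.x (z * (l.u * z * l.u⁻¹)) ∧ l.x ^ 3 ∈ zpowers (z * (l.u * z * l.u⁻¹)) := by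
  have hzJ := s.Z_le_J hz
  have hz'J : l.u * z * l.u⁻¹ ∈ s.J := (l.conj_z' hz).1
  let y : s.J := ⟨z * (l.u * z * l.u⁻¹), mul_mem hzJ hz'J⟩
  have hy1 : y ≠ 1 := by
    intro h
    have h' : z * (l.u * z * l.u⁻¹) = 1 := congrArg Subtype.val h
    exact l.u_not_Z hz hz1 (by rw [eq_inv_of_mul_eq_one_right h']; exact inv_mem hz)
  have hyt : Commute l.t (y : G) := by
    have h1 : Commute l.t z := ((mem_centralizer_iff.1 l.t_cent_Z) z hz).symm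
    exact h1.mul_right ((l.t_comm_u.mul_right h1).mul_right l.t_comm_u.inv_right)
  have hui : l.u⁻¹ = l.u := inv_eq_of_mul_eq_one_right l.u2
  have hyu : Commute l.u (y : G) := by
    show l.u * (z * (l.u * z * l.u⁻¹)) = z * (l.u * z * l.u⁻¹) * l.u
    calc l.u * (z * (l.u * z * l.u⁻¹)) = (l.u * z * l.u⁻¹) * ((l.u * l.u) * z) * l.u⁻¹ := by
          group
      _ = (l.u * z * l.u⁻¹) * z * l.u⁻¹ := by rw [l.u2, one_mul]
      _ = z * (l.u * z * l.u⁻¹) * l.u := by rw [(s.commute_J hz'J hzJ).eq, hui]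
  have hf := C.fix_of_four C.act_tu y ⟨(ρ_fix l.ht l.φt y).2 hyt, (ρ_fix l.hu l.φu y).2 hyu⟩
  refine ⟨(ρ_fix l.hx l.φx y).1 hf.1, ?_⟩
  have h3 : l.x ^ 3 ∈ s.J := by
    refine (C.φ_eq_one (m := (⟨l.x, l.hx⟩ : s.M) ^ 3)).1 ?_
    rw [map_pow, l.φx, pow_succ, pow_two, Six.x_cube]
  have hct : l.x ^ 3 * l.t * (l.x ^ 3)⁻¹ = l.t := by
    calc l.x ^ 3 * l.t * (l.x ^ 3)⁻¹
        = l.x * (l.x * (l.x * l.t * l.x⁻¹) * l.x⁻¹) * l.x⁻¹ := by
          rw [pow_succ, pow_two]; group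
      _ = l.x * (l.x * l.u * l.x⁻¹) * l.x⁻¹ := by rw [show l.x * l.t * l.x⁻¹ = l.u from l.xt]
      _ = (l.x * l.t * l.x⁻¹) * (l.x * l.u * l.x⁻¹) := by
          conv_lhs => rw [l.xu, show l.c * l.c = l.t from rfl]
          group
      _ = l.u * (l.t * l.u) := by rw [show l.x * l.t * l.x⁻¹ = l.u from l.xt, l.xu]; rfl
      _ = l.t := by rw [← mul_assoc, ← l.t_comm_u.eq, mul_assoc, l.u2, mul_one]
  have hcu : l.x ^ 3 * l.u * (l.x ^ 3)⁻¹ = l.u := by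
    calc l.x ^ 3 * l.u * (l.x ^ 3)⁻¹
        = l.x * (l.x ^ 3 * l.t * (l.x ^ 3)⁻¹) * l.x⁻¹ := by
          rw [← show l.x * l.t * l.x⁻¹ = l.u from l.xt]; group
      _ = l.u := by rw [hct]; exact l.xt
  have hk := hf.2 hy1 ⟨l.x ^ 3, h3⟩
    ((ρ_fix l.ht l.φt _).2 (mul_inv_eq_iff_eq_mul.1 hct).symm)
    ((ρ_fix l.hu l.φu _).2 (mul_inv_eq_iff_eq_mul.1 hcu).symm)
  obtain ⟨k, hk⟩ := mem_zpowers_iff.1 hk
  exact mem_zpowers_iff.2 ⟨k, by simpa using congrArg Subtype.val hk⟩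

/-- The frame of a lift and a generator of `Z`. -/
def frame (z : G) (hz : zpowers z = s.Z) (hz1 : z ≠ 1) : Frame s where
  z := z
  z' := l.u * z * l.u⁻¹
  t := l.t
  c := l.c
  u := l.u
  x := l.x
  hz := hz
  z'_mem := (l.conj_z' (hz ▸ mem_zpowers z)).1
  hW := l.closure_eq_CJt (hz ▸ mem_zpowers z) hz1
  card_W := by rw [l.closure_eq_CJt (hz ▸ mem_zpowers z) hz1, l.card_CJt]
  t_memM := l.ht
  t_memL := l.t_memL
  c_memM := l.hc
  u_memM := l.hu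
  x_memM := l.hx
  t_ord := l.t_ord
  u_ord := l.u_ord
  c_sq := rfl
  tu := l.t_comm_u
  u_c := l.uc
  c_z := (l.c_inverts (hz ▸ mem_zpowers z) hz1).1
  c_z' := (l.c_inverts (hz ▸ mem_zpowers z) hz1).2
  u_z := rfl
  x_y := (l.x_cube (hz ▸ mem_zpowers z) hz1).1
  x_cube := (l.x_cube (hz ▸ mem_zpowers z) hz1).2
  x_t := l.xt
  x_u := l.xu
  t_Q := l.t_Q

theorem base (z : G) (hz : zpowers z = s.Z) (hz1 : z ≠ 1) : Base (l.frame z hz hz1) where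
  card_S := s.card_S
  S_eq := s.S_eq
  card_Z := s.card_Z
  Z_le_QJ := le_inf s.Z_le_Q s.Z_le_J
  card_QJ := s.card_QJ
  z'_notQ := l.z'_notQ (hz ▸ mem_zpowers z) hz1
  centJ := s.centJ
  centQ := s.centQ
  centQt := l.centQt
  J_unique := fun _ hA hc hcard => C.J_unique hA hc hcard
  aniso := fun _ hq hqJ => C.comm_comm_ne hq hqJ (l.conj_z' (hz ▸ mem_zpowers z)).1
    (l.z'_notQ (hz ▸ mem_zpowers z) hz1)
  c_S := l.c_S
  t_S := l.t_S

end Lift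

theorem exists_frame (s : Setting G) : ∃ f : Frame s, Base f := by
  obtain ⟨C⟩ := s.nonempty_chart
  obtain ⟨l⟩ := C.nonempty_lift
  obtain ⟨z, hz, -, hz1⟩ := s.exists_generator
  exact ⟨l.frame z hz hz1, l.base z hz hz1⟩

end Cfsg.Agent.McLLoc
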