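import Cfsg.Agent.McLLoc.LocalAct

/-!
# Lifts of the named elements to `M`
-/

set_option autoImplicit false
set_option linter.unusedSectionVars false

namespace Cfsg.Agent.McLLoc

open Subgroup
open scoped Pointwise

variable {G : Type*} [Group G] [Finite G] {s : Setting G}

/-- Lifts `c`, `u`, `x` of `pc`, `pu`, `px` satisfying the relations exactly. -/
structure Lift (C : Chart s) where
  /-- Lift of `pc`. -/
  c : G
  /-- Lift of `pu`. -/
  u : G
  /-- Lift of `px`. -/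
  x : G
  hc : c ∈ s.M
  hu : u ∈ s.M
  hx : x ∈ s.M
  φc : C.φ ⟨c, hc⟩ = Six.pc
  φu : C.φ ⟨u, hu⟩ = Six.pu
  φx : C.φ ⟨x, hx⟩ = Six.px
  c4 : c * c * (c * c) = 1
  u2 : u * u = 1
  uc : u * c * u⁻¹ = c⁻¹
  tu : c * c * u = u * (c * c)
  xt : x * (c * c) * x⁻¹ = u
  xu : x * u * x⁻¹ = c * c * u

namespace Chart

variable (C : Chart s)
include C

theorem exists_sylTwo : ∃ T : Subgroup s.M, T.map C.φ = Six.T8 ∧
    ∀ a ∈ T, ∀ b ∈ T, C.φ a = C.φ b → a = b := by
  have : Fact (Nat.Prime 2) := ⟨Nat.prime_two⟩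
  let P : Sylow 2 s.M := default
  have hP : Nat.card (P : Subgroup s.M) = 2 ^ 3 := by
    rw [P.card_eq_multiplicity, s.card_M]
    have : (3 ^ 4 * 360).factorization 2 = 3 := by
      rw [Nat.factorization_def _ Nat.prime_two,
        show (3 ^ 4 * 360 : ℕ) = 2 ^ 3 * 3645 by norm_num,
        padicValNat.mul (by norm_num) (by norm_num), padicValNat.prime_pow,
        padicValNat.eq_zero_of_not_dvd (by norm_num)]
    rw [this]
  have hinj : ∀ a ∈ (P : Subgroup s.M), C.φ a = 1 → a = 1 := by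
    intro a ha hphi
    have h3 : (a : G) ^ 3 = 1 := s.hJexp _ (C.φ_eq_one.1 hphi)
    have h8 : (a : G) ^ 8 = 1 := by
      have h := congrArg Subtype.val (pow_card_eq_one' (x := (⟨a, ha⟩ : (P : Subgroup s.M))))
      rw [hP] at h
      simpa using congrArg Subtype.val h
    apply Subtype.ext
    have hh := pow_gcd_eq_one.2 ⟨h3, h8⟩
    simpa using hh
  have hcard : Nat.card ((P : Subgroup s.M).map C.φ) = 8 := by
    let f := C.φ.comp (P : Subgroup s.M).subtype
    have hf : Function.Injective f := (injective_iff_map_eq_one f).2 fun a h =>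
      Subtype.ext (hinj a a.2 h)
    rw [show (P : Subgroup s.M).map C.φ = f.range by rw [MonoidHom.range_comp, range_subtype],
      ← Nat.card_congr (MonoidHom.ofInjective hf).toEquiv, hP]
    norm_num
  have h8 : (8 : ℕ) = 2 ^ (Nat.card Six.Alt6).factorization 2 := by
    rw [Six.card_alt6, Nat.factorization_def _ Nat.prime_two,
      show (360 : ℕ) = 2 ^ 3 * 45 by norm_num, padicValNat.mul (by norm_num) (by norm_num),
      padicValNat.prime_pow, padicValNat.eq_zero_of_not_dvd (by norm_num)]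
    norm_num
  let A : Sylow 2 Six.Alt6 := Sylow.ofCard _ (hcard.trans h8)
  let B : Sylow 2 Six.Alt6 := Sylow.ofCard Six.T8 (Six.card_T8.trans h8)
  obtain ⟨g, hg⟩ := MulAction.exists_smul_eq Six.Alt6 A B
  obtain ⟨m, rfl⟩ := C.surj g
  have hg' := congrArg (fun T : Sylow 2 Six.Alt6 => (T : Subgroup Six.Alt6)) hg
  simp only [Sylow.coe_subgroup_smul] at hg'
  refine ⟨(P : Subgroup s.M).map (MulAut.conj m).toMonoidHom, ?_, ?_⟩
  · refine Eq.trans ?_ hg'
    rw [Subgroup.map_map, show C.φ.comp (MulAut.conj m).toMonoidHom =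
      (MulAut.conj (C.φ m)).toMonoidHom.comp C.φ from MonoidHom.ext fun a => by simp,
      ← Subgroup.map_map]
    rfl
  · rintro _ ⟨a, ha, rfl⟩ _ ⟨b, hb, rfl⟩ h
    simp only [MulEquiv.coe_toMonoidHom, MulAut.conj_apply, map_mul, map_inv,
      mul_left_inj, mul_right_inj] at h
    have : a * b⁻¹ = 1 := hinj _ (mul_mem ha (inv_mem hb)) (by rw [map_mul, map_inv, h, mul_inv_cancel])
    rw [mul_inv_eq_one.1 this]

theorem nonempty_lift : Nonempty (Lift C) := by
  obtain ⟨T, hT, hinj⟩ := C.exists_sylTwo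
  obtain ⟨c, hcT, hc⟩ : Six.pc ∈ T.map C.φ := hT ▸ ⟨1, 0, by decide +kernel⟩
  obtain ⟨u, huT, hu⟩ : Six.pu ∈ T.map C.φ := hT ▸ ⟨0, 1, by decide +kernel⟩
  have e1 : c * c * (c * c) = 1 := hinj _ (mul_mem (mul_mem hcT hcT) (mul_mem hcT hcT)) _
    (one_mem T) (by rw [map_mul, map_mul, hc, Six.c_sq, Six.t_sq, map_one])
  have e2 : u * u = 1 := hinj _ (mul_mem huT huT) _ (one_mem T)
    (by rw [map_mul, hu, Six.u_sq, map_one])
  have e3 : u * c * u⁻¹ = c⁻¹ := hinj _ (mul_mem (mul_mem huT hcT) (inv_mem huT)) _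
    (inv_mem hcT) (by rw [map_mul, map_mul, map_inv, map_inv, hc, hu, Six.uc])
  have e4 : c * c * u = u * (c * c) := hinj _ (mul_mem (mul_mem hcT hcT) huT) _
    (mul_mem huT (mul_mem hcT hcT))
    (by rw [map_mul, map_mul, map_mul, map_mul, hc, hu, Six.c_sq, Six.tu_comm])
  obtain ⟨x₁, hx₁⟩ := C.surj Six.px
  have f2 : u⁻¹ = u := inv_eq_of_mul_eq_one_right e2
  have g4 : (c * c)⁻¹ = c * c := inv_eq_of_mul_eq_one_right e1
  -- first correction
  obtain ⟨u', hu'⟩ : ∃ u', u' = x₁ * (c * c) * x₁⁻¹ := ⟨_, rfl⟩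
  have hu'2 : u' * u' = 1 := by
    rw [hu', show x₁ * (c * c) * x₁⁻¹ * (x₁ * (c * c) * x₁⁻¹) = x₁ * (c * c * (c * c)) * x₁⁻¹ by
      group, e1, mul_one, mul_inv_cancel]
  have hφu' : C.φ u' = Six.pu := by
    rw [hu', map_mul, map_mul, map_inv, map_mul, hx₁, hc, Six.c_sq, Six.xt]
  have hk : ((u * u' : s.M) : G) ∈ s.J := C.φ_eq_one.1 (by rw [map_mul, hu, hφu', Six.u_sq])
  have hu'inv : u'⁻¹ = u' := inv_eq_of_mul_eq_one_right hu'2
  have k3 : (u * u') * (u * u') * (u * u') = 1 := Subtype.ext (by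
    simpa [pow_succ, mul_assoc] using s.hJexp _ hk)
  obtain ⟨x₂, hx₂⟩ : ∃ x₂, x₂ = (u * u')⁻¹ * x₁ := ⟨_, rfl⟩
  have h2t : x₂ * (c * c) * x₂⁻¹ = u := by
    calc x₂ * (c * c) * x₂⁻¹ = (u * u')⁻¹ * u' * (u * u') := by
          rw [hx₂, hu']; generalize c * c = t; group
      _ = u' * u * u' * u * u' := by rw [mul_inv_rev, hu'inv, f2]; group
      _ = u * ((u * u') * (u * u') * (u * u')) := by
          simp only [← mul_assoc, e2, one_mul]
      _ = u := by rw [k3, mul_one]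
  have hφx₂ : C.φ x₂ = Six.px := by
    rw [hx₂, map_mul, map_inv, map_mul, hu, hφu', Six.u_sq, inv_one, one_mul, hx₁]
  -- second correction
  obtain ⟨w, hw⟩ : ∃ w, w = x₂ * u * x₂⁻¹ := ⟨_, rfl⟩
  have hw2 : w * w = 1 := by
    rw [hw, show x₂ * u * x₂⁻¹ * (x₂ * u * x₂⁻¹) = x₂ * (u * u) * x₂⁻¹ by group, e2, mul_one,
      mul_inv_cancel]
  have hwu : Commute w u := by
    have h : Commute (c * c) u := e4
    have h' := h.symm.map (MulAut.conj x₂).toMonoidHom
    simp only [MulEquiv.coe_toMonoidHom, MulAut.conj_apply, ← hw, h2t] at h'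
    exact h'
  have hk' : ((c * c * u * w : s.M) : G) ∈ s.J := C.φ_eq_one.1 (by
    rw [hw, map_mul, map_mul, map_mul, map_mul, map_mul, map_inv, hc, hu, hφx₂, Six.c_sq,
      Six.xu]
    decide +kernel)
  have k3' : (c * c * u * w) * (c * c * u * w) * (c * c * u * w) = 1 := Subtype.ext (by
    simpa [pow_succ, mul_assoc] using s.hJexp _ hk')
  have hku : Commute (c * c * u * w) u :=
    (Commute.mul_left (Commute.mul_left (show Commute (c * c) u from e4) (Commute.refl u)) hwu)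
  obtain ⟨x, hx⟩ : ∃ x, x = (c * c * u * w)⁻¹ * x₂ := ⟨_, rfl⟩
  have hxt : x * (c * c) * x⁻¹ = u := by
    calc x * (c * c) * x⁻¹ = (c * c * u * w)⁻¹ * (x₂ * (c * c) * x₂⁻¹) * (c * c * u * w) := by
          rw [hx]; generalize c * c = t; group
      _ = u := by rw [h2t, mul_assoc, ← hku.eq, inv_mul_cancel_left]
  have hxu : x * u * x⁻¹ = c * c * u := by
    have hi : (c * c * u)⁻¹ = c * c * u := by rw [mul_inv_rev, g4, f2, ← e4]
    have hv : c * c * u * (c * c * u) = 1 := by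
      nth_rewrite 1 [← hi]; rw [inv_mul_cancel]
    have hwi : w⁻¹ = w := inv_eq_of_mul_eq_one_right hw2
    obtain ⟨v, hvdef⟩ : ∃ v, v = c * c * u := ⟨_, rfl⟩
    rw [← hvdef] at hi hv k3' hx ⊢
    calc x * u * x⁻¹ = (v * w)⁻¹ * w * (v * w) := by rw [hx, hw]; group
      _ = w * v * w * v * w := by rw [mul_inv_rev, hwi, hi]; group
      _ = v * ((v * w) * (v * w) * (v * w)) := by
          simp only [← mul_assoc, hv, one_mul]
      _ = v := by rw [k3', mul_one]
  have hφx : C.φ x = Six.px := by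
    rw [hx, map_mul, map_inv, (C.φ_eq_one (m := c * c * u * w)).2 hk', inv_one, one_mul, hφx₂]
  exact ⟨{
    c := c, u := u, x := x, hc := c.2, hu := u.2, hx := x.2,
    φc := hc, φu := hu, φx := hφx,
    c4 := congrArg Subtype.val e1, u2 := congrArg Subtype.val e2,
    uc := congrArg Subtype.val e3, tu := congrArg Subtype.val e4,
    xt := congrArg Subtype.val hxt, xu := congrArg Subtype.val hxu }⟩

end Chart

end Cfsg.Agent.McLLoc
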