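import Cfsg.Agent.McLLoc.LocalCover

/-!
# Every element of `J` is conjugate under `M` into `W`; the two kinds of centraliser
-/

set_option autoImplicit false
set_option linter.unusedSectionVars false

namespace Cfsg.Agent.McLLoc

open Subgroup
open scoped commutatorElement Pointwise

variable {G : Type*} [Group G] [Finite G] {s : Setting G}

namespace Lift

variable {C : Chart s} (l : Lift C)

include l

/-- Every element of `J` is conjugate under `M` to an element commuting with `t`. -/
theorem exists_conj_fixed (j : s.J) :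
    ∃ m : s.M, Commute l.t ((m : G) * (j : G) * (m : G)⁻¹) := by
  by_cases hj1 : j = 1
  · exact ⟨1, by rw [hj1]; simp⟩
  let K : Subgroup Six.Alt6 :=
    { carrier := {p | C.ρ p j = j}
      mul_mem' := fun {a b} ha hb => by
        show C.ρ (a * b) j = j
        rw [← C.ρ_comp, hb, ha]
      one_mem' := by
        show C.ρ 1 j = j
        rw [map_one]; rfl
      inv_mem' := fun {a} ha => by
        show C.ρ a⁻¹ j = j
        nth_rewrite 1 [← (show C.ρ a j = j from ha)]
        rw [C.ρ_comp, inv_mul_cancel, map_one]; rfl }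
  have hmove : ∀ (i : Six.Alt6), i ∈ K → ∀ g : Six.Alt6, C.ρ (g * i * g⁻¹) (C.ρ g j) = C.ρ g j := by
    intro i hi g
    rw [C.ρ_comp, inv_mul_cancel_right, ← C.ρ_comp]
    exact congrArg _ hi
  have hfin : ∀ g : Six.Alt6, C.ρ Six.pt (C.ρ g j) = C.ρ g j →
      ∃ m : s.M, Commute l.t ((m : G) * (j : G) * (m : G)⁻¹) := by
    intro g hg
    obtain ⟨m, rfl⟩ := C.surj g
    refine ⟨m, ?_⟩
    have h := (ρ_fix l.ht l.φt _).1 hg
    rwa [C.ρ_apply] at h
  by_cases hinv : ∃ i ∈ K, i * i = 1 ∧ i ≠ 1
  · obtain ⟨i, hiK, hi, hi1⟩ := hinv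
    obtain ⟨g, hg⟩ := Six.exists_conj_pt hi hi1
    exact hfin g (by rw [← hg]; exact hmove i hiK g)
  by_cases h9 : 9 ∣ Nat.card K
  · obtain ⟨P, hP⟩ := Sylow.exists_subgroup_card_pow_prime (G := K) 3 (n := 2) (by simpa using h9)
    have hcard : Nat.card (P.map K.subtype) = 9 := by
      rw [card_map_of_injective K.subtype_injective, hP]; norm_num
    obtain ⟨g, hg⟩ := Six.exists_conj_P0 (R := P.map K.subtype)
      (IsPGroup.of_card (n := 2) (by rw [hcard]; norm_num))
    have heq : (P.map K.subtype).map (MulAut.conj g).toMonoidHom = Six.P0 := by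
      refine eq_of_le_of_card_ge ?_ ?_
      · rintro _ ⟨r, hr, rfl⟩
        exact hg r hr
      · rw [card_map_of_injective (MulAut.conj g).injective, hcard, Six.card_P0]
    obtain ⟨m, rfl⟩ := C.surj g
    refine ⟨m, ?_⟩
    have hfix : ∀ p ∈ Six.P0, C.ρ p (C.ρ (C.φ m) j) = C.ρ (C.φ m) j := by
      intro p hp
      rw [← heq] at hp
      obtain ⟨r, ⟨⟨r', hr'⟩, -, rfl⟩, rfl⟩ := hp
      exact hmove r' hr' _
    have hZ : ((C.ρ (C.φ m) j : s.J) : G) ∈ s.Z := by
      rw [s.hZ]
      refine ⟨s.hJS (C.ρ (C.φ m) j).2, mem_centralizer_iff.2 fun a ha => ?_⟩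
      exact ((ρ_fix (s.S_le_M ha) rfl _).1 (hfix _ (C.φ_mem_P0 ha))).eq
    rw [C.ρ_apply] at hZ
    exact ((mem_centralizer_iff.1 l.t_cent_Z) _ hZ).symm
  exfalso
  push Not at hinv
  have hdvd : Nat.card K ∣ 360 := Six.card_alt6 ▸ card_subgroup_dvd_card K
  have hodd : ¬ 2 ∣ Nat.card K := by
    intro h2
    obtain ⟨i, hi⟩ := exists_prime_orderOf_dvd_card' (G := K) 2 (hp := ⟨Nat.prime_two⟩) h2
    have h1 : (i : Six.Alt6) * i = 1 := by
      rw [← pow_two, ← orderOf_dvd_iff_pow_eq_one, Subgroup.orderOf_coe, hi]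
    have h3 := hinv i i.2 h1
    rw [OneMemClass.coe_eq_one] at h3
    rw [h3, orderOf_one] at hi
    norm_num at hi
  let f : Six.Alt6 ⧸ K → s.J := fun q => C.ρ q.out j
  have hf : Function.Injective f := by
    intro a b h
    rw [← QuotientGroup.out_eq' a, ← QuotientGroup.out_eq' b, QuotientGroup.eq]
    show C.ρ (a.out⁻¹ * b.out) j = j
    rw [← C.ρ_comp, show C.ρ b.out j = C.ρ a.out j from h.symm, C.ρ_comp, inv_mul_cancel, map_one]
    rfl
  have hindex : K.index ≤ 81 := by
    rw [index]
    exact (Nat.card_le_card_of_injective f hf).trans_eq (s.hJcard.trans (by norm_num))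
  have hmul : Nat.card K * K.index = 360 := Six.card_alt6 ▸ card_mul_index K
  have hK5 : Nat.card K = 5 ∨ Nat.card K = 15 := by
    have hle : Nat.card K ≤ 360 := Nat.le_of_dvd (by norm_num) hdvd
    have hge : 5 ≤ Nat.card K := by
      by_contra hh
      interval_cases (Nat.card K) <;> omega
    have h40 : Nat.card K ∣ 2 ^ 3 * 45 := by simpa using hdvd
    have hcop : Nat.Coprime (Nat.card K) (2 ^ 3) :=
      ((Nat.prime_two.coprime_iff_not_dvd.2 hodd).symm).pow_right 3
    have h45 := hcop.dvd_of_dvd_mul_left h40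
    have hle45 : Nat.card K ≤ 45 := Nat.le_of_dvd (by norm_num) h45
    generalize Nat.card K = n at *
    interval_cases n <;> omega
  rcases hK5 with hK | hK
  · -- the orbit has 72 elements, and 10 elements of `J` lie outside it
    obtain ⟨z, hz, hzZ, hz1⟩ := s.exists_generator
    let B : Set s.J := {k | k = 1 ∨ ∃ i : Six.Alt6, i * i = 1 ∧ i ≠ 1 ∧ C.ρ i k = k}
    have hdisj : Disjoint (Set.range f) B := by
      rw [Set.disjoint_left]
      rintro _ ⟨q, rfl⟩ (h | ⟨i, hi, hi1, hik⟩)
      · exact hj1 ((C.ρ q.out).injective (h.trans (map_one _).symm))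
      · have hi2 : q.out⁻¹ * i * q.out ∈ K := by
          show C.ρ (q.out⁻¹ * i * q.out) j = j
          rw [← C.ρ_comp, ← C.ρ_comp, show C.ρ i (C.ρ q.out j) = C.ρ q.out j from hik, C.ρ_comp,
            inv_mul_cancel, map_one]
          rfl
        have := hinv _ hi2 (by
          rw [show q.out⁻¹ * i * q.out * (q.out⁻¹ * i * q.out) = q.out⁻¹ * (i * i) * q.out by group,
            hi, mul_one, inv_mul_cancel])
        apply hi1
        calc i = q.out * (q.out⁻¹ * i * q.out) * q.out⁻¹ := by group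
          _ = 1 := by rw [this]; group
    have hxJ : l.x * z * l.x⁻¹ ∈ s.J :=
      (mem_normalizer_iff.1 (s.M_le_normJ l.hx) z).1 (s.Z_le_J hzZ)
    let w₀ : s.J := ⟨l.x * z * l.x⁻¹, hxJ⟩
    let T : Set s.J := {k | C.ρ Six.pt k = k}
    have hw0T : w₀ ∉ T := by
      intro h
      have hc : Commute l.t (l.x * z * l.x⁻¹) := (ρ_fix l.ht l.φt w₀).1 h
      have htx : l.x * (l.t * l.u) * l.x⁻¹ = l.t := by
        calc l.x * (l.t * l.u) * l.x⁻¹ = (l.x * l.t * l.x⁻¹) * (l.x * l.u * l.x⁻¹) := by group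
          _ = l.u * (l.t * l.u) := by rw [show l.x * l.t * l.x⁻¹ = l.u from l.xt, l.xu]; rfl
          _ = l.t := by rw [← mul_assoc, ← l.t_comm_u.eq, mul_assoc, l.u2, mul_one]
      rw [← htx] at hc
      have hc2 := hc.map (MulAut.conj l.x⁻¹).toMonoidHom
      simp only [MulEquiv.coe_toMonoidHom, MulAut.conj_apply, inv_inv] at hc2
      rw [show l.x⁻¹ * (l.x * (l.t * l.u) * l.x⁻¹) * l.x = l.t * l.u by group,
        show l.x⁻¹ * (l.x * z * l.x⁻¹) * l.x = z by group] at hc2
      have htz : Commute l.t z := ((mem_centralizer_iff.1 l.t_cent_Z) z hzZ).symm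
      have huz : Commute l.u z := by
        have := htz.inv_left.mul_left hc2
        rwa [inv_mul_cancel_left] at this
      exact l.u_not_Z hzZ hz1 (by rw [huz.eq, mul_inv_cancel_right]; exact hzZ)
    have hsub : insert w₀ T ⊆ B := by
      rintro k (rfl | hk)
      · refine Or.inr ⟨Six.pu, Six.u_sq, Six.u_ne, (ρ_fix l.hu l.φu w₀).2 ?_⟩
        have htz : Commute l.t z := ((mem_centralizer_iff.1 l.t_cent_Z) z hzZ).symm
        have := htz.map (MulAut.conj l.x).toMonoidHom
        simp only [MulEquiv.coe_toMonoidHom, MulAut.conj_apply,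
          show l.x * l.t * l.x⁻¹ = l.u from l.xt] at this
        exact this
      · exact Or.inr ⟨Six.pt, Six.t_sq, Six.t_ne, hk⟩
    have hT : T.ncard = 9 := by
      rw [← Nat.card_coe_set_eq]
      exact Four.card_fixed_v C.act_tu
    have hB : 10 ≤ B.ncard := by
      have := Set.ncard_le_ncard hsub
      rw [Set.ncard_insert_of_notMem hw0T, hT] at this
      exact this
    have hO : (Set.range f).ncard = 72 := by
      rw [← Nat.card_coe_set_eq, Nat.card_range_of_injective hf, ← Subgroup.index_eq_card]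
      rw [hK] at hmul
      omega
    have htot := Set.ncard_union_eq hdisj
    have hle := Set.ncard_le_ncard (Set.subset_univ (Set.range f ∪ B))
    rw [Set.ncard_univ, s.hJcard] at hle
    omega
  · -- a group of order 15 has an element of order 15
    have : Fact (Nat.Prime 5) := ⟨by norm_num⟩
    obtain ⟨r, hr⟩ := exists_prime_orderOf_dvd_card' (G := K) 3 (by rw [hK]; norm_num)
    obtain ⟨a, ha⟩ := exists_prime_orderOf_dvd_card' (G := K) 5 (by rw [hK]; norm_num)
    let P : Sylow 5 K := Sylow.ofCard (zpowers a) (by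
      rw [Nat.card_zpowers, ha, hK, Nat.factorization_def _ (by norm_num),
        show (15 : ℕ) = 5 ^ 1 * 3 by norm_num, padicValNat.mul (by norm_num) (by norm_num),
        padicValNat.prime_pow, padicValNat.eq_zero_of_not_dvd (by norm_num)]
      norm_num)
    have hn : Nat.card (Sylow 5 K) = 1 := by
      have h1 : Nat.card (Sylow 5 K) ∣ 3 := by
        have h := P.card_dvd_index
        have h2 := card_mul_index (P : Subgroup K)
        rw [show Nat.card (P : Subgroup K) = 5 by
          rw [show (P : Subgroup K) = zpowers a from rfl, Nat.card_zpowers, ha], hK] at h2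
        rwa [show (P : Subgroup K).index = 3 by omega] at h
      have h2 := card_sylow_modEq_one 5 K
      rcases (Nat.dvd_prime Nat.prime_three).1 h1 with h | h
      · exact h
      · rw [h] at h2
        exact absurd h2 (by decide)
    have hPn : (P : Subgroup K).Normal := by
      have : Subsingleton (Sylow 5 K) := (Nat.card_eq_one_iff_unique.1 hn).1
      exact P.normal_of_subsingleton
    have hconj : r * a * r⁻¹ ∈ zpowers a := hPn.conj_mem a (mem_zpowers a) r
    obtain ⟨i, hi⟩ := mem_zpowers_iff.1 hconj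
    have hr3 : r ^ 3 = 1 := by rw [← hr]; exact pow_orderOf_eq_one r
    have e1 : r * (r * a * r⁻¹) * r⁻¹ = a ^ (i * i) := by
      rw [← hi, ← conj_zpow, ← hi, ← zpow_mul]
    have e2 : a ^ (i * i * i - 1) = 1 := by
      have : r * (r * (r * a * r⁻¹) * r⁻¹) * r⁻¹ = a := by
        calc r * (r * (r * a * r⁻¹) * r⁻¹) * r⁻¹ = r ^ 3 * a * (r ^ 3)⁻¹ := by
              rw [pow_succ, pow_two]; group
          _ = a := by rw [hr3]; group
      rw [e1, ← conj_zpow, ← hi, ← zpow_mul, ← mul_assoc] at this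
      rw [zpow_sub, zpow_one, this, mul_inv_cancel]
    rw [← orderOf_dvd_iff_zpow_eq_one, ha] at e2
    have h5 : i % 5 = 1 := by
      have hmod : (i * i * i - 1) % 5 = 0 := Int.emod_eq_zero_of_dvd e2
      rcases (by omega : i % 5 = 0 ∨ i % 5 = 1 ∨ i % 5 = 2 ∨ i % 5 = 3 ∨ i % 5 = 4) with
        h | h | h | h | h <;> simp [Int.sub_emod, Int.mul_emod, h] at hmod ⊢
    have hcomm : r * a * r⁻¹ = a := by
      rw [← hi, ← zpow_mod_orderOf, ha, show i % ((5 : ℕ) : ℤ) = 1 from h5, zpow_one]
    have hc : Commute r a := mul_inv_eq_iff_eq_mul.1 hcomm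
    have ha5 : a ^ 5 = 1 := by rw [← ha]; exact pow_orderOf_eq_one a
    have h15 : (r * a) ^ 15 = 1 := by
      rw [hc.mul_pow, show (15 : ℕ) = 3 * 5 by norm_num, pow_mul r, hr3, one_pow, mul_comm 3 5,
        pow_mul a, ha5, one_pow, one_mul]
    have h' := Six.no_fifteen ((r * a : K) : Six.Alt6) (by
      rw [← SubmonoidClass.coe_pow, h15]; rfl)
    rw [← SubmonoidClass.coe_pow, ← SubmonoidClass.coe_pow, OneMemClass.coe_eq_one,
      OneMemClass.coe_eq_one, hc.mul_pow, hc.mul_pow, hr3, ha5, one_mul, mul_one] at h'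
    rcases h' with h' | h'
    · have := orderOf_dvd_of_pow_eq_one h'
      rw [ha] at this
      norm_num at this
    · have := orderOf_dvd_of_pow_eq_one h'
      rw [hr] at this
      norm_num at this

end Lift

end Cfsg.Agent.McLLoc
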