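import Cfsg.Agent.McLLoc.LocalBasic

/-!
# The intersection of `Q` and `J`, and the centralisers of `Q` and of `J`
-/

set_option autoImplicit false
set_option linter.unusedSectionVars false

namespace Cfsg.Agent.McLLoc.Setting

open Subgroup
open scoped commutatorElement

variable {G : Type*} [Group G] [Finite G] (s : Setting G)

/-- An abelian subgroup of `Q` has order at most `3 ^ 3`. -/
theorem card_abelian_le {A : Subgroup G} (hA : A ≤ s.Q)
    (hc : ∀ a ∈ A, ∀ b ∈ A, Commute a b) : Nat.card A ≤ 3 ^ 3 := by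
  classical
  by_contra hlt
  have hd : Nat.card A ∣ 3 ^ 5 := s.hQcard ▸ card_dvd_of_le hA
  obtain ⟨k, hk5, hk⟩ := (Nat.dvd_prime_pow Nat.prime_three).1 hd
  rw [hk] at hlt
  have hk4 : 4 ≤ k := by
    by_contra hh
    exact hlt (Nat.pow_le_pow_right (by norm_num) (by omega))
  by_cases hall : ∀ q ∈ s.Q, q ∈ A
  · have : (⊤ : Subgroup s.Q) ≤ center s.Q := fun x _ => Subgroup.mem_center_iff.2 fun y =>
      Subtype.ext (hc _ (hall y y.2) _ (hall x x.2)).eq
    have h3 := card_dvd_of_le this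
    rw [card_top, s.hQcard, s.hQex.2] at h3
    norm_num at h3
  push Not at hall
  obtain ⟨q, hq, hqA⟩ := hall
  have hk4' : k = 4 := by
    by_contra hh
    have : k = 5 := by omega
    have he : A = s.Q := eq_of_le_of_card_ge hA (by rw [s.hQcard, hk, this])
    exact hqA (he ▸ hq)
  let f : A →* s.Z := MonoidHom.mk' (fun a => ⟨⁅q, (a : G)⁆, s.comm_mem_Z hq (hA a.2)⟩) (by
    intro a b
    apply Subtype.ext
    show ⁅q, (a : G) * b⁆ = ⁅q, (a : G)⁆ * ⁅q, (b : G)⁆
    have hz : Commute ⁅q, (b : G)⁆ (a : G) :=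
      s.commute_Z (s.comm_mem_Z hq (hA b.2)) (s.Q_le_S (hA a.2))
    rw [commutatorElement_def, commutatorElement_def, commutatorElement_def] at *
    calc q * ((a : G) * b) * q⁻¹ * ((a : G) * b)⁻¹
        = q * a * q⁻¹ * ((q * b * q⁻¹ * (b : G)⁻¹) * (a : G)⁻¹) := by group
      _ = q * a * q⁻¹ * ((a : G)⁻¹ * (q * b * q⁻¹ * (b : G)⁻¹)) := by rw [hz.inv_right.eq]
      _ = _ := by group)
  have hker : Nat.card f.ker ≤ 3 := by
    have hsub : f.ker.map A.subtype ≤ s.Z := by
      rintro _ ⟨⟨a, ha⟩, haK, rfl⟩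
      refine s.mem_Z_of_central (hA ha) fun p hp => ?_
      have hqa : Commute q a := commutatorElement_eq_one_iff_mul_comm.1 (congrArg Subtype.val haK)
      let B : Subgroup G := s.Q ⊓ centralizer ({a} : Set G)
      have hAB : A ≤ B := le_inf hA fun b hb => mem_centralizer_singleton_iff.2 (hc b hb a ha).eq
      have hqB : q ∈ B := ⟨hq, mem_centralizer_singleton_iff.2 hqa.eq⟩
      have hBd : Nat.card B ∣ 3 ^ 5 := s.hQcard ▸ card_dvd_of_le inf_le_left
      have hBl : 3 ^ 4 < Nat.card B := by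
        have h1 : Nat.card A < Nat.card B := by
          rcases (card_le_of_le hAB).lt_or_eq with h | h
          · exact h
          · exact absurd (eq_of_le_of_card_ge hAB h.ge ▸ hqB) hqA
        rwa [hk, hk4'] at h1
      have : B = s.Q := by
        refine eq_of_le_of_card_ge inf_le_left ?_
        obtain ⟨m, hm5, hm⟩ := (Nat.dvd_prime_pow Nat.prime_three).1 hBd
        rw [hm] at hBl ⊢
        have := (Nat.pow_lt_pow_iff_right (by norm_num : 1 < 3)).1 hBl
        rw [s.hQcard, show m = 5 by omega]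
      exact (mem_centralizer_singleton_iff.1 (this.symm ▸ hp : p ∈ B).2).symm
    have := card_dvd_of_le hsub
    rw [card_map_of_injective A.subtype_injective, s.card_Z] at this
    exact Nat.le_of_dvd (by norm_num) this
  have h1 := card_eq_card_quotient_mul_card_subgroup f.ker
  have h2 : Nat.card (A ⧸ f.ker) ≤ 3 := by
    rw [Nat.card_congr (QuotientGroup.quotientKerEquivRange f).toEquiv]
    exact (card_le_card_group _).trans s.card_Z.le
  rw [hk, hk4'] at h1
  nlinarith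

theorem card_QJ : Nat.card (s.Q ⊓ s.J : Subgroup G) = 3 ^ 3 := by
  have hd : Nat.card (s.Q ⊓ s.J : Subgroup G) ∣ 3 ^ 4 := s.hJcard ▸ card_dvd_of_le inf_le_right
  obtain ⟨k, hk4, hk⟩ := (Nat.dvd_prime_pow Nat.prime_three).1 hd
  have hle := s.card_abelian_le (A := s.Q ⊓ s.J) inf_le_left
    fun a ha b hb => s.commute_J ha.2 hb.2
  rw [hk] at hle ⊢
  have hk3 : k ≤ 3 := (Nat.pow_le_pow_iff_right (by norm_num)).1 hle
  have h3 : 3 ≤ k := by
    by_contra hh
    have hmul := card_mul_index ((s.Q ⊓ s.J).subgroupOf s.J)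
    have hrel : (s.Q ⊓ s.J).relIndex s.J ≤ 3 := by
      rw [inf_relIndex_right]
      have hQS := card_mul_index (s.Q.subgroupOf (s.S : Subgroup G))
      rw [Nat.card_congr (subgroupOfEquivOfLe s.Q_le_S).toEquiv, s.hQcard, s.card_S] at hQS
      have : s.Q.relIndex (s.S : Subgroup G) = 3 := by
        rw [relIndex]
        omega
      exact (relIndex_le_of_le_right s.hJS (by rw [this]; norm_num)).trans this.le
    rw [Nat.card_congr (subgroupOfEquivOfLe inf_le_right).toEquiv, hk, s.hJcard] at hmul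
    have h9 : 3 ^ k ≤ 3 ^ 2 := Nat.pow_le_pow_right (by norm_num) (by omega)
    rw [relIndex] at hrel
    nlinarith
  rw [le_antisymm hk3 h3]

theorem centQ_QJ {q : G} (hq : q ∈ s.Q) (h : ∀ e ∈ s.Q ⊓ s.J, Commute q e) : q ∈ s.J := by
  by_contra hqJ
  let A : Subgroup G := (s.Q ⊓ s.J) ⊔ zpowers q
  have hA : A ≤ s.Q := sup_le inf_le_left (zpowers_le.2 hq)
  have hcomm : ∀ a ∈ A, ∀ b ∈ A, Commute a b := by
    have hA2 : A = closure ((↑(s.Q ⊓ s.J) : Set G) ∪ {q}) := by
      rw [Subgroup.closure_union, closure_eq, ← zpowers_eq_closure]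
    have hm : IsMulCommutative A := by
      rw [hA2]
      refine Subgroup.isMulCommutative_closure ?_
      rintro x (hx | hx) y (hy | hy)
      · exact (s.commute_J hx.2 hy.2).eq
      · exact (Set.mem_singleton_iff.1 hy ▸ (h x hx).symm).eq
      · exact (Set.mem_singleton_iff.1 hx ▸ h y hy).eq
      · rw [Set.mem_singleton_iff.1 hx, Set.mem_singleton_iff.1 hy]
    exact fun a ha b hb => congrArg Subtype.val (mul_comm' (⟨a, ha⟩ : A) ⟨b, hb⟩)
  have h3 := s.card_abelian_le hA hcomm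
  have he : s.Q ⊓ s.J = A := eq_of_le_of_card_ge le_sup_left (h3.trans s.card_QJ.ge)
  exact hqJ (he.symm ▸ (le_sup_right : zpowers q ≤ A) (mem_zpowers q) : q ∈ s.Q ⊓ s.J).2

theorem Z_le_J : s.Z ≤ s.J := fun z hz =>
  s.centQ_QJ (s.Z_le_Q hz) fun _ he => s.commute_Z hz (s.Q_le_S he.1)

theorem S_eq : (s.S : Subgroup G) = s.Q ⊔ s.J := by
  refine (eq_of_le_of_card_ge (sup_le s.Q_le_S s.hJS) ?_).symm
  have hd : Nat.card (s.Q ⊔ s.J : Subgroup G) ∣ 3 ^ 6 :=
    s.card_S ▸ card_dvd_of_le (sup_le s.Q_le_S s.hJS)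
  obtain ⟨k, hk6, hk⟩ := (Nat.dvd_prime_pow Nat.prime_three).1 hd
  have h5 : 3 ^ 5 ≤ 3 ^ k := hk ▸ s.hQcard ▸ card_le_of_le le_sup_left
  have h5' : 5 ≤ k := (Nat.pow_le_pow_iff_right (by norm_num)).1 h5
  rcases (by omega : k = 5 ∨ k = 6) with rfl | rfl
  · exfalso
    have hJQ : s.J ≤ s.Q := by
      rw [eq_of_le_of_card_ge (le_sup_left : s.Q ≤ s.Q ⊔ s.J) (by rw [hk, s.hQcard])]
      exact le_sup_right
    have := s.card_abelian_le hJQ fun a ha b hb => s.commute_J ha hb
    rw [s.hJcard] at this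
    norm_num at this
  · rw [hk, s.card_S]

theorem Q_le_centZ : s.Q ≤ centralizer (s.Z : Set G) := s.Q_le_S.trans s.S_le_cent

theorem core3_centZ : core3 (centralizer (s.Z : Set G)) = s.Q := by
  refine le_antisymm ?_
    (le_core3 s.Q_le_centZ (s.cent_le_normZ.trans s.normZ_le_normQ) s.Q_isPGroup)
  rw [s.hQ]
  refine le_core3 ((core3_le _).trans s.cent_le_normZ) ?_ (core3_isPGroup _)
  intro g hg
  rw [mem_normalizer_iff]
  have key : ∀ g ∈ normalizer (s.Z : Set G), ∀ x ∈ core3 (centralizer (s.Z : Set G)),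
      g * x * g⁻¹ ∈ core3 (centralizer (s.Z : Set G)) := by
    intro g hg x hx
    have hN : (centralizer (s.Z : Set G)).subgroupOf (normalizer (s.Z : Set G)) =
        (normalizerMonoidHom s.Z).ker := (normalizerMonoidHom_ker s.Z).symm
    have : (core3 (centralizer (s.Z : Set G))).map (MulAut.conj g).toMonoidHom ≤
        core3 (centralizer (s.Z : Set G)) := by
      refine le_core3 ?_ ?_ ((core3_isPGroup _).map _)
      · rintro _ ⟨y, hy, rfl⟩
        have hn : ((centralizer (s.Z : Set G)).subgroupOf (normalizer (s.Z : Set G))).Normal :=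
          hN ▸ inferInstance
        have hy' : y ∈ centralizer (s.Z : Set G) := core3_le _ hy
        exact mem_subgroupOf.1 (hn.conj_mem ⟨y, s.cent_le_normZ hy'⟩ hy' ⟨g, hg⟩)
      · intro k hk
        have hn : ((centralizer (s.Z : Set G)).subgroupOf (normalizer (s.Z : Set G))).Normal :=
          hN ▸ inferInstance
        have hk' : g⁻¹ * k * g ∈ centralizer (s.Z : Set G) := by
          simpa using mem_subgroupOf.1 (hn.conj_mem ⟨k, s.cent_le_normZ hk⟩ hk ⟨g, hg⟩⁻¹)
        have h1 := mem_normalizer_iff.1 (le_normalizer_core3 _ hk')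
        rw [mem_normalizer_iff]
        intro z
        simp only [Subgroup.mem_map_equiv, MulAut.conj_symm_apply]
        rw [h1 (g⁻¹ * z * g)]
        simp [mul_assoc]
    exact this ⟨x, hx, rfl⟩
  intro x
  refine ⟨key g hg x, fun h => ?_⟩
  simpa [mul_assoc] using key g⁻¹ (inv_mem hg) _ h

theorem centQ : centralizer (s.Q : Set G) = s.Z := by
  refine le_antisymm (fun g hg => ?_) fun z hz => mem_centralizer_iff.2 fun q hq =>
    (s.commute_Z hz (s.Q_le_S hq)).eq.symm
  have h := s.hiiiZ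
  rw [s.core3_centZ] at h
  exact s.mem_Z_of_central (h hg) fun q hq => (mem_centralizer_iff.1 hg q hq).symm

/-- An element normalising `Q` and centralising `Q ⊓ J` acts on `Q` as a 3-element. -/
theorem pow_commute {g : G} (hg : ∀ q ∈ s.Q, g * q * g⁻¹ ∈ s.Q)
    (he : ∀ e ∈ s.Q ⊓ s.J, Commute g e) {n : ℕ} (hn : g ^ n = 1) (hco : ¬ 3 ∣ n) :
    ∀ q ∈ s.Q, Commute g q := by
  intro q hq
  have haQ : g * q * g⁻¹ * q⁻¹ ∈ s.Q := s.Q.mul_mem (hg q hq) (s.Q.inv_mem hq)
  have hd : g * q * g⁻¹ * q⁻¹ ∈ s.Q ⊓ s.J := by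
    refine ⟨haQ, s.centQ_QJ haQ ?_⟩
    intro e hee
    have hz := s.comm_mem_Z hq hee.1
    have hgz : Commute g ⁅q, e⁆ := he _ ⟨s.Z_le_Q hz, s.Z_le_J hz⟩
    have hge : g * e * g⁻¹ = e := by rw [(he e hee).eq, mul_inv_cancel_right]
    have h1 : g * q * g⁻¹ * e * (g * q * g⁻¹)⁻¹ = q * e * q⁻¹ := by
      calc g * q * g⁻¹ * e * (g * q * g⁻¹)⁻¹
          = g * q * g⁻¹ * (g * e * g⁻¹) * (g * q * g⁻¹)⁻¹ := by rw [hge]
        _ = g * ⁅q, e⁆ * g⁻¹ * (g * e * g⁻¹) := by rw [commutatorElement_def]; group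
        _ = q * e * q⁻¹ := by
            rw [hge, hgz.eq, mul_inv_cancel_right, commutatorElement_def, inv_mul_cancel_right]
    have h2 : Commute (q⁻¹ * (g * q * g⁻¹)) e := by
      show q⁻¹ * (g * q * g⁻¹) * e = e * (q⁻¹ * (g * q * g⁻¹))
      calc q⁻¹ * (g * q * g⁻¹) * e
          = q⁻¹ * (g * q * g⁻¹ * e * (g * q * g⁻¹)⁻¹) * (g * q * g⁻¹) := by group
        _ = e * (q⁻¹ * (g * q * g⁻¹)) := by rw [h1]; group
    have h3 : Commute (g * q * g⁻¹ * q⁻¹) (⁅q, e⁆ * e) := by
      have h4 : MulAut.conj q (q⁻¹ * (g * q * g⁻¹)) = g * q * g⁻¹ * q⁻¹ := by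
        rw [MulAut.conj_apply]; group
      have h5 : MulAut.conj q e = ⁅q, e⁆ * e := by
        rw [MulAut.conj_apply, commutatorElement_def]; group
      have := h2.map (MulAut.conj q).toMonoidHom
      rwa [MulEquiv.coe_toMonoidHom, h4, h5] at this
    have h6 : Commute (g * q * g⁻¹ * q⁻¹) ⁅q, e⁆ :=
      (s.commute_Z hz (s.Q_le_S haQ)).symm
    have := h6.inv_right.mul_right h3
    rwa [inv_mul_cancel_left] at this
  set e := g * q * g⁻¹ * q⁻¹ with hdef
  have hpow : ∀ m : ℕ, g ^ m * q * (g ^ m)⁻¹ = e ^ m * q := by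
    intro m
    induction m with
    | zero => simp
    | succ m ih =>
      rw [pow_succ', mul_inv_rev]
      calc g * g ^ m * q * ((g ^ m)⁻¹ * g⁻¹) = g * (g ^ m * q * (g ^ m)⁻¹) * g⁻¹ := by group
        _ = g * (e ^ m * q) * g⁻¹ := by rw [ih]
        _ = (g * e ^ m * g⁻¹) * (g * q * g⁻¹) := by group
        _ = e ^ m * (e * q) := by
            rw [((he e hd).pow_right m).eq, mul_inv_cancel_right, hdef, inv_mul_cancel_right]
        _ = e ^ (m + 1) * q := by rw [pow_succ, ← mul_assoc]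
  have := hpow n
  rw [hn, one_mul, inv_one, mul_one, right_eq_mul] at this
  have he3 : e ^ 3 = 1 := s.hQexp e hd.1
  have he1 : e = 1 := by
    have h1 := orderOf_dvd_of_pow_eq_one he3
    have h2 := orderOf_dvd_of_pow_eq_one this
    rcases (Nat.dvd_prime Nat.prime_three).1 h1 with h | h
    · exact orderOf_eq_one_iff.1 h
    · exact absurd (h ▸ h2) hco
  rw [hdef] at he1
  exact mul_inv_eq_iff_eq_mul.1 (mul_inv_eq_one.1 he1)

end Cfsg.Agent.McLLoc.Setting
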