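import Cfsg.Agent.McLLoc.LocalFacts

/-!
# `CentFour` from condition (iii) at all points of `J`
-/

set_option autoImplicit false
set_option linter.unusedSectionVars false

namespace Cfsg.Agent.McLLoc

open Subgroup
open scoped commutatorElement

variable {G : Type*} [Group G] [Finite G]

theorem centFour_of_strong (s : Setting G)
    (hiii : ∀ j ∈ s.J, j ≠ 1 →
      centralizer ((core3 (centralizer ({j} : Set G)) : Subgroup G) : Set G) ≤
        core3 (centralizer ({j} : Set G))) : CentFour s := by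
  obtain ⟨C⟩ := s.nonempty_chart
  intro v w hv hw hv2 hw2 hne hvw j hj hj1 hvj hwj
  set F := core3 (centralizer ({j} : Set G)) with hF
  have hCF : centralizer ({j} : Set G) ≤ normalizer (F : Set G) := le_normalizer_core3 _
  have hJC : s.J ≤ centralizer ({j} : Set G) := fun a ha =>
    mem_centralizer_singleton_iff.2 (s.commute_J ha hj).eq
  let R₀ : Subgroup G := F ⊓ normalizer (s.J : Set G)
  have hR₀p : IsPGroup 3 R₀ := (core3_isPGroup _).to_le inf_le_left
  have hR₀M : R₀ ≤ s.M := fun a ha => by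
    obtain ⟨k, hk⟩ := IsPGroup.iff_orderOf.1 hR₀p ⟨a, ha⟩
    exact s.mem_M ha.2 (by rw [← hk, Subgroup.orderOf_mk])
  let R : Subgroup Six.Alt6 := (R₀.subgroupOf s.M).map C.φ
  have hRp : IsPGroup 3 R := (hR₀p.comap_of_injective s.M.subtype s.M.subtype_injective).map _
  have hconj : ∀ a : G, ∀ ha : a ∈ s.M, Commute a j →
      ∀ r ∈ R, C.φ ⟨a, ha⟩ * r * (C.φ ⟨a, ha⟩)⁻¹ ∈ R := by
    rintro a ha haj _ ⟨⟨r, hrM⟩, hr, rfl⟩
    refine ⟨⟨a, ha⟩ * ⟨r, hrM⟩ * ⟨a, ha⟩⁻¹, ?_, by rw [map_mul, map_mul, map_inv]⟩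
    have hr' : r ∈ R₀ := hr
    have haN := s.M_le_normJ ha
    show a * r * a⁻¹ ∈ R₀
    exact ⟨(mem_normalizer_iff.1 (hCF (mem_centralizer_singleton_iff.2 haj.eq)) r).1 hr'.1,
      Subgroup.mul_mem _ (Subgroup.mul_mem _ haN hr'.2) (Subgroup.inv_mem _ haN)⟩
  have h2 : ∀ a : G, ∀ ha : a ∈ s.M, orderOf a = 2 →
      C.φ ⟨a, ha⟩ * C.φ ⟨a, ha⟩ = 1 ∧ C.φ ⟨a, ha⟩ ≠ 1 := by
    intro a ha ha2
    refine ⟨?_, fun h => ?_⟩
    · rw [← map_mul, show (⟨a, ha⟩ * ⟨a, ha⟩ : s.M) = 1 from Subtype.ext (by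
        show a * a = 1
        rw [← pow_two, ← ha2]; exact pow_orderOf_eq_one a), map_one]
    · have h3 := orderOf_dvd_of_pow_eq_one (s.hJexp a (C.φ_eq_one.1 h))
      rw [ha2] at h3
      norm_num at h3
  have hφne : C.φ ⟨v, hv⟩ ≠ C.φ ⟨w, hw⟩ := by
    intro h
    have hJ : v * w⁻¹ ∈ s.J := (C.φ_eq_one (m := ⟨v, hv⟩ * ⟨w, hw⟩⁻¹)).1
      (by rw [map_mul, map_inv, h, mul_inv_cancel])
    have hv' : v * v = 1 := by rw [← pow_two, ← hv2]; exact pow_orderOf_eq_one v
    have hw' : w * w = 1 := by rw [← pow_two, ← hw2]; exact pow_orderOf_eq_one w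
    have hwi : w⁻¹ = w := inv_eq_of_mul_eq_one_right hw'
    have hvv : v * w⁻¹ * (v * w⁻¹) = 1 := by
      rw [hwi]
      calc v * w * (v * w) = v * (w * v) * w := by group
        _ = v * (v * w) * w := by rw [hvw.eq]
        _ = 1 := by rw [← mul_assoc, hv', one_mul, hw']
    have h3 := s.hJexp _ hJ
    rw [pow_succ, pow_two, hvv, one_mul] at h3
    exact hne (mul_inv_eq_one.1 h3)
  have hRbot : R = ⊥ := Six.three_norm_trivial (h2 v hv hv2).1 (h2 w hw hw2).1 (h2 v hv hv2).2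
    (h2 w hw hw2).2 hφne (by
      rw [← map_mul, ← map_mul]
      exact congrArg C.φ (Subtype.ext hvw.eq)) hRp (hconj v hv hvj) (hconj w hw hwj)
  have hR₀J : R₀ ≤ s.J := by
    intro a ha
    have : C.φ ⟨a, hR₀M ha⟩ ∈ R := ⟨_, ha, rfl⟩
    rw [hRbot, mem_bot] at this
    exact C.φ_eq_one.1 this
  have hFJ : F ≤ s.J := by
    by_contra hnle
    let P : Subgroup G := F ⊔ s.J
    have hPp : IsPGroup 3 P := by
      have h := IsPGroup.to_sup_of_normal_right' (IsPGroup.of_card s.hJcard) (core3_isPGroup _)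
        (hJC.trans hCF)
      rwa [sup_comm] at h
    have hne' : s.J.subgroupOf P < ⊤ := lt_top_iff_ne_top.2 fun h => hnle (by
      rw [subgroupOf_eq_top] at h
      exact le_sup_left.trans h)
    have : Group.IsNilpotent P := hPp.isNilpotent
    obtain ⟨⟨a, haP⟩, haN, haJ⟩ := SetLike.exists_of_lt
      (Group.normalizerCondition_of_isNilpotent (s.J.subgroupOf P) hne')
    have haP' : a ∈ ((s.J ⊔ F : Subgroup G) : Set G) := by rw [sup_comm]; exact haP
    rw [coe_mul_of_left_le_normalizer_right _ _ (hJC.trans hCF)] at haP'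
    obtain ⟨b, hb, f, hf, rfl⟩ := haP'
    have haNG : b * f ∈ normalizer (s.J : Set G) := by
      rw [mem_normalizer_iff]
      intro x
      have key : ∀ x ∈ s.J, ∀ a : P, a ∈ normalizer (s.J.subgroupOf P : Set P) →
          (a : G) * x * (a : G)⁻¹ ∈ s.J := fun x hx a ha =>
        (mem_normalizer_iff.1 ha ⟨x, (le_sup_right : s.J ≤ P) hx⟩).1 hx
      refine ⟨fun hx => key x hx _ haN, fun hx => ?_⟩
      simpa [mul_assoc] using key _ hx _ (inv_mem haN)
    have hfN : f ∈ normalizer (s.J : Set G) := by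
      have := mul_mem (inv_mem ((le_normalizer : s.J ≤ _) hb)) haNG
      simpa [mul_assoc] using this
    exact haJ (mul_mem hb (hR₀J ⟨hf, hfN⟩))
  have hJF : F = s.J := by
    refine le_antisymm hFJ (fun a ha => hiii j hj hj1 ?_)
    exact mem_centralizer_iff.2 fun b hb => (s.commute_J (hFJ hb) ha).eq
  exact hJF ▸ hCF

end Cfsg.Agent.McLLoc
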