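import Cfsg.Agent.McLLoc.LocalWZ

/-!
# The involution inverts `Q` modulo `Z` and lies in `L`
-/

set_option autoImplicit false
set_option linter.unusedSectionVars false

namespace Cfsg.Agent.McLLoc

open Subgroup
open scoped commutatorElement

variable {G : Type*} [Group G] [Finite G] (s : Setting G)

/-- An element of order 5 fixes pointwise, modulo `Z`, an invariant subgroup that has order at most 81
or contains a fixed element outside `Z`. -/
theorem fiveTrivial (f : G) (hf : orderOf f = 5) (hfZ : f ∈ centralizer (s.Z : Set G))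
    (U : Subgroup G) (hUQ : U ≤ s.Q) (hZU : s.Z ≤ U)
    (hU : Nat.card U ≤ 3 ^ 4 ∨ ∃ q ∈ U, q ∉ s.Z ∧ ⁅f, q⁆ ∈ s.Z)
    (hinv : ∀ q ∈ U, f * q * f⁻¹ ∈ U) : ∀ q ∈ U, ⁅f, q⁆ ∈ s.Z := by
  have hZn : U ≤ centralizer (s.Z : Set G) := hUQ.trans s.Q_le_centZ
  have hN : (s.Z.subgroupOf U).Normal := normal_subgroupOf_of_le_normalizer
    (hZn.trans s.cent_le_normZ)
  let ψ : U ≃* U :=
    { toFun := fun q => ⟨f * q * f⁻¹, hinv q q.2⟩
      invFun := fun q => ⟨f⁻¹ * q * f, by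
        have h4 : f⁻¹ = f ^ 4 := inv_eq_of_mul_eq_one_right (by
          rw [← pow_succ', show (4 : ℕ) + 1 = orderOf f by rw [hf], pow_orderOf_eq_one])
        have key : ∀ k : ℕ, f ^ k * q * (f ^ k)⁻¹ ∈ U := by
          intro k
          induction k with
          | zero => simp
          | succ k ih =>
            have := hinv _ ih
            rwa [pow_succ', show f * f ^ k * q * (f * f ^ k)⁻¹ =
              f * (f ^ k * q * (f ^ k)⁻¹) * f⁻¹ by group]
        have := key 4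
        rwa [← h4, inv_inv] at this⟩
      left_inv := fun q => Subtype.ext (by simp [mul_assoc])
      right_inv := fun q => Subtype.ext (by simp [mul_assoc])
      map_mul' := fun p q => Subtype.ext (by simp [mul_assoc]) }
  have hψZ : (s.Z.subgroupOf U).map ψ.toMonoidHom = s.Z.subgroupOf U := by
    refine eq_of_le_of_card_ge ?_ ?_
    · rintro _ ⟨q, hq, rfl⟩
      show f * (q : G) * f⁻¹ ∈ s.Z
      have hq' : (q : G) ∈ s.Z := hq
      rw [← (mem_centralizer_iff.1 hfZ) _ hq', mul_inv_cancel_right]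
      exact hq'
    · rw [card_map_of_injective (K := s.Z.subgroupOf U) ψ.injective]
  let θ := QuotientGroup.congr (s.Z.subgroupOf U) (s.Z.subgroupOf U) ψ hψZ
  let β := U ⧸ s.Z.subgroupOf U
  have hcard : Nat.card β * 3 = Nat.card U := by
    rw [← s.card_Z, ← Nat.card_congr (subgroupOfEquivOfLe hZU).toEquiv]
    exact (card_eq_card_quotient_mul_card_subgroup _).symm
  have hdvd : Nat.card β ∣ 3 ^ 5 := by
    refine (dvd_mul_right _ 3).trans ?_
    rw [hcard, ← s.hQcard]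
    exact card_dvd_of_le hUQ
  obtain ⟨k, -, hk⟩ := (Nat.dvd_prime_pow Nat.prime_three).1 hdvd
  have hk4 : k ≤ 4 := by
    have : 3 ^ k * 3 ≤ 3 ^ 5 := by
      rw [← hk, hcard, ← s.hQcard]
      exact card_le_of_le hUQ
    rw [← pow_succ] at this
    have := (Nat.pow_le_pow_iff_right (by norm_num : 1 < 3)).1 this
    omega
  have hψpow : ∀ (n : ℕ) (q : U), ((ψ ^ n) q : G) = f ^ n * q * (f ^ n)⁻¹ := by
    intro n
    induction n with
    | zero => intro q; simp
    | succ n ih =>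
      intro q
      rw [pow_succ' ψ n, pow_succ' f n]
      show f * ((ψ ^ n) q : G) * f⁻¹ = _
      rw [ih]; group
  have hθ5 : ∀ x : β, θ (θ (θ (θ (θ x)))) = x := by
    intro x
    induction x using QuotientGroup.induction_on with
    | H q =>
      have h5 := hψpow 5 q
      rw [← hf, pow_orderOf_eq_one, one_mul, inv_one, mul_one] at h5
      have : (ψ (ψ (ψ (ψ (ψ q))))) = q := by
        apply Subtype.ext
        rw [hf] at h5
        exact h5
      show (QuotientGroup.mk (ψ (ψ (ψ (ψ (ψ q))))) : β) = _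
      rw [this]
  let F : Subgroup β := MonoidHom.eqLocus θ.toMonoidHom (MonoidHom.id β)
  have : Fact (Nat.Prime 5) := ⟨by norm_num⟩
  let σ : Equiv.Perm β := θ.toEquiv
  have hσ : σ ^ 5 ^ 1 = 1 := by
    ext x
    simp only [pow_one, pow_succ, pow_zero, one_mul, Equiv.Perm.mul_apply, Equiv.Perm.one_apply]
    exact hθ5 x
  classical
  have : Fintype β := Fintype.ofFinite β
  have hmod := Equiv.Perm.card_compl_support_modEq (p := 5) (σ := σ) hσ
  have hF : Nat.card F = (σ.support)ᶜ.card := by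
    rw [Nat.card_eq_fintype_card, ← Fintype.card_coe]
    refine Fintype.card_congr (Equiv.subtypeEquivRight fun x => ?_)
    simp [σ]
    exact Iff.rfl
  have hFd : Nat.card F ∣ 3 ^ k := hk ▸ card_subgroup_dvd_card F
  obtain ⟨i, hi, hFi⟩ := (Nat.dvd_prime_pow Nat.prime_three).1 hFd
  rw [← hF, ← Nat.card_eq_fintype_card, hk, hFi] at hmod
  have htop : F = ⊤ := by
    apply eq_top_of_card_eq
    rw [hFi, hk]
    congr 1
    have hor : k ≤ 3 ∨ i ≠ 0 := by
      rcases hU with hU | ⟨q, hqU, hqZ, hqf⟩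
      · refine Or.inl ?_
        have : 3 ^ k * 3 ≤ 3 ^ 4 := by rw [← hk, hcard]; exact hU
        rw [← pow_succ] at this
        have := (Nat.pow_le_pow_iff_right (by norm_num : 1 < 3)).1 this
        omega
      · refine Or.inr fun h0 => hqZ ?_
        have hF1 : F = ⊥ := card_eq_one.1 (by rw [hFi, h0, pow_zero])
        have hmem : (QuotientGroup.mk (⟨q, hqU⟩ : U) : β) ∈ F := by
          show (QuotientGroup.mk (ψ ⟨q, hqU⟩) : β) = QuotientGroup.mk (⟨q, hqU⟩ : U)
          rw [QuotientGroup.eq, mem_subgroupOf]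
          have h1 : ⁅f, q⁆ * q = f * q * f⁻¹ := by rw [commutatorElement_def]; group
          have h2 : (f * q * f⁻¹)⁻¹ * q = q⁻¹ * ⁅f, q⁆⁻¹ * q := by rw [← h1]; group
          simp only [ψ, MulEquiv.coe_mk, Equiv.coe_fn_mk, Subgroup.coe_mul, Subgroup.coe_inv]
          rw [h2, mul_assoc, (s.commute_Z (inv_mem hqf) (s.Q_le_S (hUQ hqU))).eq,
            inv_mul_cancel_left]
          exact inv_mem hqf
        rw [hF1, mem_bot, QuotientGroup.eq_one_iff, mem_subgroupOf] at hmem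
        exact hmem
    interval_cases k <;> interval_cases i <;>
      first | rfl | (exfalso; revert hmod; decide) | (exfalso; omega)
  intro q hq
  have hx : θ (QuotientGroup.mk (⟨q, hq⟩ : U)) = QuotientGroup.mk (⟨q, hq⟩ : U) :=
    show (QuotientGroup.mk (⟨q, hq⟩ : U) : β) ∈ F from htop ▸ mem_top _
  have h1 : (QuotientGroup.mk (ψ ⟨q, hq⟩) : β) = QuotientGroup.mk (⟨q, hq⟩ : U) := hx
  have h2 := QuotientGroup.eq.1 h1.symm
  rw [mem_subgroupOf] at h2
  have h3 : q⁻¹ * (f * q * f⁻¹) ∈ s.Z := by simpa [ψ] using h2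
  have h4 := (mem_normalizer_iff.1 (s.cent_le_normZ (hZn hq)) _).1 h3
  simpa [commutatorElement_def, mul_assoc] using h4

namespace Setting

theorem comm_mul_right {q a b : G} (hq : q ∈ s.Q) (ha : a ∈ s.Q) (hb : b ∈ s.Q) :
    ⁅q, a * b⁆ = ⁅q, a⁆ * ⁅q, b⁆ := by
  have h : Commute ⁅q, b⁆ a⁻¹ :=
    (s.commute_Z (s.comm_mem_Z hq hb) (s.Q_le_S ha)).inv_right
  calc ⁅q, a * b⁆ = q * a * q⁻¹ * (⁅q, b⁆ * a⁻¹) := by simp only [commutatorElement_def]; group
    _ = ⁅q, a⁆ * ⁅q, b⁆ := by rw [h.eq]; simp only [commutatorElement_def]; group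

theorem comm_mul_left {a b q : G} (ha : a ∈ s.Q) (hb : b ∈ s.Q) (hq : q ∈ s.Q) :
    ⁅a * b, q⁆ = ⁅a, q⁆ * ⁅b, q⁆ := by
  rw [← commutatorElement_inv q (a * b), ← commutatorElement_inv q a, ← commutatorElement_inv q b,
    s.comm_mul_right hq ha hb, mul_inv_rev]
  exact ((s.commute_Z (s.comm_mem_Z hq hb) (s.Q_le_S ((s.Z_le_Q) (s.comm_mem_Z hq ha)))).inv_inv).eq

theorem comm_inv_left {a q : G} (ha : a ∈ s.Q) (hq : q ∈ s.Q) : ⁅a⁻¹, q⁆ = ⁅a, q⁆⁻¹ := by
  apply eq_inv_of_mul_eq_one_left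
  rw [← s.comm_mul_left (inv_mem ha) ha hq, inv_mul_cancel, commutatorElement_one_left]

/-- The elements acting trivially on `Q` modulo `Z` lie in `Q`. -/
theorem mem_Q_of_trivial {g : G} (hg : g ∈ normalizer (s.Z : Set G))
    (h : ∀ q ∈ s.Q, ⁅g, q⁆ ∈ s.Z) (hgz : g ∈ centralizer (s.Z : Set G)) : g ∈ s.Q := by
  let K : Subgroup G :=
    { carrier := {g | g ∈ centralizer (s.Z : Set G) ∧ ∀ q ∈ s.Q, ⁅g, q⁆ ∈ s.Z}
      mul_mem' := by
        rintro a b ⟨ha, ha'⟩ ⟨hb, hb'⟩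
        refine ⟨mul_mem ha hb, fun q hq => ?_⟩
        have e : ⁅a * b, q⁆ = a * ⁅b, q⁆ * a⁻¹ * ⁅a, q⁆ := by
          simp only [commutatorElement_def]; group
        rw [e, ← (mem_centralizer_iff.1 ha) _ (hb' q hq), mul_inv_cancel_right]
        exact mul_mem (hb' q hq) (ha' q hq)
      one_mem' := ⟨one_mem _, fun q _ => by simp⟩
      inv_mem' := by
        rintro a ⟨ha, ha'⟩
        refine ⟨inv_mem ha, fun q hq => ?_⟩
        have e : ⁅a⁻¹, q⁆ = a⁻¹ * ⁅a, q⁆⁻¹ * a := by simp only [commutatorElement_def]; group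
        rw [e, mul_assoc, (mem_centralizer_iff.1 ha) _ (inv_mem (ha' q hq)), inv_mul_cancel_left]
        exact inv_mem (ha' q hq) }
  have hKp : IsPGroup 3 K := by
    rw [IsPGroup.iff_orderOf]
    rintro ⟨a, hac, hat⟩
    obtain ⟨i, m, hm, hn⟩ :=
      Nat.exists_eq_pow_mul_and_not_dvd (orderOf_pos a).ne' 3 (by norm_num)
    refine ⟨i, ?_⟩
    rw [← orderOf_injective K.subtype K.subtype_injective]
    show orderOf a = 3 ^ i
    have hbK : a ^ 3 ^ i ∈ K := pow_mem (show a ∈ K from ⟨hac, hat⟩) _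
    have hh : (a ^ 3 ^ i) ^ m = 1 := by rw [← pow_mul, ← hn, pow_orderOf_eq_one]
    obtain ⟨hbc, hbt⟩ := hbK
    have hcomm : ∀ q ∈ s.Q, Commute (a ^ 3 ^ i) q := by
      intro q hq
      set b := a ^ 3 ^ i with hb
      have hz := hbt q hq
      have hzb : Commute b ⁅b, q⁆ := ((mem_centralizer_iff.1 hbc) _ hz).symm
      have hq3 : ⁅b, q⁆ ^ 3 = 1 := s.hQexp _ (s.Z_le_Q hz)
      have hpow : ∀ k : ℕ, ⁅b ^ k, q⁆ = ⁅b, q⁆ ^ k := by
        intro k
        induction k with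
        | zero => simp
        | succ k ih =>
          rw [pow_succ', pow_succ]
          have e : ⁅b * b ^ k, q⁆ = b * ⁅b ^ k, q⁆ * b⁻¹ * ⁅b, q⁆ := by
            simp only [commutatorElement_def]; group
          rw [e, ih, (hzb.pow_right k).eq, mul_inv_cancel_right]
      have h1 := hpow m
      rw [hh, commutatorElement_one_left] at h1
      have h2 : ⁅b, q⁆ = 1 := by
        rw [← pow_one ⁅b, q⁆, ← show Nat.gcd 3 m = 1 from
          (Nat.prime_three.coprime_iff_not_dvd.2 hm), pow_gcd_eq_one]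
        exact ⟨hq3, h1.symm⟩
      exact commutatorElement_eq_one_iff_mul_comm.1 h2
    have hmem : a ^ 3 ^ i ∈ s.Z := by
      rw [← s.centQ]
      exact mem_centralizer_iff.2 fun q hq => (hcomm q hq).eq.symm
    have h3 : (a ^ 3 ^ i) ^ 3 = 1 := s.hQexp _ (s.Z_le_Q hmem)
    have h1 : a ^ 3 ^ i = 1 := by
      rw [← pow_one (a ^ 3 ^ i), ← show Nat.gcd 3 m = 1 from
        (Nat.prime_three.coprime_iff_not_dvd.2 hm), pow_gcd_eq_one]
      exact ⟨h3, hh⟩
    have hd := orderOf_dvd_of_pow_eq_one h1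
    rw [hn] at hd
    have : m = 1 := Nat.dvd_one.1
      (Nat.dvd_of_mul_dvd_mul_left (k := 3 ^ i) (pow_pos (by norm_num) i) (by simpa using hd))
    rw [hn, this, mul_one]
  have hKN : normalizer (s.Z : Set G) ≤ normalizer (K : Set G) := by
    have key : ∀ n ∈ normalizer (s.Z : Set G), ∀ a ∈ K, n * a * n⁻¹ ∈ K := by
      rintro n hn a ⟨hac, hat⟩
      refine ⟨mem_centralizer_iff.2 fun z hz => ?_, fun q hq => ?_⟩
      · have hz' : n⁻¹ * z * n ∈ s.Z := (mem_normalizer_iff''.1 hn z).1 hz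
        calc z * (n * a * n⁻¹) = n * ((n⁻¹ * z * n) * a) * n⁻¹ := by group
          _ = n * (a * (n⁻¹ * z * n)) * n⁻¹ := by rw [(mem_centralizer_iff.1 hac) _ hz']
          _ = n * a * n⁻¹ * z := by group
      · have hq' : n⁻¹ * q * n ∈ s.Q := (mem_normalizer_iff''.1 (s.normZ_le_normQ hn) q).1 hq
        have e : ⁅n * a * n⁻¹, q⁆ = n * ⁅a, n⁻¹ * q * n⁆ * n⁻¹ := by
          simp only [commutatorElement_def]; group
        rw [e]
        exact (mem_normalizer_iff.1 hn _).1 (hat _ hq')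
    intro n hn
    refine mem_normalizer_iff.2 fun a => ⟨key n hn a, fun ha => ?_⟩
    simpa [mul_assoc] using key n⁻¹ (inv_mem hn) _ ha
  have hKle : K ≤ s.Q := by
    rw [s.hQ]
    exact le_core3 (fun a ha => s.cent_le_normZ ha.1) hKN hKp
  exact hKle ⟨hgz, h⟩

/-- An element of order 5 fixes pointwise, modulo `Z`, an invariant subgroup of order at most 81. -/
theorem five_trivial {s : Setting G} (f : s.L) (hf : orderOf f = 5)
    (hfN : (f : G) ∈ normalizer (s.Q : Set G)) (hfZ : (f : G) ∈ centralizer (s.Z : Set G))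
    (U : Subgroup G) (hUQ : U ≤ s.Q) (hZU : s.Z ≤ U) (hU : Nat.card U ≤ 3 ^ 4)
    (hinv : ∀ q ∈ U, (f : G) * q * (f : G)⁻¹ ∈ U) :
    ∀ q ∈ U, ⁅(f : G), q⁆ ∈ s.Z :=
  McLLoc.fiveTrivial s (f : G) (by rw [Subgroup.orderOf_coe, hf]) hfZ U hUQ hZU (Or.inl hU) hinv

end Setting

variable {s} {C : Chart s} (l : Lift C)

namespace Lift

theorem t_Q : ∀ q ∈ s.Q, l.t * q * l.t⁻¹ * q ∈ s.Z := by
  have htZ := l.t_cent_Z
  have htQ : ∀ q ∈ s.Q, l.t * q * l.t⁻¹ ∈ s.Q := fun q hq =>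
    (mem_normalizer_iff.1 (s.normZ_le_normQ (s.cent_le_normZ htZ)) q).1 hq
  have hti : l.t⁻¹ = l.t := inv_eq_of_mul_eq_one_right l.t_two
  have hfix : ∀ z ∈ s.Z, l.t * z * l.t⁻¹ = z := fun z hz => by
    rw [← (mem_centralizer_iff.1 htZ) z hz, mul_inv_cancel_right]
  have hinv : ∀ q ∈ s.Q, l.t * q * l.t⁻¹ * q ∈ s.Q ⊓ s.J := fun q hq =>
    ⟨s.Q.mul_mem (htQ q hq) hq, l.t_S q (s.Q_le_S hq)⟩
  have hE : ∀ e ∈ s.Q ⊓ s.J, l.t * e * l.t⁻¹ * e ∈ s.Z := by
    intro e he
    have heQ := s.Q.mul_mem (htQ e he.1) he.1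
    refine s.mem_Z_of_central heQ fun q hq => ?_
    apply Commute.symm
    apply commutatorElement_eq_one_iff_mul_comm.1
    have h1 : ⁅q, e⁆ = ⁅l.t * q * l.t⁻¹, l.t * e * l.t⁻¹⁆ := by
      rw [← hfix _ (s.comm_mem_Z hq he.1)]
      simp only [commutatorElement_def]
      group
    obtain ⟨f, hf, hfe⟩ : ∃ f, f ∈ s.Q ⊓ s.J ∧ l.t * q * l.t⁻¹ = f * q⁻¹ :=
      ⟨_, hinv q hq, by rw [mul_inv_cancel_right]⟩
    have hteJ : l.t * e * l.t⁻¹ ∈ s.J := (mem_normalizer_iff.1 (s.M_le_normJ l.ht) e).1 he.2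
    rw [hfe, s.comm_mul_left hf.1 (inv_mem hq) (htQ e he.1),
      commutatorElement_eq_one_iff_mul_comm.2 (s.commute_J hf.2 hteJ), one_mul,
      s.comm_inv_left hq (htQ e he.1)] at h1
    rw [s.comm_mul_right hq (htQ e he.1) he.1, h1, mul_inv_cancel]
  intro q hq
  set d := l.t * q * l.t⁻¹ * q with hd
  have hdE := hinv q hq
  have h2 := hE d hdE
  have htd : l.t * d * l.t⁻¹ = ⁅q, l.t * q * l.t⁻¹⁆ * d := by
    have e1 : l.t * d * l.t⁻¹ = (l.t * l.t) * q * (l.t * l.t)⁻¹ * (l.t * q * l.t⁻¹) := by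
      rw [hd]; group
    rw [e1, l.t_two, hd, commutatorElement_def]
    group
  rw [htd, mul_assoc, mul_mem_cancel_left (s.comm_mem_Z hq (htQ q hq))] at h2
  have hd3 : d ^ 3 = 1 := s.hQexp d hdE.1
  have : d = d * d * (d * d) := by
    rw [show d * d * (d * d) = d ^ 3 * d by simp [pow_succ, mul_assoc], hd3, one_mul]
  rw [this]
  exact mul_mem h2 h2

theorem centQt : s.Q ⊓ centralizer ({l.t} : Set G) = s.Z := by
  refine le_antisymm ?_ fun z hz => ⟨s.Z_le_Q hz,
    mem_centralizer_singleton_iff.2 (((mem_centralizer_iff.1 l.t_cent_Z) z hz))⟩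
  rintro q ⟨hq, hqt⟩
  have h := l.t_Q q hq
  have hc : Commute l.t q := (mem_centralizer_singleton_iff.1 hqt).symm
  rw [hc.eq, mul_inv_cancel_right] at h
  have hq3 : q ^ 3 = 1 := s.hQexp q hq
  have : q = q * q * (q * q) := by
    rw [show q * q * (q * q) = q ^ 3 * q by simp [pow_succ, mul_assoc], hq3, one_mul]
  rw [this]
  exact mul_mem h h

theorem t_memL : l.t ∈ s.L := by
  have := s.hQn
  obtain ⟨e⟩ := s.hLq
  obtain ⟨g, hg⟩ := exists_prime_orderOf_dvd_card' (G := s.L) 2 (hp := ⟨Nat.prime_two⟩)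
    (by rw [s.card_L]; norm_num)
  let π : s.L →* Six.SL25 := e.toMonoidHom.comp (QuotientGroup.mk' (s.Q.subgroupOf s.L))
  have hπ : ∀ a : s.L, π a = 1 ↔ (a : G) ∈ s.Q := fun a => by
    simp [π, mem_subgroupOf]
  have hg2 : g * g = 1 := by rw [← pow_two, ← hg]; exact pow_orderOf_eq_one g
  have hgQ : (g : G) ∉ s.Q := by
    intro h
    have h3 : g ^ 3 = 1 := Subtype.ext (s.hQexp _ h)
    have := orderOf_dvd_of_pow_eq_one h3
    rw [hg] at this
    norm_num at this
  have hcen : ∀ a : s.L, ((g * a * g⁻¹ * a⁻¹ : s.L) : G) ∈ s.Q := by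
    intro a
    rw [← hπ, map_mul, map_mul, map_mul, map_inv, map_inv,
      Six.central_of_sq (π g) (by rw [← map_mul, hg2, map_one]) (π a), mul_inv_cancel_right,
      mul_inv_cancel]
  have hgZ : (g : G) ∈ centralizer (s.Z : Set G) := s.L_le_centZ g.2
  have hgN := s.normZ_le_normQ (s.cent_le_normZ hgZ)
  have hgg : (g : G) * g = 1 := congrArg Subtype.val hg2
  have hgi : (g : G)⁻¹ = g := inv_eq_of_mul_eq_one_right hgg
  have hgQc : ∀ q ∈ s.Q, (g : G) * q * (g : G)⁻¹ ∈ s.Q := fun q hq =>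
    (mem_normalizer_iff.1 hgN q).1 hq
  have hzc : ∀ z ∈ s.Z, (g : G) * z * (g : G)⁻¹ = z := fun z hz => by
    rw [← (mem_centralizer_iff.1 hgZ) z hz, mul_inv_cancel_right]
  -- the two eigen subgroups
  let U : Bool → Subgroup G := fun b =>
    { carrier := {q | q ∈ s.Q ∧ (g : G) * q * (g : G)⁻¹ * (if b then q else q⁻¹) ∈ s.Z}
      mul_mem' := by
        rintro p q ⟨hp, hp'⟩ ⟨hq, hq'⟩
        refine ⟨mul_mem hp hq, ?_⟩
        cases b
        · simp only [Bool.false_eq_true, if_false] at hp' hq' ⊢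
          rw [show (g : G) * (p * q) * (g : G)⁻¹ * (p * q)⁻¹ =
            (g : G) * p * (g : G)⁻¹ * ((g : G) * q * (g : G)⁻¹ * q⁻¹) * p⁻¹ by group,
            mul_assoc, (s.commute_Z hq' (s.Q_le_S (inv_mem hp))).eq, ← mul_assoc]
          exact mul_mem hp' hq'
        · simp only [if_true] at hp' hq' ⊢
          have hk := s.comm_mem_Z (hgQc q hq) hp
          obtain ⟨P, hP⟩ : ∃ P, P = (g : G) * p * (g : G)⁻¹ := ⟨_, rfl⟩
          obtain ⟨R, hR⟩ : ∃ R, R = (g : G) * q * (g : G)⁻¹ := ⟨_, rfl⟩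
          have hRp : R * p = ⁅R, p⁆ * (p * R) := by simp only [commutatorElement_def]; group
          have hPk : Commute ⁅R, p⁆ P :=
            s.commute_Z (hR ▸ hk) (s.Q_le_S (hP ▸ hgQc p hp))
          rw [← hP] at hp'
          rw [← hR] at hq'
          have e : (g : G) * (p * q) * (g : G)⁻¹ * (p * q) = ⁅R, p⁆ * ((P * p) * (R * q)) := by
            calc (g : G) * (p * q) * (g : G)⁻¹ * (p * q) = P * (R * p) * q := by
                  rw [hP, hR]; group
              _ = (P * ⁅R, p⁆) * (p * R) * q := by rw [hRp]; simp only [mul_assoc]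
              _ = ⁅R, p⁆ * ((P * p) * (R * q)) := by
                  rw [← hPk.eq]; simp only [mul_assoc]
          rw [e]
          exact mul_mem (hR ▸ hk) (mul_mem hp' hq')
      one_mem' := ⟨one_mem _, by cases b <;> simp⟩
      inv_mem' := by
        rintro q ⟨hq, hq'⟩
        refine ⟨inv_mem hq, ?_⟩
        cases b
        · simp only [Bool.false_eq_true, if_false] at hq' ⊢
          rw [show (g : G) * q⁻¹ * (g : G)⁻¹ * q⁻¹⁻¹ =
            q⁻¹ * (((g : G) * q * (g : G)⁻¹ * q⁻¹)⁻¹ * q) by group,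
            (s.commute_Z (inv_mem hq') (s.Q_le_S hq)).eq, inv_mul_cancel_left]
          exact inv_mem hq'
        · simp only [if_true] at hq' ⊢
          rw [show (g : G) * q⁻¹ * (g : G)⁻¹ * q⁻¹ =
            q * (((g : G) * q * (g : G)⁻¹ * q)⁻¹ * q⁻¹) by group,
            (s.commute_Z (inv_mem hq') (s.Q_le_S (inv_mem hq))).eq, mul_inv_cancel_left]
          exact inv_mem hq' }
  have hmemU : ∀ b q, q ∈ U b ↔
      q ∈ s.Q ∧ (g : G) * q * (g : G)⁻¹ * (if b then q else q⁻¹) ∈ s.Z := fun b q => Iff.rfl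
  have hneg : ∀ q ∈ s.Q, (g : G) * q * (g : G)⁻¹ * q ∈ s.Z := by
    by_contra hne
    push Not at hne
    obtain ⟨q₀, hq₀, hq₀'⟩ := hne
    obtain ⟨f, hf⟩ := exists_prime_orderOf_dvd_card' (G := s.L) 5 (hp := ⟨by norm_num⟩)
      (by rw [s.card_L]; norm_num)
    have hfZ : (f : G) ∈ centralizer (s.Z : Set G) := s.L_le_centZ f.2
    have hfN := s.normZ_le_normQ (s.cent_le_normZ hfZ)
    have hfU : ∀ b, ∀ q ∈ U b, (f : G) * q * (f : G)⁻¹ ∈ U b := by
      intro b q hqU
      obtain ⟨hq, hq'⟩ := (hmemU b q).1 hqU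
      refine (hmemU b _).2 ⟨(mem_normalizer_iff.1 hfN q).1 hq, ?_⟩
      set k : G := (g : G)⁻¹ * (f : G)⁻¹ * g * f with hk
      have hkQ : k ∈ s.Q := by
        rw [hk, hgi]
        have := hcen f⁻¹
        simpa [hgi] using this
      have hkq : ⁅k, q⁆ ∈ s.Z := s.comm_mem_Z hkQ hq
      have e : (g : G) * ((f : G) * q * (f : G)⁻¹) * (g : G)⁻¹ =
          (f : G) * ((g : G) * (⁅k, q⁆ * q) * (g : G)⁻¹) * (f : G)⁻¹ := by
        rw [hk]; simp only [commutatorElement_def]; group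
      rw [show (if b = true then (f : G) * q * (f : G)⁻¹ else ((f : G) * q * (f : G)⁻¹)⁻¹) =
        (f : G) * (if b = true then q else q⁻¹) * (f : G)⁻¹ by
          cases b
          · simp only [Bool.false_eq_true, if_false]; group
          · simp only [if_true]]
      rw [e, show (g : G) * (⁅k, q⁆ * q) * (g : G)⁻¹ =
        ((g : G) * ⁅k, q⁆ * (g : G)⁻¹) * ((g : G) * q * (g : G)⁻¹) by group, hzc _ hkq]
      rw [show (f : G) * (⁅k, q⁆ * ((g : G) * q * (g : G)⁻¹)) * (f : G)⁻¹ *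
        ((f : G) * (if b = true then q else q⁻¹) * (f : G)⁻¹) =
        (f : G) * (⁅k, q⁆ * ((g : G) * q * (g : G)⁻¹ * (if b = true then q else q⁻¹))) *
          (f : G)⁻¹ by group]
      have hz := mul_mem hkq hq'
      rw [← (mem_centralizer_iff.1 hfZ) _ hz, mul_inv_cancel_right]
      exact hz
    have hfix : ∀ b, Nat.card (U b) ≤ 3 ^ 4 → ∀ q ∈ U b, ⁅(f : G), q⁆ ∈ s.Z := by
      intro b hcard q hq
      have hZU : s.Z ≤ U b := fun z hz => (hmemU b z).2 ⟨s.Z_le_Q hz, by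
        rw [hzc z hz]; cases b
        · simp
        · simpa using mul_mem hz hz⟩
      exact Setting.five_trivial f hf hfN hfZ (U b) (fun a ha => ((hmemU b a).1 ha).1) hZU hcard
        (hfU b) q hq
    have hlt : ∀ b, Nat.card (U b) ≤ 3 ^ 4 := by
      intro b
      have hd : Nat.card (U b) ∣ 3 ^ 5 :=
        s.hQcard ▸ card_dvd_of_le (fun a ha => ((hmemU b a).1 ha).1)
      obtain ⟨k, hk5, hk⟩ := (Nat.dvd_prime_pow Nat.prime_three).1 hd
      rw [hk]
      refine Nat.pow_le_pow_right (by norm_num) ?_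
      by_contra hh
      have he : U b = s.Q := eq_of_le_of_card_ge (fun a ha => ((hmemU b a).1 ha).1)
        (by rw [hk, s.hQcard, show k = 5 by omega])
      cases b
      · refine hgQ (s.mem_Q_of_trivial (s.cent_le_normZ hgZ) (fun q hq => ?_) hgZ)
        have := ((hmemU false q).1 (he.symm ▸ hq)).2
        simpa [commutatorElement_def] using this
      · have := ((hmemU true q₀).1 (he.symm ▸ hq₀)).2
        exact hq₀' (by simpa using this)
    have hall : ∀ q ∈ s.Q, ⁅(f : G), q⁆ ∈ s.Z := by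
      intro q hq
      -- `q` is a product of the two parts modulo `Z`
      obtain ⟨a, ha⟩ : ∃ a, a = (g : G) * q * (g : G)⁻¹ := ⟨_, rfl⟩
      have haQ : a ∈ s.Q := ha ▸ hgQc q hq
      have hga : (g : G) * a * (g : G)⁻¹ = q := by
        rw [ha, show (g : G) * ((g : G) * q * (g : G)⁻¹) * (g : G)⁻¹ =
          ((g : G) * g) * q * ((g : G) * g)⁻¹ by group, hgg, one_mul, inv_one, mul_one]
      have h1 : q * a ∈ U false := (hmemU _ _).2 ⟨mul_mem hq haQ, by
        simp only [Bool.false_eq_true, if_false]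
        rw [show (g : G) * (q * a) * (g : G)⁻¹ = a * ((g : G) * a * (g : G)⁻¹) by rw [ha]; group,
          hga, show a * q * (q * a)⁻¹ = ⁅a, q⁆ by simp only [commutatorElement_def]; group]
        exact s.comm_mem_Z haQ hq⟩
      have h2 : q * a⁻¹ ∈ U true := (hmemU _ _).2 ⟨mul_mem hq (inv_mem haQ), by
        simp only [if_true]
        rw [show (g : G) * (q * a⁻¹) * (g : G)⁻¹ = a * ((g : G) * a * (g : G)⁻¹)⁻¹ by
          rw [ha]; group, hga, mul_assoc, inv_mul_cancel_left, mul_inv_cancel]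
        exact one_mem _⟩
      have f1 := hfix false (hlt _) _ h1
      have f2 := hfix true (hlt _) _ h2
      -- bilinearity of `x ↦ ⁅f, x⁆` modulo `Z`
      have hmul : ∀ x y : G, x ∈ s.Q → ⁅(f : G), x⁆ ∈ s.Z → ⁅(f : G), y⁆ ∈ s.Z →
          ⁅(f : G), x * y⁆ ∈ s.Z := by
        intro x y hx hfx hfy
        rw [show ⁅(f : G), x * y⁆ = ⁅(f : G), x⁆ * (x * ⁅(f : G), y⁆ * x⁻¹) by
          simp only [commutatorElement_def]; group,
          ← (s.commute_Z hfy (s.Q_le_S hx)).eq, mul_inv_cancel_right]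
        exact mul_mem hfx hfy
      have h3 : ⁅(f : G), ⁅a⁻¹, q⁆⁆ ∈ s.Z := by
        have hz := s.comm_mem_Z (inv_mem haQ) hq
        rw [commutatorElement_eq_one_iff_mul_comm.2 ((mem_centralizer_iff.1 hfZ) _ hz).symm]
        exact one_mem _
      -- `q * q = (q * a⁻¹) * ⁅a, q⁆ * (q * a)` up to the centre
      obtain ⟨z, hzdef⟩ : ∃ z, z = ⁅a, q⁆ := ⟨_, rfl⟩
      have hzZ : z ∈ s.Z := hzdef ▸ s.comm_mem_Z haQ hq
      have e : q * q = ((q * a⁻¹) * (q * a)) * z := by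
        have hzc' : Commute (a⁻¹ * q * a) z := (s.commute_Z hzZ
          (s.Q_le_S (mul_mem (mul_mem (inv_mem haQ) hq) haQ))).symm
        calc q * q = q * (a⁻¹ * (z * q) * a) := by
              rw [hzdef, commutatorElement_def]; group
          _ = q * (z * (a⁻¹ * q * a)) := by
              rw [← mul_assoc a⁻¹ z, ← (s.commute_Z hzZ (s.Q_le_S (inv_mem haQ))).eq]
              group
          _ = q * ((a⁻¹ * q * a) * z) := by rw [hzc'.eq]
          _ = ((q * a⁻¹) * (q * a)) * z := by group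
      have hfz : ⁅(f : G), z⁆ ∈ s.Z := by
        rw [commutatorElement_eq_one_iff_mul_comm.2 ((mem_centralizer_iff.1 hfZ) _ hzZ).symm]
        exact one_mem _
      have hqq : ⁅(f : G), q * q⁆ ∈ s.Z := by
        rw [e]
        exact hmul _ _ (mul_mem (mul_mem hq (inv_mem haQ)) (mul_mem hq haQ))
          (hmul _ _ (mul_mem hq (inv_mem haQ)) f2 f1) hfz
      have := hmul _ _ (mul_mem hq hq) hqq hqq
      rwa [show q * q * (q * q) = q ^ 3 * q by simp [pow_succ, mul_assoc], s.hQexp q hq,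
        one_mul] at this
    have hfQ := s.mem_Q_of_trivial (s.cent_le_normZ hfZ) hall hfZ
    have h3 : f ^ 3 = 1 := Subtype.ext (s.hQexp _ hfQ)
    have := orderOf_dvd_of_pow_eq_one h3
    rw [hf] at this
    norm_num at this
  have hti : l.t⁻¹ = l.t := inv_eq_of_mul_eq_one_right l.t_two
  have hgt : (g : G) * l.t ∈ s.Q := by
    refine s.mem_Q_of_trivial ?_ (fun q hq => ?_) (mul_mem hgZ l.t_cent_Z)
    · exact s.cent_le_normZ (mul_mem hgZ l.t_cent_Z)
    · set d := l.t * q * l.t⁻¹ * q with hd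
      have hdZ : d ∈ s.Z := l.t_Q q hq
      have h2 := hneg q⁻¹ (inv_mem hq)
      have e : ⁅(g : G) * l.t, q⁆ =
          ((g : G) * d * (g : G)⁻¹) * ((g : G) * q⁻¹ * (g : G)⁻¹ * q⁻¹) := by
        rw [hd]; simp only [commutatorElement_def]; group
      rw [e, hzc d hdZ]
      exact mul_mem hdZ h2
  have := mul_mem (inv_mem g.2) (s.hQL hgt)
  simpa using this

end Lift

end Cfsg.Agent.McLLoc
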