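import Cfsg.Agent.McLLoc.LocalLift

/-!
# `W = C_J(t)`: generated by `Z` and its image under `u`, inverted by `c`
-/

set_option autoImplicit false
set_option linter.unusedSectionVars false

namespace Cfsg.Agent.McLLoc

open Subgroup
open scoped commutatorElement

variable {G : Type*} [Group G] [Finite G] {s : Setting G}

namespace Chart

variable (C : Chart s)
include C

theorem mem_S_of {m : s.M} (h : C.φ m ∈ Six.P0) : (m : G) ∈ (s.S : Subgroup G) := by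
  rw [← C.mapS] at h
  obtain ⟨s₀, hs₀, he⟩ := h
  have : ((m * s₀⁻¹ : s.M) : G) ∈ s.J :=
    C.φ_eq_one.1 (by rw [map_mul, map_inv, he, mul_inv_cancel])
  have h2 := mul_mem (s.hJS this) (mem_subgroupOf.1 hs₀)
  simpa using h2

/-- An element of order 3 permuting two commuting involutions fixes their common fixed points. -/
theorem fix_of_four {v w r : Six.Alt6} (hA : Four.Act (C.ρ v) (C.ρ w) (C.ρ r)) (y : s.J)
    (hy : C.ρ v y = y ∧ C.ρ w y = y) :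
    C.ρ r y = y ∧ (y ≠ 1 → ∀ k : s.J, C.ρ v k = k → C.ρ w k = k → k ∈ zpowers y) := by
  have hgen : y ≠ 1 → ∀ k : s.J, C.ρ v k = k → C.ρ w k = k → k ∈ zpowers y := by
    intro hy1 k hk1 hk2
    have hle : zpowers y ≤ Four.Fix hA := zpowers_le.2 hy
    have he := eq_of_le_of_card_ge hle (by
      rw [(Four.card_parts hA).1, Nat.card_zpowers, orderOf_eq_prime (hA.cube y) hy1])
    rw [he]
    exact ⟨hk1, hk2⟩
  refine ⟨?_, hgen⟩
  by_cases hy1 : y = 1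
  · rw [hy1, map_one]
  have hry : C.ρ r y ∈ zpowers y := by
    refine hgen hy1 _ ?_ ?_
    · rw [Four.v_r hA, hy.2, hy.1]
    · rw [Four.w_r hA, hy.1]
  obtain ⟨k, hk⟩ := mem_zpowers_iff.1 hry
  have h3 := hA.rrr y
  rw [← hk, map_zpow, ← hk, ← zpow_mul, map_zpow, ← hk, ← zpow_mul] at h3
  rw [← hk]
  have h0 : y ^ (k * (k * k) - 1) = 1 := by
    rw [zpow_sub, zpow_one, mul_inv_eq_one]
    convert h3 using 2
  rw [← orderOf_dvd_iff_zpow_eq_one, orderOf_eq_prime (hA.cube y) hy1] at h0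
  have h1 : y ^ (k - 1) = 1 := by
    rw [← orderOf_dvd_iff_zpow_eq_one, orderOf_eq_prime (hA.cube y) hy1]
    have hk3 : k % 3 = 1 := by
      rcases (by omega : k % 3 = 0 ∨ k % 3 = 1 ∨ k % 3 = 2) with h | h | h <;>
        simp [Int.dvd_iff_emod_eq_zero, Int.sub_emod, Int.mul_emod, h] at h0 ⊢
    omega
  rwa [zpow_sub, zpow_one, mul_inv_eq_one] at h1

theorem act_tu : Four.Act (C.ρ Six.pt) (C.ρ Six.pu) (C.ρ Six.px) :=
  C.act Six.t_sq Six.u_sq Six.tu_comm Six.xt Six.xu Six.x_cube Six.t_ne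

theorem act_tw : Four.Act (C.ρ Six.pt) (C.ρ (Six.pc * Six.pu)) (C.ρ Six.px2) :=
  C.act Six.t_sq (by decide +kernel) (by decide +kernel) Six.x2t Six.x2w Six.x2_cube Six.t_ne

end Chart

namespace Lift

variable {C : Chart s} (l : Lift C)

/-- The involution. -/
def t : G := l.c * l.c

theorem ht : l.t ∈ s.M := mul_mem l.hc l.hc

theorem φt : C.φ ⟨l.t, l.ht⟩ = Six.pt := by
  rw [show (⟨l.t, l.ht⟩ : s.M) = ⟨l.c, l.hc⟩ * ⟨l.c, l.hc⟩ from rfl, map_mul, l.φc, Six.c_sq]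

theorem t_two : l.t * l.t = 1 := l.c4

theorem t_ord : orderOf l.t = 2 := by
  refine orderOf_eq_prime (by rw [pow_two]; exact l.t_two) fun h => Six.t_ne ?_
  rw [← l.φt, show (⟨l.t, l.ht⟩ : s.M) = 1 from Subtype.ext h, map_one]

theorem u_ord : orderOf l.u = 2 := by
  refine orderOf_eq_prime (by rw [pow_two]; exact l.u2) fun h => Six.u_ne ?_
  rw [← l.φu, show (⟨l.u, l.hu⟩ : s.M) = 1 from Subtype.ext h, map_one]

theorem c_S : l.c ∈ normalizer ((s.S : Subgroup G) : Set G) := by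
  have key : ∀ g ∈ (s.S : Subgroup G), l.c * g * l.c⁻¹ ∈ (s.S : Subgroup G) := by
    intro g hg
    have := C.mem_S_of (m := ⟨l.c, l.hc⟩ * ⟨g, s.S_le_M hg⟩ * ⟨l.c, l.hc⟩⁻¹) (by
      obtain ⟨i, j, hij⟩ := Six.mem_P0.1 (C.φ_mem_P0 (m := ⟨g, s.S_le_M hg⟩) hg)
      rw [map_mul, map_mul, map_inv, l.φc, ← hij]
      obtain ⟨k, m, h⟩ := Six.c_P0 i j
      exact Six.mem_P0.2 ⟨k, m, h.symm⟩)
    simpa using this
  refine mem_normalizer_iff.2 fun g => ⟨key g, fun h => ?_⟩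
  have h4 : l.c⁻¹ = l.c * l.c * l.c :=
    inv_eq_of_mul_eq_one_right (by simpa [mul_assoc] using l.c4)
  have := key _ (key _ (key _ h))
  rwa [show l.c * (l.c * (l.c * (l.c * g * l.c⁻¹) * l.c⁻¹) * l.c⁻¹) * l.c⁻¹ =
    (l.c * l.c * (l.c * l.c)) * g * (l.c * l.c * (l.c * l.c))⁻¹ by group, l.c4, one_mul, inv_one,
    mul_one] at this

theorem t_S : ∀ g ∈ (s.S : Subgroup G), l.t * g * l.t⁻¹ * g ∈ s.J := by
  intro g hg
  refine (C.φ_eq_one (m := ⟨l.t, l.ht⟩ * ⟨g, s.S_le_M hg⟩ * ⟨l.t, l.ht⟩⁻¹ * ⟨g, s.S_le_M hg⟩)).1 ?_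
  obtain ⟨i, j, hij⟩ := Six.mem_P0.1 (C.φ_mem_P0 (m := ⟨g, s.S_le_M hg⟩) hg)
  rw [map_mul, map_mul, map_mul, map_inv, l.φt, ← hij]
  exact Six.t_P0 i j

theorem conj_Z {g : G} (hg : g ∈ normalizer ((s.S : Subgroup G) : Set G)) {z : G} (hz : z ∈ s.Z) :
    g * z * g⁻¹ ∈ s.Z := by
  rw [s.hZ]
  refine ⟨(mem_normalizer_iff.1 hg z).1 (s.Z_le_S hz), mem_centralizer_iff.2 fun k hk => ?_⟩
  have hk' : g⁻¹ * k * g ∈ (s.S : Subgroup G) := (mem_normalizer_iff''.1 hg k).1 hk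
  calc k * (g * z * g⁻¹) = g * ((g⁻¹ * k * g) * z) * g⁻¹ := by group
    _ = g * (z * (g⁻¹ * k * g)) * g⁻¹ := by rw [(s.commute_Z hz hk').eq]
    _ = g * z * g⁻¹ * k := by group

theorem t_cent_Z : l.t ∈ centralizer (s.Z : Set G) := by
  rw [mem_centralizer_iff]
  intro z hz
  by_cases hz1 : z = 1
  · simp [hz1]
  have hz3 : z ^ 3 = 1 := s.hJexp z (s.Z_le_J hz)
  have h := conj_Z l.c_S hz
  have hZ : zpowers z = s.Z := eq_of_le_of_card_ge (zpowers_le.2 hz)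
    (by rw [s.card_Z, Nat.card_zpowers, orderOf_eq_prime hz3 hz1])
  rw [← hZ] at h
  obtain ⟨k, hk⟩ := mem_zpowers_iff.1 h
  have ht : l.t * z * l.t⁻¹ = z ^ (k * k) := by
    calc l.t * z * l.t⁻¹ = l.c * (l.c * z * l.c⁻¹) * l.c⁻¹ := by rw [t]; group
      _ = l.c * z ^ k * l.c⁻¹ := by rw [hk]
      _ = z ^ (k * k) := by rw [← conj_zpow, ← hk, ← zpow_mul]
  have hk3 : k % 3 ≠ 0 := by
    intro h0
    have : z ^ k = 1 := by
      rw [← orderOf_dvd_iff_zpow_eq_one, orderOf_eq_prime hz3 hz1]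
      exact Int.dvd_of_emod_eq_zero h0
    rw [this] at hk
    exact hz1 (by simpa using hk.symm)
  have hkk : z ^ (k * k) = z := by
    have h' : z ^ (k * k - 1) = 1 := by
      rw [← orderOf_dvd_iff_zpow_eq_one, orderOf_eq_prime hz3 hz1]
      rcases (by omega : k % 3 = 1 ∨ k % 3 = 2) with h | h <;>
        simp [Int.dvd_iff_emod_eq_zero, Int.sub_emod, Int.mul_emod, h]
    rwa [zpow_sub, zpow_one, mul_inv_eq_one] at h'
  exact (mul_inv_eq_iff_eq_mul.1 (ht.trans hkk)).symm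

theorem u_not_Z {z : G} (hz : z ∈ s.Z) (hz1 : z ≠ 1) : l.u * z * l.u⁻¹ ∉ s.Z := by
  intro h
  have hz3 : z ^ 3 = 1 := s.hJexp z (s.Z_le_J hz)
  have hZ : zpowers z = s.Z := eq_of_le_of_card_ge (zpowers_le.2 hz)
    (by rw [s.card_Z, Nat.card_zpowers, orderOf_eq_prime hz3 hz1])
  have hmap : (zpowers z).map (MulAut.conj l.u).toMonoidHom ≤ zpowers z := by
    rw [MonoidHom.map_zpowers, zpowers_le, hZ]
    exact h
  have hu : l.u ∈ normalizer (s.Z : Set G) := by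
    rw [← hZ]
    refine mem_normalizer_iff.2 fun y => ⟨fun hy => hmap ⟨y, hy, rfl⟩, fun hy => ?_⟩
    have h2 := hmap ⟨_, hy, rfl⟩
    simp only [MulEquiv.coe_toMonoidHom, MulAut.conj_apply] at h2
    rwa [show l.u * (l.u * y * l.u⁻¹) * l.u⁻¹ = (l.u * l.u) * y * (l.u * l.u)⁻¹ by group, l.u2,
      one_mul, inv_one, mul_one] at h2
  have hQ := s.normZ_le_normQ hu
  have hJ := s.M_le_normJ l.hu
  have hS : l.u ∈ normalizer ((s.Q ⊔ s.J : Subgroup G) : Set G) :=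
    normalizer_inf_normalizer_le_normalizer_sup _ _ ⟨hQ, hJ⟩
  rw [← s.S_eq] at hS
  obtain ⟨⟨g, hg⟩, hgS, hga⟩ : Six.pa ∈ ((s.S : Subgroup G).subgroupOf s.M).map C.φ :=
    C.mapS ▸ Six.a_mem
  have h2 := C.φ_mem_P0 (m := ⟨l.u, l.hu⟩ * ⟨g, hg⟩ * ⟨l.u, l.hu⟩⁻¹)
    ((mem_normalizer_iff.1 hS g).1 hgS)
  rw [map_mul, map_mul, map_inv, l.φu, hga] at h2
  obtain ⟨i, j, hij⟩ := Six.mem_P0.1 h2
  exact Six.u_notNorm i j hij.symm

theorem ρ_fix {p : Six.Alt6} {m : G} (hm : m ∈ s.M) (hp : C.φ ⟨m, hm⟩ = p) (j : s.J) :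
    C.ρ p j = j ↔ Commute m (j : G) := by
  rw [← hp, Subtype.ext_iff, C.ρ_apply]
  exact mul_inv_eq_iff_eq_mul

theorem card_CJt : Nat.card (s.J ⊓ centralizer ({l.t} : Set G) : Subgroup G) = 9 := by
  rw [← Four.card_fixed_v C.act_tu]
  refine Nat.card_congr
    { toFun := fun a => ⟨⟨a, a.2.1⟩, (ρ_fix l.ht l.φt _).2
        (mem_centralizer_singleton_iff.1 a.2.2).symm⟩
      invFun := fun a => ⟨a.1, a.1.2, mem_centralizer_singleton_iff.2
        ((ρ_fix l.ht l.φt _).1 a.2).eq.symm⟩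
      left_inv := fun a => rfl
      right_inv := fun a => rfl }

theorem t_comm_u : Commute l.t l.u := l.tu

theorem conj_z' {z : G} (hz : z ∈ s.Z) : l.u * z * l.u⁻¹ ∈ s.J ⊓ centralizer ({l.t} : Set G) := by
  refine ⟨(mem_normalizer_iff.1 (s.M_le_normJ l.hu) z).1 (s.Z_le_J hz),
    mem_centralizer_singleton_iff.2 ?_⟩
  have h1 : Commute l.t z := ((mem_centralizer_iff.1 l.t_cent_Z) z hz).symm
  exact ((l.t_comm_u.mul_right h1).mul_right l.t_comm_u.inv_right).eq.symm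

theorem closure_eq_CJt {z : G} (hz : z ∈ s.Z) (hz1 : z ≠ 1) :
    closure ({z, l.u * z * l.u⁻¹} : Set G) = s.J ⊓ centralizer ({l.t} : Set G) := by
  have hzW : z ∈ s.J ⊓ centralizer ({l.t} : Set G) := ⟨s.Z_le_J hz,
    mem_centralizer_singleton_iff.2 ((mem_centralizer_iff.1 l.t_cent_Z) z hz)⟩
  have hle : closure ({z, l.u * z * l.u⁻¹} : Set G) ≤ s.J ⊓ centralizer ({l.t} : Set G) := by
    rw [closure_le]
    rintro y (rfl | rfl)
    · exact hzW
    · exact l.conj_z' hz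
  refine eq_of_le_of_card_ge hle ?_
  rw [l.card_CJt]
  have hd : Nat.card (closure ({z, l.u * z * l.u⁻¹} : Set G)) ∣ 3 ^ 2 :=
    (show (3 ^ 2 : ℕ) = 9 by norm_num) ▸ l.card_CJt ▸ card_dvd_of_le hle
  obtain ⟨k, hk, hk'⟩ := (Nat.dvd_prime_pow Nat.prime_three).1 hd
  rw [hk']
  have hne : 2 ≤ k := by
    by_contra hh
    have hZle : s.Z ≤ closure ({z, l.u * z * l.u⁻¹} : Set G) := by
      have hz3 : z ^ 3 = 1 := s.hJexp z (s.Z_le_J hz)
      rw [← eq_of_le_of_card_ge (zpowers_le.2 hz)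
        (by rw [s.card_Z, Nat.card_zpowers, orderOf_eq_prime hz3 hz1]), zpowers_le]
      exact subset_closure (Set.mem_insert _ _)
    have he := eq_of_le_of_card_ge hZle (by
      rw [hk', s.card_Z]
      exact (Nat.pow_le_pow_right (by norm_num) (by omega : k ≤ 1)).trans_eq (pow_one 3))
    exact l.u_not_Z hz hz1 (he ▸ subset_closure (Set.mem_insert_of_mem _ rfl))
  exact le_trans (by norm_num) (Nat.pow_le_pow_right (by norm_num : 1 ≤ 3) hne)

theorem c_inverts {z : G} (hz : z ∈ s.Z) (hz1 : z ≠ 1) :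
    l.c * z * l.c⁻¹ = z⁻¹ ∧ l.c * (l.u * z * l.u⁻¹) * l.c⁻¹ = (l.u * z * l.u⁻¹)⁻¹ := by
  have hz3 : z ^ 3 = 1 := s.hJexp z (s.Z_le_J hz)
  have hcu : l.c * l.u = l.u * l.c⁻¹ := by
    calc l.c * l.u = (l.u * l.u) * l.c * l.u := by rw [l.u2, one_mul]
      _ = l.u * (l.u * l.c * l.u⁻¹) * (l.u * l.u) := by group
      _ = l.u * l.c⁻¹ := by rw [l.uc, l.u2, mul_one]
  have hgen : ∀ e : G, l.c * z * l.c⁻¹ = e → l.c⁻¹ * z * l.c = e := by
    intro e he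
    have ht : l.t * z * l.t⁻¹ = z := by
      rw [← (mem_centralizer_iff.1 l.t_cent_Z) z hz, mul_inv_cancel_right]
    calc l.c⁻¹ * z * l.c = l.c⁻¹ * (l.t * z * l.t⁻¹) * l.c := by rw [ht]
      _ = l.c * z * l.c⁻¹ := by rw [t]; group
      _ = e := he
  have key : ∀ e : G, l.c * z * l.c⁻¹ = e →
      l.c * (l.u * z * l.u⁻¹) * l.c⁻¹ = l.u * e * l.u⁻¹ := by
    intro e he
    calc l.c * (l.u * z * l.u⁻¹) * l.c⁻¹ = (l.c * l.u) * z * (l.c * l.u)⁻¹ := by group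
      _ = l.u * (l.c⁻¹ * z * l.c) * l.u⁻¹ := by rw [hcu]; group
      _ = l.u * e * l.u⁻¹ := by rw [hgen e he]
  have h := conj_Z l.c_S hz
  have hZ : zpowers z = s.Z := eq_of_le_of_card_ge (zpowers_le.2 hz)
    (by rw [s.card_Z, Nat.card_zpowers, orderOf_eq_prime hz3 hz1])
  rw [← hZ] at h
  obtain ⟨k, hk⟩ := mem_zpowers_iff.1 h
  have hcases : l.c * z * l.c⁻¹ = 1 ∨ l.c * z * l.c⁻¹ = z ∨ l.c * z * l.c⁻¹ = z⁻¹ := by
    rw [← hk, ← zpow_mod_orderOf, orderOf_eq_prime hz3 hz1]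
    rcases (by omega : k % (3 : ℕ) = 0 ∨ k % (3 : ℕ) = 1 ∨ k % (3 : ℕ) = 2) with h | h | h <;>
      rw [h]
    · exact Or.inl (zpow_zero z)
    · exact Or.inr (Or.inl (zpow_one z))
    · refine Or.inr (Or.inr (eq_inv_of_mul_eq_one_left ?_))
      rw [show ((2 : ℤ)) = ((2 : ℕ) : ℤ) from rfl, zpow_natCast, ← pow_succ, hz3]
  rcases hcases with h1 | h1 | h1
  · exact absurd (by simpa using h1) hz1
  · exfalso
    have h2 := key z h1
    have hzJ := s.Z_le_J hz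
    have hz'J : l.u * z * l.u⁻¹ ∈ s.J := (l.conj_z' hz).1
    let y : s.J := ⟨z * (l.u * z * l.u⁻¹), mul_mem hzJ hz'J⟩
    have hyv : (y : G) = z * (l.u * z * l.u⁻¹) := rfl
    have hyc : Commute l.c (y : G) :=
      Commute.mul_right (mul_inv_eq_iff_eq_mul.1 h1) (mul_inv_eq_iff_eq_mul.1 h2)
    have hyt : Commute l.t (y : G) := hyc.mul_left hyc
    have hui : l.u⁻¹ = l.u := inv_eq_of_mul_eq_one_right l.u2
    have hyu : Commute l.u (y : G) := by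
      show l.u * (z * (l.u * z * l.u⁻¹)) = z * (l.u * z * l.u⁻¹) * l.u
      calc l.u * (z * (l.u * z * l.u⁻¹)) = (l.u * z * l.u⁻¹) * ((l.u * l.u) * z) * l.u⁻¹ := by
            group
        _ = (l.u * z * l.u⁻¹) * z * l.u⁻¹ := by rw [l.u2, one_mul]
        _ = z * (l.u * z * l.u⁻¹) * l.u := by
            rw [(s.commute_J hz'J hzJ).eq, hui]
    have fc := (ρ_fix l.hc l.φc y).2 hyc
    have ft := (ρ_fix l.ht l.φt y).2 hyt
    have fu := (ρ_fix l.hu l.φu y).2 hyu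
    have fw : C.ρ (Six.pc * Six.pu) y = y := by rw [← C.ρ_comp, fu, fc]
    have fx := (C.fix_of_four C.act_tu y ⟨ft, fu⟩).1
    have fx2 := (C.fix_of_four C.act_tw y ⟨ft, fw⟩).1
    have fa : C.ρ Six.pa y = y := by
      rw [Six.a_word]
      simp only [← C.ρ_comp, fu, fx, fx2]
    have fb : C.ρ Six.pb y = y := by
      rw [Six.b_word]
      simp only [← C.ρ_comp, fu, fx, fx2, fc]
    have hfab : ∀ a b : ℕ, C.ρ (Six.pa ^ a * Six.pb ^ b) y = y := by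
      intro a b
      have hB : ∀ b : ℕ, C.ρ (Six.pb ^ b) y = y := by
        intro b
        induction b with
        | zero => simp
        | succ b ih => rw [pow_succ, ← C.ρ_comp, fb, ih]
      have hA : ∀ a : ℕ, C.ρ (Six.pa ^ a) y = y := by
        intro a
        induction a with
        | zero => simp
        | succ a ih => rw [pow_succ, ← C.ρ_comp, fa, ih]
      rw [← C.ρ_comp, hB, hA]
    have hyZ : (y : G) ∈ s.Z := by
      rw [s.hZ]
      refine ⟨s.hJS y.2, mem_centralizer_iff.2 fun g hg => ?_⟩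
      obtain ⟨i, j, hij⟩ := Six.mem_P0.1 (C.φ_mem_P0 (m := ⟨g, s.S_le_M hg⟩) hg)
      exact ((ρ_fix (s.S_le_M hg) hij.symm y).1 (hfab _ _)).eq
    rw [hyv] at hyZ
    exact l.u_not_Z hz hz1 ((mul_mem_cancel_left hz).1 hyZ)
  · refine ⟨h1, ?_⟩
    rw [key _ h1]
    group

end Lift

end Cfsg.Agent.McLLoc
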