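import Cfsg.Agent.McLLoc.LocalDicho

/-!
# `CentFour` from the centralisers of the two elements `z z'` and `z z'⁻¹`
-/

set_option autoImplicit false
set_option linter.unusedSectionVars false

namespace Cfsg.Agent.McLLoc

open Subgroup

variable {G : Type*} [Group G] [Finite G] {s : Setting G}

theorem centralizer_le_of_conj {J : Subgroup G} {m j w : G} (hm : m ∈ normalizer (J : Set G))
    (he : m * j * m⁻¹ = w) (h : centralizer ({w} : Set G) ≤ normalizer (J : Set G)) :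
    centralizer ({j} : Set G) ≤ normalizer (J : Set G) := by
  intro a ha
  rw [mem_centralizer_singleton_iff] at ha
  have h2 : m * a * m⁻¹ ∈ normalizer (J : Set G) := h (mem_centralizer_singleton_iff.2 (by
    rw [← he]
    calc m * a * m⁻¹ * (m * j * m⁻¹) = m * (a * j) * m⁻¹ := by group
      _ = m * (j * a) * m⁻¹ := by rw [ha]
      _ = m * j * m⁻¹ * (m * a * m⁻¹) := by group))
  have h3 := mul_mem (mul_mem (inv_mem hm) h2) hm
  simpa [mul_assoc] using h3

theorem centralizer_le_of_zpowers {J : Subgroup G} {y w : G} (hw : w ∈ zpowers y) (hw1 : w ≠ 1)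
    (hy3 : y ^ 3 = 1) (h : centralizer ({y} : Set G) ≤ normalizer (J : Set G)) :
    centralizer ({w} : Set G) ≤ normalizer (J : Set G) := by
  refine le_trans ?_ h
  have hy1 : y ≠ 1 := fun hh => hw1 (by
    rw [hh, zpowers_one_eq_bot, mem_bot] at hw
    exact hw)
  have hw3 : orderOf w = 3 := by
    obtain ⟨k, rfl⟩ := mem_zpowers_iff.1 hw
    exact orderOf_eq_prime (by
      rw [← zpow_natCast, ← zpow_mul, mul_comm, zpow_mul, zpow_natCast, hy3, one_zpow]) hw1
  have heq : zpowers w = zpowers y := eq_of_le_of_card_ge (zpowers_le.2 hw) (by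
    rw [Nat.card_zpowers, Nat.card_zpowers, hw3, orderOf_eq_prime hy3 hy1])
  intro a ha
  rw [mem_centralizer_singleton_iff] at ha ⊢
  obtain ⟨k, hk⟩ := mem_zpowers_iff.1 (heq.symm ▸ mem_zpowers y : y ∈ zpowers w)
  rw [← hk]
  exact ((show Commute a w from ha).zpow_right k).eq

namespace Lift

variable {C : Chart s} (l : Lift C)

include l

/-- Two commuting involutions of `M` centralise no non-trivial element of `Z`. -/
theorem four_not_Z {v w : G} (hv : v ∈ s.M) (hw : w ∈ s.M) (hv2 : orderOf v = 2)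
    (hw2 : orderOf w = 2) (hne : v ≠ w) (hvw : Commute v w) {k : G} (hk : k ∈ s.Z) (hk1 : k ≠ 1)
    (hvk : Commute v k) (hwk : Commute w k) : False := by
  have hgen : zpowers k = s.Z := eq_of_le_of_card_ge (zpowers_le.2 hk) (by
    rw [s.card_Z, Nat.card_zpowers, orderOf_eq_prime (s.hJexp k (s.Z_le_J hk)) hk1])
  have hnorm : ∀ a : G, a ∈ s.M → Commute a k → a ∈ normalizer ((s.S : Subgroup G) : Set G) := by
    intro a ha hak
    have haZ : a ∈ centralizer (s.Z : Set G) := by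
      rw [← hgen, mem_centralizer_iff]
      intro b hb
      obtain ⟨i, rfl⟩ := mem_zpowers_iff.1 hb
      exact ((hak.zpow_right i).eq).symm
    rw [s.S_eq]
    exact normalizer_inf_normalizer_le_normalizer_sup _ _
      ⟨s.normZ_le_normQ (s.cent_le_normZ haZ), s.M_le_normJ ha⟩
  have hinv : ∀ a : G, ∀ ha : a ∈ s.M, orderOf a = 2 →
      C.φ ⟨a, ha⟩ * C.φ ⟨a, ha⟩ = 1 ∧ C.φ ⟨a, ha⟩ ≠ 1 := by
    intro a ha ha2
    refine ⟨?_, fun h => ?_⟩
    · rw [← map_mul, show (⟨a, ha⟩ * ⟨a, ha⟩ : s.M) = 1 from Subtype.ext (by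
        show a * a = 1
        rw [← pow_two, ← ha2]; exact pow_orderOf_eq_one a), map_one]
    · have h3 := orderOf_dvd_of_pow_eq_one (s.hJexp a (C.φ_eq_one.1 h))
      rw [ha2] at h3
      norm_num at h3
  have hφne : C.φ ⟨v, hv⟩ ≠ C.φ ⟨w, hw⟩ := by
    intro h
    have hJ : v * w⁻¹ ∈ s.J := (C.φ_eq_one (m := ⟨v, hv⟩ * ⟨w, hw⟩⁻¹)).1
      (by rw [map_mul, map_inv, h, mul_inv_cancel])
    have hv' : v * v = 1 := by rw [← pow_two, ← hv2]; exact pow_orderOf_eq_one v
    have hw' : w * w = 1 := by rw [← pow_two, ← hw2]; exact pow_orderOf_eq_one w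
    have hwi : w⁻¹ = w := inv_eq_of_mul_eq_one_right hw'
    have hvv : v * w⁻¹ * (v * w⁻¹) = 1 := by
      rw [hwi]
      calc v * w * (v * w) = v * (w * v) * w := by group
        _ = v * (v * w) * w := by rw [hvw.eq]
        _ = 1 := by rw [← mul_assoc, hv', one_mul, hw']
    have h3 := s.hJexp _ hJ
    rw [pow_succ, pow_two, hvv, one_mul] at h3
    exact hne (mul_inv_eq_one.1 h3)
  have hP : ∀ a : G, ∀ ha : a ∈ s.M, Commute a k →
      ∀ r ∈ Six.P0, C.φ ⟨a, ha⟩ * r * (C.φ ⟨a, ha⟩)⁻¹ ∈ Six.P0 := by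
    intro a ha hak r hr
    rw [← C.mapS] at hr
    obtain ⟨⟨g, hgM⟩, hgS, rfl⟩ := hr
    rw [← map_inv, ← map_mul, ← map_mul]
    exact C.φ_mem_P0 ((mem_normalizer_iff.1 (hnorm a ha hak) g).1 hgS)
  have hbot := Six.three_norm_trivial (hinv v hv hv2).1 (hinv w hw hw2).1 (hinv v hv hv2).2
    (hinv w hw hw2).2 hφne (by rw [← map_mul, ← map_mul]; exact congrArg C.φ (Subtype.ext hvw.eq))
    (IsPGroup.of_card (n := 2) (by rw [Six.card_P0]; norm_num)) (hP v hv hvk) (hP w hw hwk)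
  have h1 := Six.card_P0
  rw [hbot, card_bot] at h1
  norm_num at h1

theorem centFour_of_y (z : G) (hz : zpowers z = s.Z) (hz1 : z ≠ 1)
    (hy : centralizer ({z * (l.u * z * l.u⁻¹)} : Set G) ≤ normalizer (s.J : Set G))
    (hy' : centralizer ({z * (l.u * z * l.u⁻¹)⁻¹} : Set G) ≤ normalizer (s.J : Set G)) :
    CentFour s := by
  intro v w hv hw hv2 hw2 hne hvw j hj hj1 hvj hwj
  have hzZ : z ∈ s.Z := hz ▸ mem_zpowers z
  have hz'J : l.u * z * l.u⁻¹ ∈ s.J := (l.conj_z' hzZ).1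
  obtain ⟨⟨m, hm⟩, hmt⟩ := l.exists_conj_fixed ⟨j, hj⟩
  have hmJ := s.M_le_normJ hm
  have hkJ : m * j * m⁻¹ ∈ s.J := (mem_normalizer_iff.1 hmJ j).1 hj
  have hk1 : m * j * m⁻¹ ≠ 1 := fun h => hj1 (by rwa [mul_inv_eq_one, mul_eq_left] at h)
  have hbad : ∀ g ∈ s.M, g * j * g⁻¹ ∈ s.Z → False := by
    intro g hg hgj
    have hc : ∀ a : G, Commute a j → Commute (g * a * g⁻¹) (g * j * g⁻¹) := fun a ha => by
      simpa using ha.map (MulAut.conj g).toMonoidHom
    refine l.four_not_Z (mul_mem (mul_mem hg hv) (inv_mem hg)) (mul_mem (mul_mem hg hw) (inv_mem hg))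
      ?_ ?_ ?_ (by simpa using hvw.map (MulAut.conj g).toMonoidHom) hgj
      (fun h => hj1 (by rwa [mul_inv_eq_one, mul_eq_left] at h)) (hc v hvj) (hc w hwj)
    · rw [← hv2]; exact MulEquiv.orderOf_eq (MulAut.conj g) v
    · rw [← hw2]; exact MulEquiv.orderOf_eq (MulAut.conj g) w
    · exact fun h => hne (mul_left_cancel (mul_right_cancel h))
  rcases l.W_cases z hz hz1 hkJ hmt with h | h | h | h
  · exact (hbad m hm h).elim
  · refine (hbad (l.u * m) (mul_mem l.hu hm) ?_).elim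
    obtain ⟨k, hk⟩ := mem_zpowers_iff.1 h
    rw [show l.u * m * j * (l.u * m)⁻¹ = l.u * (m * j * m⁻¹) * l.u⁻¹ by group, ← hk, ← conj_zpow,
      show l.u * (l.u * z * l.u⁻¹) * l.u⁻¹ = (l.u * l.u) * z * (l.u * l.u)⁻¹ by group, l.u2]
    simpa using zpow_mem hzZ k
  · exact centralizer_le_of_conj hmJ rfl (centralizer_le_of_zpowers h hk1
      (s.hJexp _ (mul_mem (s.Z_le_J hzZ) hz'J)) hy)
  · exact centralizer_le_of_conj hmJ rfl (centralizer_le_of_zpowers h hk1
      (s.hJexp _ (mul_mem (s.Z_le_J hzZ) (inv_mem hz'J))) hy')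

end Lift

end Cfsg.Agent.McLLoc

namespace Cfsg.Agent.McLLoc

/-- `CentFour` follows once the two centralisers normalise `J` in every frame with the base facts. -/
theorem centFour_of_frames {G : Type*} [Group G] [Finite G] (s : Setting G)
    (h : ∀ f : Frame s, Base f →
      Subgroup.centralizer ({f.z * f.z'} : Set G) ≤ Subgroup.normalizer (s.J : Set G) ∧
        Subgroup.centralizer ({f.z * f.z'⁻¹} : Set G) ≤ Subgroup.normalizer (s.J : Set G)) :
    CentFour s := by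
  obtain ⟨C⟩ := s.nonempty_chart
  obtain ⟨l⟩ := C.nonempty_lift
  obtain ⟨z, hz, -, hz1⟩ := s.exists_generator
  obtain ⟨h1, h2⟩ := h (l.frame z hz hz1) (l.base z hz hz1)
  exact l.centFour_of_y z hz hz1 h1 h2

end Cfsg.Agent.McLLoc
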