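import Cfsg.Agent.McLLoc.IsoTools

/-!
A pair of commuting elements of order three whose lines are permuted by the normaliser of the
group they generate, as a dihedral group of order eight.
-/

set_option autoImplicit false

namespace Cfsg.Agent.McLLoc.Bar

open Subgroup

variable {Y : Type*} [Group Y]

/-- Coordinates on the group generated by two commuting elements of order three. -/
def co (a b : Y) (p : Fin 3 × Fin 3) : Y := a ^ (p.1 : ℕ) * b ^ (p.2 : ℕ)

theorem co_mul {a b : Y} (ha : a ^ 3 = 1) (hb : b ^ 3 = 1) (hab : Commute a b) (p q : Fin 3 × Fin 3) :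
    co a b p * co a b q = co a b (p + q) := by
  simp only [co, Prod.fst_add, Prod.snd_add, Fin.val_add, ← pow_eq_pow_mod _ ha, ← pow_eq_pow_mod _ hb]
  rw [pow_add, pow_add]
  calc a ^ (p.1 : ℕ) * b ^ (p.2 : ℕ) * (a ^ (q.1 : ℕ) * b ^ (q.2 : ℕ))
      = a ^ (p.1 : ℕ) * (b ^ (p.2 : ℕ) * a ^ (q.1 : ℕ)) * b ^ (q.2 : ℕ) := by group
    _ = a ^ (p.1 : ℕ) * (a ^ (q.1 : ℕ) * b ^ (p.2 : ℕ)) * b ^ (q.2 : ℕ) := by
      rw [((hab.pow_pow _ _).symm).eq]
    _ = _ := by group

theorem co_zero (a b : Y) : co a b 0 = 1 := by simp [co]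

theorem co_inv {a b : Y} (ha : a ^ 3 = 1) (hb : b ^ 3 = 1) (hab : Commute a b) (p : Fin 3 × Fin 3) :
    (co a b p)⁻¹ = co a b (-p) :=
  inv_eq_of_mul_eq_one_right (by rw [co_mul ha hb hab, add_neg_cancel, co_zero])

theorem co_mem (a b : Y) (p : Fin 3 × Fin 3) : co a b p ∈ closure ({a, b} : Set Y) :=
  mul_mem (pow_mem (subset_closure (Set.mem_insert a ({b} : Set Y))) (p.1 : ℕ))
    (pow_mem (subset_closure (Set.mem_insert_of_mem a (Set.mem_singleton b))) (p.2 : ℕ))

theorem exists_co {a b : Y} (ha : a ^ 3 = 1) (hb : b ^ 3 = 1) (hab : Commute a b) {x : Y}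
    (hx : x ∈ closure ({a, b} : Set Y)) : ∃ p, x = co a b p := by
  induction hx using closure_induction with
  | mem y hy =>
    rcases hy with rfl | rfl
    · exact ⟨(1, 0), by simp [co]⟩
    · exact ⟨(0, 1), by simp [co]⟩
  | one => exact ⟨0, (co_zero a b).symm⟩
  | mul y z _ _ hy hz =>
    obtain ⟨p, rfl⟩ := hy
    obtain ⟨q, rfl⟩ := hz
    exact ⟨p + q, co_mul ha hb hab p q⟩
  | inv y _ hy =>
    obtain ⟨p, rfl⟩ := hy
    exact ⟨-p, co_inv ha hb hab p⟩

theorem co_bij {a b : Y} (ha : a ^ 3 = 1) (hb : b ^ 3 = 1) (hab : Commute a b) :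
    Nat.card (closure ({a, b} : Set Y)) = 9 ↔ Function.Injective (co a b) := by
  let F : Fin 3 × Fin 3 → closure ({a, b} : Set Y) := fun p => ⟨co a b p, co_mem a b p⟩
  have hs : Function.Surjective F := fun x => by
    obtain ⟨p, hp⟩ := exists_co ha hb hab x.2
    exact ⟨p, Subtype.ext hp.symm⟩
  have : Finite (closure ({a, b} : Set Y)) := Finite.of_surjective F hs
  have h9 : Nat.card (Fin 3 × Fin 3) = 9 := by rw [Nat.card_prod, Nat.card_fin]
  constructor
  · intro h p q e
    exact ((Nat.bijective_iff_surjective_and_card F).2 ⟨hs, h9.trans h.symm⟩).1 (Subtype.ext e)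
  · intro h
    rw [← h9]
    exact (Nat.card_congr (Equiv.ofBijective F
      ⟨fun p q e => h (congrArg Subtype.val e), hs⟩)).symm

/-- Two generators, an exchanging and an inverting element. -/
structure Pair (a b u v : Y) : Prop where
  a3 : a ^ 3 = 1
  b3 : b ^ 3 = 1
  comm : Commute a b
  inj : Function.Injective (co a b)
  u_a : u * a * u⁻¹ = b
  u_b : u * b * u⁻¹ = a
  v_a : v * a * v⁻¹ = a
  v_b : v * b * v⁻¹ = b⁻¹
  lines : ∀ g : Y, g * a * g⁻¹ ∈ closure ({a, b} : Set Y) →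
    g * a * g⁻¹ = a ∨ g * a * g⁻¹ = a⁻¹ ∨ g * a * g⁻¹ = b ∨ g * a * g⁻¹ = b⁻¹

namespace Pair

variable {a b u v : Y} (P : Pair a b u v)

include P

theorem card_W : Nat.card (closure ({a, b} : Set Y)) = 9 := (co_bij P.a3 P.b3 P.comm).2 P.inj

theorem cube {x : Y} (hx : x ∈ closure ({a, b} : Set Y)) : x ^ 3 = 1 := by
  obtain ⟨p, rfl⟩ := exists_co P.a3 P.b3 P.comm hx
  rw [co, (P.comm.pow_pow _ _).mul_pow, ← pow_mul, ← pow_mul, mul_comm (p.1 : ℕ), mul_comm (p.2 : ℕ),
    pow_mul, pow_mul, P.a3, P.b3, one_pow, one_pow, one_mul]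

theorem isComm : IsMulCommutative (closure ({a, b} : Set Y)) := by
  refine ⟨⟨fun x y => Subtype.ext ?_⟩⟩
  obtain ⟨p, hp⟩ := exists_co P.a3 P.b3 P.comm x.2
  obtain ⟨q, hq⟩ := exists_co P.a3 P.b3 P.comm y.2
  show (x : Y) * y = y * x
  rw [hp, hq, co_mul P.a3 P.b3 P.comm, co_mul P.a3 P.b3 P.comm, add_comm]

theorem val : a = co a b (1, 0) ∧ a⁻¹ = co a b (2, 0) ∧ b = co a b (0, 1) ∧ b⁻¹ = co a b (0, 2) := by
  have e1 : a = co a b (1, 0) := by simp [co]
  have e2 : b = co a b (0, 1) := by simp [co]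
  refine ⟨e1, ?_, e2, ?_⟩
  · calc a⁻¹ = (co a b (1, 0))⁻¹ := by rw [← e1]
      _ = co a b (2, 0) := co_inv P.a3 P.b3 P.comm (1, 0)
  · calc b⁻¹ = (co a b (0, 1))⁻¹ := by rw [← e2]
      _ = co a b (0, 2) := co_inv P.a3 P.b3 P.comm (0, 1)

theorem mem_norm [Finite Y] {g : Y} (h1 : g * a * g⁻¹ ∈ closure ({a, b} : Set Y))
    (h2 : g * b * g⁻¹ ∈ closure ({a, b} : Set Y)) : g ∈ normalizer (closure ({a, b} : Set Y) : Set Y) := by
  have hle : (closure ({a, b} : Set Y)).map (MulAut.conj g).toMonoidHom ≤ closure ({a, b} : Set Y) := by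
    rw [MonoidHom.map_closure, closure_le]
    rintro x ⟨w, hw, rfl⟩
    rcases hw with rfl | rfl
    · exact h1
    · exact h2
  have he := eq_of_le_of_card_ge hle (card_map_of_injective (MulAut.conj g).injective).ge
  rw [Subgroup.mem_normalizer_iff]
  intro x
  refine ⟨fun hx => hle ⟨x, hx, rfl⟩, fun hx => ?_⟩
  obtain ⟨w, hw, e⟩ : g * x * g⁻¹ ∈ (closure ({a, b} : Set Y)).map (MulAut.conj g).toMonoidHom :=
    he.symm ▸ hx
  exact (MulAut.conj g).injective e ▸ hw

theorem u_norm [Finite Y] : u ∈ normalizer (closure ({a, b} : Set Y) : Set Y) :=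
  P.mem_norm (by rw [P.u_a]; exact subset_closure (Set.mem_insert_of_mem a (Set.mem_singleton b)))
    (by rw [P.u_b]; exact subset_closure (Set.mem_insert _ _))

theorem v_norm [Finite Y] : v ∈ normalizer (closure ({a, b} : Set Y) : Set Y) :=
  P.mem_norm (P.v_a.symm ▸ subset_closure (Set.mem_insert _ _))
    (P.v_b.symm ▸ inv_mem (subset_closure (Set.mem_insert_of_mem a (Set.mem_singleton b))))

omit P in
theorem cent_of_fix {g : Y} (h1 : g * a * g⁻¹ = a) (h2 : g * b * g⁻¹ = b) :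
    g ∈ centralizer (closure ({a, b} : Set Y) : Set Y) := by
  rw [centralizer_closure, mem_centralizer_iff]
  rintro x (rfl | rfl)
  · exact (mul_inv_eq_iff_eq_mul.1 h1).symm
  · exact (mul_inv_eq_iff_eq_mul.1 h2).symm

omit P in
theorem fix_of_cent {g : Y} (hg : g ∈ centralizer (closure ({a, b} : Set Y) : Set Y)) {x : Y}
    (hx : x ∈ closure ({a, b} : Set Y)) : g * x * g⁻¹ = x := by
  rw [← mem_centralizer_iff.1 hg x hx, mul_inv_cancel_right]

omit P in
theorem cent_le_norm : centralizer (closure ({a, b} : Set Y) : Set Y) ≤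
    normalizer (closure ({a, b} : Set Y) : Set Y) := by
  intro g hg
  rw [Subgroup.mem_normalizer_iff]
  intro x
  refine ⟨fun hx => by rwa [fix_of_cent hg hx], fun hx => ?_⟩
  have := fix_of_cent (inv_mem hg) hx
  rw [show g⁻¹ * (g * x * g⁻¹) * g⁻¹⁻¹ = x by group] at this
  rwa [this]

omit P in
theorem cent_normal : ((centralizer (closure ({a, b} : Set Y) : Set Y)).subgroupOf
    (normalizer (closure ({a, b} : Set Y) : Set Y))).Normal := by
  rw [← Subgroup.normalizerMonoidHom_ker]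
  infer_instance

/-- The images of the generators under the eight representatives. -/
def img : Bool × Bool × Bool → (Fin 3 × Fin 3) × (Fin 3 × Fin 3)
  | (false, j, k) => ((if j then 2 else 1, 0), (0, if k then 2 else 1))
  | (true, j, k) => ((0, if j then 2 else 1), (if k then 2 else 1, 0))

omit P in
theorem img_inj : Function.Injective img := by decide

/-- The representatives. -/
def rep (u v : Y) : Bool × Bool × Bool → Y
  | (i, j, k) => (if i then u else 1) * (if j then u * v * u⁻¹ else 1) * (if k then v else 1)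

omit P in
theorem inv_conj {g x y : Y} (h : g * x * g⁻¹ = y) : g * x⁻¹ * g⁻¹ = y⁻¹ := by rw [← h]; group

theorem w_act : u * v * u⁻¹ * a * (u * v * u⁻¹)⁻¹ = a⁻¹ ∧ u * v * u⁻¹ * b * (u * v * u⁻¹)⁻¹ = b := by
  constructor
  · calc u * v * u⁻¹ * a * (u * v * u⁻¹)⁻¹ = u * (v * (u⁻¹ * a * u) * v⁻¹) * u⁻¹ := by group
      _ = u * (v * b * v⁻¹) * u⁻¹ := by rw [show u⁻¹ * a * u = b by rw [← P.u_b]; group]
      _ = a⁻¹ := by rw [P.v_b, inv_conj P.u_b]
  · calc u * v * u⁻¹ * b * (u * v * u⁻¹)⁻¹ = u * (v * (u⁻¹ * b * u) * v⁻¹) * u⁻¹ := by group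
      _ = u * (v * a * v⁻¹) * u⁻¹ := by rw [show u⁻¹ * b * u = a by rw [← P.u_a]; group]
      _ = b := by rw [P.v_a, P.u_a]

theorem rep_act (q : Bool × Bool × Bool) :
    rep u v q * a * (rep u v q)⁻¹ = co a b (img q).1 ∧ rep u v q * b * (rep u v q)⁻¹ = co a b (img q).2 := by
  obtain ⟨ea, ea', eb, eb'⟩ := P.val
  obtain ⟨hwa, hwb⟩ := P.w_act
  obtain ⟨i, j, k⟩ := q
  have step : ∀ (g h x y z : Y), h * x * h⁻¹ = y → g * y * g⁻¹ = z → g * h * x * (g * h)⁻¹ = z := by
    intro g h x y z h1 h2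
    rw [← h2, ← h1]; group
  have one : ∀ x : Y, (1 : Y) * x * 1⁻¹ = x := fun x => by group
  have hj : ∀ j : Bool, (if j then u * v * u⁻¹ else 1) * a * (if j then u * v * u⁻¹ else 1)⁻¹ =
      (if j then a⁻¹ else a) ∧ (if j then u * v * u⁻¹ else 1) * b * (if j then u * v * u⁻¹ else 1)⁻¹ = b := by
    intro j; cases j
    · exact ⟨one a, one b⟩
    · exact ⟨hwa, hwb⟩
  have hk : ∀ k : Bool, (if k then v else 1) * a * (if k then v else 1)⁻¹ = a ∧
      (if k then v else 1) * b * (if k then v else 1)⁻¹ = (if k then b⁻¹ else b) := by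
    intro k; cases k
    · exact ⟨one a, one b⟩
    · exact ⟨P.v_a, P.v_b⟩
  have hjk : (if j then u * v * u⁻¹ else 1) * (if k then v else 1) * a *
      ((if j then u * v * u⁻¹ else 1) * (if k then v else 1))⁻¹ = (if j then a⁻¹ else a) ∧
      (if j then u * v * u⁻¹ else 1) * (if k then v else 1) * b *
      ((if j then u * v * u⁻¹ else 1) * (if k then v else 1))⁻¹ = (if k then b⁻¹ else b) := by
    refine ⟨step _ _ _ _ _ (hk k).1 (hj j).1, step _ _ _ _ _ (hk k).2 ?_⟩
    cases k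
    · exact (hj j).2
    · exact inv_conj (hj j).2
  rw [show rep u v (i, j, k) = (if i then u else 1) *
    ((if j then u * v * u⁻¹ else 1) * (if k then v else 1)) from mul_assoc _ _ _]
  cases i
  · simp only [Bool.false_eq_true, if_false, one_mul]
    refine ⟨hjk.1.trans ?_, hjk.2.trans ?_⟩
    · cases j
      · exact ea
      · exact ea'
    · cases k
      · exact eb
      · exact eb'
  · simp only [if_true]
    refine ⟨step _ _ _ _ _ hjk.1 ?_, step _ _ _ _ _ hjk.2 ?_⟩
    · cases j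
      · exact P.u_a.trans eb
      · exact (inv_conj P.u_a).trans eb'
    · cases k
      · exact P.u_b.trans ea
      · exact (inv_conj P.u_b).trans ea'

theorem rep_norm [Finite Y] (q : Bool × Bool × Bool) :
    rep u v q ∈ normalizer (closure ({a, b} : Set Y) : Set Y) :=
  P.mem_norm ((P.rep_act q).1 ▸ co_mem a b _) ((P.rep_act q).2 ▸ co_mem a b _)

/-- A normalising element acts as one of the eight representatives. -/
theorem norm_cases [Finite Y] {g : Y} (hg : g ∈ normalizer (closure ({a, b} : Set Y) : Set Y)) :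
    ∃ q, g * a * g⁻¹ = co a b (img q).1 ∧ g * b * g⁻¹ = co a b (img q).2 := by
  obtain ⟨ea, ea', eb, eb'⟩ := P.val
  have four : ∀ g ∈ normalizer (closure ({a, b} : Set Y) : Set Y),
      ∃ p ∈ [((1 : Fin 3), (0 : Fin 3)), (2, 0), (0, 1), (0, 2)], g * a * g⁻¹ = co a b p := by
    intro g hg
    rcases P.lines g ((Subgroup.mem_normalizer_iff.1 hg a).1 (subset_closure (Set.mem_insert _ _)))
      with e | e | e | e
    · exact ⟨_, List.mem_cons_self, e.trans ea⟩
    · exact ⟨(2, 0), by simp, e.trans ea'⟩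
    · exact ⟨(0, 1), by simp, e.trans eb⟩
    · exact ⟨(0, 2), by simp, e.trans eb'⟩
  obtain ⟨p, hp, ep⟩ := four g hg
  obtain ⟨r, hr, er⟩ := four (g * u) (mul_mem hg P.u_norm)
  rw [show g * u * a * (g * u)⁻¹ = g * (u * a * u⁻¹) * g⁻¹ by group, P.u_a] at er
  have hne : r ≠ p ∧ r ≠ -p := by
    constructor <;> intro e
    · rw [e, ← ep, mul_left_inj, mul_right_inj] at er
      exact absurd (P.inj (eb.symm.trans (er.trans ea))) (by decide)
    · rw [e, ← co_inv P.a3 P.b3 P.comm, ← ep,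
        show (g * a * g⁻¹)⁻¹ = g * a⁻¹ * g⁻¹ by group, mul_left_inj, mul_right_inj] at er
      exact absurd (P.inj ((eb.symm.trans er).trans ea')) (by decide)
  have key : ∀ p ∈ [((1 : Fin 3), (0 : Fin 3)), (2, 0), (0, 1), (0, 2)],
      ∀ r ∈ [((1 : Fin 3), (0 : Fin 3)), (2, 0), (0, 1), (0, 2)], r ≠ p → r ≠ -p →
      ∃ q, p = (img q).1 ∧ r = (img q).2 := by decide
  obtain ⟨q, h1, h2⟩ := key p hp r hr hne.1 hne.2
  exact ⟨q, ep.trans (congrArg _ h1), er.trans (congrArg _ h2)⟩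

/-- The automiser has order eight. -/
theorem card_quot [Finite Y] : Nat.card (normalizer (closure ({a, b} : Set Y) : Set Y) ⧸
    (centralizer (closure ({a, b} : Set Y) : Set Y)).subgroupOf
      (normalizer (closure ({a, b} : Set Y) : Set Y))) = 8 := by
  let Φ : Bool × Bool × Bool → normalizer (closure ({a, b} : Set Y) : Set Y) ⧸
    (centralizer (closure ({a, b} : Set Y) : Set Y)).subgroupOf
      (normalizer (closure ({a, b} : Set Y) : Set Y)) := fun q => QuotientGroup.mk ⟨rep u v q, P.rep_norm q⟩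
  have hΦ : Function.Bijective Φ := by
    constructor
    · intro q q' e
      have h1 := QuotientGroup.eq.1 e
      rw [Subgroup.mem_subgroupOf] at h1
      have act : ∀ x ∈ closure ({a, b} : Set Y),
          rep u v q * x * (rep u v q)⁻¹ = rep u v q' * x * (rep u v q')⁻¹ := by
        intro x hx
        have h2 : (rep u v q)⁻¹ * rep u v q' * x * ((rep u v q)⁻¹ * rep u v q')⁻¹ = x := fix_of_cent h1 hx
        calc rep u v q * x * (rep u v q)⁻¹
            = rep u v q * ((rep u v q)⁻¹ * rep u v q' * x * ((rep u v q)⁻¹ * rep u v q')⁻¹) *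
                (rep u v q)⁻¹ := by rw [h2]
          _ = _ := by group
      have e1 := act a (subset_closure (Set.mem_insert _ _))
      have e2 := act b (subset_closure (Set.mem_insert_of_mem a (Set.mem_singleton b)))
      rw [(P.rep_act q).1, (P.rep_act q').1] at e1
      rw [(P.rep_act q).2, (P.rep_act q').2] at e2
      exact img_inj (Prod.ext (P.inj e1) (P.inj e2))
    · intro x
      obtain ⟨⟨g, hg⟩, rfl⟩ := QuotientGroup.mk_surjective x
      obtain ⟨q, h1, h2⟩ := P.norm_cases hg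
      refine ⟨q, QuotientGroup.eq.2 (Subgroup.mem_subgroupOf.2 (cent_of_fix ?_ ?_))⟩
      · show (rep u v q)⁻¹ * g * a * ((rep u v q)⁻¹ * g)⁻¹ = a
        rw [show (rep u v q)⁻¹ * g * a * ((rep u v q)⁻¹ * g)⁻¹ =
          (rep u v q)⁻¹ * (g * a * g⁻¹) * rep u v q by group, h1, ← (P.rep_act q).1]
        group
      · show (rep u v q)⁻¹ * g * b * ((rep u v q)⁻¹ * g)⁻¹ = b
        rw [show (rep u v q)⁻¹ * g * b * ((rep u v q)⁻¹ * g)⁻¹ =
          (rep u v q)⁻¹ * (g * b * g⁻¹) * rep u v q by group, h2, ← (P.rep_act q).2]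
        group
  rw [← Nat.card_congr (Equiv.ofBijective Φ hΦ)]
  simp [Nat.card_eq_fintype_card]

theorem card_norm [Finite Y] : Nat.card (normalizer (closure ({a, b} : Set Y) : Set Y)) =
    8 * Nat.card (centralizer (closure ({a, b} : Set Y) : Set Y)) := by
  rw [card_eq_card_quotient_mul_card_subgroup ((centralizer (closure ({a, b} : Set Y) : Set Y)).subgroupOf
      (normalizer (closure ({a, b} : Set Y) : Set Y))), P.card_quot,
    Nat.card_congr (subgroupOfEquivOfLe cent_le_norm).toEquiv]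

/-- The automiser is dihedral. -/
theorem dihedral [Finite Y] [((centralizer (closure ({a, b} : Set Y) : Set Y)).subgroupOf
    (normalizer (closure ({a, b} : Set Y) : Set Y))).Normal] :
    Nonempty (normalizer (closure ({a, b} : Set Y) : Set Y) ⧸
      (centralizer (closure ({a, b} : Set Y) : Set Y)).subgroupOf
        (normalizer (closure ({a, b} : Set Y) : Set Y)) ≃* DihedralGroup 4) := by
  refine IsoTools.iso_dihedral P.card_quot
    (a := QuotientGroup.mk ⟨u, P.u_norm⟩) (b := QuotientGroup.mk ⟨v, P.v_norm⟩) ?_ ?_ ?_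
  · rw [← QuotientGroup.mk_mul]
    refine (QuotientGroup.eq_one_iff _).2 (Subgroup.mem_subgroupOf.2 (cent_of_fix ?_ ?_))
    · show u * u * a * (u * u)⁻¹ = a
      rw [show u * u * a * (u * u)⁻¹ = u * (u * a * u⁻¹) * u⁻¹ by group, P.u_a, P.u_b]
    · show u * u * b * (u * u)⁻¹ = b
      rw [show u * u * b * (u * u)⁻¹ = u * (u * b * u⁻¹) * u⁻¹ by group, P.u_b, P.u_a]
  · rw [← QuotientGroup.mk_mul]
    refine (QuotientGroup.eq_one_iff _).2 (Subgroup.mem_subgroupOf.2 (cent_of_fix ?_ ?_))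
    · show v * v * a * (v * v)⁻¹ = a
      rw [show v * v * a * (v * v)⁻¹ = v * (v * a * v⁻¹) * v⁻¹ by group, P.v_a, P.v_a]
    · show v * v * b * (v * v)⁻¹ = b
      rw [show v * v * b * (v * v)⁻¹ = v * (v * b * v⁻¹) * v⁻¹ by group, P.v_b, inv_conj P.v_b, inv_inv]
  · rw [← QuotientGroup.mk_mul, ← QuotientGroup.mk_mul, Ne, QuotientGroup.eq, Subgroup.mem_subgroupOf]
    intro hc
    have h1 := fix_of_cent hc (subset_closure (Set.mem_insert a ({b} : Set Y)))
    simp only [Subgroup.coe_mul, Subgroup.coe_inv] at h1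
    rw [show (u * v)⁻¹ * (v * u) * a * ((u * v)⁻¹ * (v * u))⁻¹ =
      (u * v)⁻¹ * (v * (u * a * u⁻¹) * v⁻¹) * (u * v) by group, P.u_a, P.v_b] at h1
    have h2 : b⁻¹ = u * (v * a * v⁻¹) * u⁻¹ := by
      calc b⁻¹ = u * v * ((u * v)⁻¹ * b⁻¹ * (u * v)) * (u * v)⁻¹ := by group
        _ = u * v * a * (u * v)⁻¹ := by rw [h1]
        _ = _ := by group
    rw [P.v_a, P.u_a] at h2
    obtain ⟨-, -, eb, eb'⟩ := P.val
    exact absurd (P.inj (eb'.symm.trans (h2.trans eb))) (by decide)

theorem fix_prod [Finite Y] {g : Y} (hg : g ∈ normalizer (closure ({a, b} : Set Y) : Set Y))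
    (hy : g * (a * b) * g⁻¹ = a * b) :
    g ∈ centralizer (closure ({a, b} : Set Y) : Set Y) ∨
      g * u ∈ centralizer (closure ({a, b} : Set Y) : Set Y) := by
  obtain ⟨ea, ea', eb, eb'⟩ := P.val
  obtain ⟨q, h1, h2⟩ := P.norm_cases hg
  have e : co a b ((img q).1 + (img q).2) = co a b (1, 1) := by
    rw [← co_mul P.a3 P.b3 P.comm, ← h1, ← h2,
      show g * a * g⁻¹ * (g * b * g⁻¹) = g * (a * b) * g⁻¹ by group, hy]
    simp [co]
  have key : ∀ q, (img q).1 + (img q).2 = (1, 1) →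
      ((img q).1 = (1, 0) ∧ (img q).2 = (0, 1)) ∨ ((img q).1 = (0, 1) ∧ (img q).2 = (1, 0)) := by decide
  rcases key q (P.inj e) with ⟨k1, k2⟩ | ⟨k1, k2⟩ <;> rw [k1] at h1 <;> rw [k2] at h2
  · exact Or.inl (cent_of_fix (h1.trans ea.symm) (h2.trans eb.symm))
  · refine Or.inr (cent_of_fix ?_ ?_)
    · rw [show g * u * a * (g * u)⁻¹ = g * (u * a * u⁻¹) * g⁻¹ by group, P.u_a, h2, ← ea]
    · rw [show g * u * b * (g * u)⁻¹ = g * (u * b * u⁻¹) * g⁻¹ by group, P.u_b, h1, ← eb]

omit P in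
theorem cent_le_cy : centralizer (closure ({a, b} : Set Y) : Set Y) ≤ centralizer ({a * b} : Set Y) :=
  centralizer_le (Set.singleton_subset_iff.2 (mul_mem (subset_closure (Set.mem_insert _ _))
    (subset_closure (Set.mem_insert_of_mem a (Set.mem_singleton b)))))

theorem u_cy : u ∈ centralizer ({a * b} : Set Y) := by
  refine mem_centralizer_singleton_iff.2 (mul_inv_eq_iff_eq_mul.1 ?_)
  calc u * (a * b) * u⁻¹ = (u * a * u⁻¹) * (u * b * u⁻¹) := by group
    _ = a * b := by rw [P.u_a, P.u_b, P.comm.eq]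

theorem card_cy [Finite Y]
    (hcy : centralizer ({a * b} : Set Y) ≤ normalizer (closure ({a, b} : Set Y) : Set Y)) :
    Nat.card (centralizer ({a * b} : Set Y)) =
      2 * Nat.card (centralizer (closure ({a, b} : Set Y) : Set Y)) := by
  have hidx : ((centralizer (closure ({a, b} : Set Y) : Set Y)).subgroupOf
      (centralizer ({a * b} : Set Y))).index = 2 := by
    rw [Subgroup.index_eq_two_iff]
    refine ⟨⟨u, P.u_cy⟩, fun g => ?_⟩
    have hg : (g : Y) * (a * b) * (g : Y)⁻¹ = a * b := by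
      rw [mem_centralizer_singleton_iff.1 g.2, mul_inv_cancel_right]
    simp only [Subgroup.mem_subgroupOf, Subgroup.coe_mul]
    rcases P.fix_prod (hcy g.2) hg with h | h
    · refine Or.inr ⟨h, fun h' => ?_⟩
      have hu : u ∈ centralizer (closure ({a, b} : Set Y) : Set Y) :=
        (mul_mem_cancel_left h).1 h'
      have := fix_of_cent hu (subset_closure (Set.mem_insert a ({b} : Set Y)))
      rw [P.u_a] at this
      obtain ⟨ea, -, eb, -⟩ := P.val
      exact absurd (P.inj (eb.symm.trans (this.trans ea))) (by decide)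
    · refine Or.inl ⟨h, fun h' => ?_⟩
      have hu : u ∈ centralizer (closure ({a, b} : Set Y) : Set Y) :=
        (mul_mem_cancel_left h').1 h
      have := fix_of_cent hu (subset_closure (Set.mem_insert a ({b} : Set Y)))
      rw [P.u_a] at this
      obtain ⟨ea, -, eb, -⟩ := P.val
      exact absurd (P.inj (eb.symm.trans (this.trans ea))) (by decide)
  have := ((centralizer (closure ({a, b} : Set Y) : Set Y)).subgroupOf
    (centralizer ({a * b} : Set Y))).card_mul_index
  rw [hidx, Nat.card_congr (subgroupOfEquivOfLe cent_le_cy).toEquiv] at this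
  omega

end Pair

end Cfsg.Agent.McLLoc.Bar
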