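import Cfsg.Agent.McLLoc.Defs
import Cfsg.Agent.McLLoc.QuotPair
import Cfsg.Agent.A8ThreeLocal.Setup

/-!
The images of `z`, `z'` and `u` in the centraliser of the involution modulo the involution.
-/

set_option autoImplicit false

namespace Cfsg.Agent.McLLoc.Bar

open Subgroup

variable {G : Type*} [Group G] {s : Setting G} (f : Frame s)

/-- The image of `W`. -/
abbrev Wq : Subgroup f.Xq := closure ({f.zq, f.z'q} : Set f.Xq)

theorem t_sq : f.t * f.t = 1 := by rw [← pow_two, ← f.t_ord]; exact pow_orderOf_eq_one _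

theorem t_ne : f.t ≠ 1 := fun h => by
  have := f.t_ord
  rw [h, orderOf_one] at this
  omega

theorem mem_T0 {x : f.X} (hx : x ∈ f.T0) : (x : G) = 1 ∨ (x : G) = f.t := by
  obtain ⟨n, hn⟩ := mem_zpowers_iff.1 (mem_subgroupOf.1 hx)
  rw [← hn, ← zpow_mod_orderOf, f.t_ord]
  rcases Int.emod_two_eq_zero_or_one n with e | e
  · left; simp [e]
  · right; simp [e]

theorem comm_t (x : f.X) : Commute (x : G) f.t := mem_centralizer_singleton_iff.1 x.2

theorem T0_comm {τ : f.X} (h : τ ∈ f.T0) (x : f.X) : Commute x τ := by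
  refine Subtype.ext ?_
  show (x : G) * τ = τ * x
  rcases mem_T0 f h with e | e <;> rw [e]
  · rw [one_mul, mul_one]
  · exact comm_t f x

theorem T0_sq {τ : f.X} (h : τ ∈ f.T0) : τ * τ = 1 := by
  refine Subtype.ext ?_
  show (τ : G) * τ = 1
  rcases mem_T0 f h with e | e <;> rw [e]
  · exact one_mul 1
  · exact t_sq f

theorem proj_eq_iff {x y : f.X} : f.proj x = f.proj y ↔ ∃ τ ∈ f.T0, y = x * τ := by
  rw [QuotientGroup.mk'_apply, QuotientGroup.mk'_apply, QuotientGroup.eq]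
  exact ⟨fun h => ⟨_, h, by group⟩, by rintro ⟨τ, h, rfl⟩; simpa using h⟩

theorem proj_one_iff {x : f.X} : f.proj x = 1 ↔ x ∈ f.T0 := QuotientGroup.eq_one_iff _

/-- Elements of order three with the same image are equal. -/
theorem lift_eq {x y : f.X} (h : f.proj x = f.proj y) (hx : x ^ 3 = 1) (hy : y ^ 3 = 1) : x = y := by
  obtain ⟨τ, hτ, rfl⟩ := (proj_eq_iff f).1 h
  rw [(T0_comm f hτ x).mul_pow, hx, one_mul, pow_succ, pow_two, T0_sq f hτ, one_mul] at hy
  rw [hy, mul_one]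

theorem J_comm {a b : G} (ha : a ∈ s.J) (hb : b ∈ s.J) : Commute a b :=
  congrArg Subtype.val (s.hJcomm.is_comm.comm (⟨a, ha⟩ : s.J) ⟨b, hb⟩)

theorem z_mem_J : f.z ∈ s.J := f.W_le (subset_closure (Set.mem_insert _ _))

theorem z_cube : f.z ^ 3 = 1 := s.hJexp _ (z_mem_J f)

theorem z'_cube : f.z' ^ 3 = 1 := s.hJexp _ f.z'_mem

theorem zz_comm : Commute f.z f.z' := J_comm (z_mem_J f) f.z'_mem

theorem co_G_inj : Function.Injective (co f.z f.z') :=
  (co_bij (z_cube f) (z'_cube f) (zz_comm f)).1 f.card_W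

/-- `z` and `z'` as elements of the centraliser. -/
abbrev zX : f.X := ⟨f.z, f.z_memX⟩

/-- The second of them. -/
abbrev z'X : f.X := ⟨f.z', f.z'_memX⟩

theorem zX_cube : zX f ^ 3 = 1 := Subtype.ext (z_cube f)

theorem z'X_cube : z'X f ^ 3 = 1 := Subtype.ext (z'_cube f)

theorem zzX_comm : Commute (zX f) (z'X f) := Subtype.ext (zz_comm f).eq

theorem co_X_val (p : Fin 3 × Fin 3) : ((co (zX f) (z'X f) p : f.X) : G) = co f.z f.z' p := by
  rfl

theorem co_proj (p : Fin 3 × Fin 3) : f.proj (co (zX f) (z'X f) p) = co f.zq f.z'q p := by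
  show f.proj (zX f ^ (p.1 : ℕ) * z'X f ^ (p.2 : ℕ)) = f.zq ^ (p.1 : ℕ) * f.z'q ^ (p.2 : ℕ)
  rw [map_mul, map_pow, map_pow]

theorem co_X_cube (p : Fin 3 × Fin 3) : co (zX f) (z'X f) p ^ 3 = 1 := by
  rw [co, ((zzX_comm f).pow_pow _ _).mul_pow, ← pow_mul, ← pow_mul, mul_comm (p.1 : ℕ),
    mul_comm (p.2 : ℕ), pow_mul, pow_mul, zX_cube, z'X_cube, one_pow, one_pow, one_mul]

theorem zq_cube : f.zq ^ 3 = 1 := by rw [← map_pow, zX_cube, map_one]

theorem z'q_cube : f.z'q ^ 3 = 1 := by rw [← map_pow, z'X_cube, map_one]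

theorem zzq_comm : Commute f.zq f.z'q := (zzX_comm f).map f.proj

theorem co_q_inj : Function.Injective (co f.zq f.z'q) := by
  intro p q e
  rw [← co_proj, ← co_proj] at e
  refine co_G_inj f ?_
  rw [← co_X_val, ← co_X_val, lift_eq f e (co_X_cube f p) (co_X_cube f q)]

theorem zq_ne : f.zq ≠ 1 := fun e =>
  absurd (co_q_inj f (a₁ := (1, 0)) (a₂ := (0, 0)) (by simp [co, e])) (by decide)

theorem exists_lift (g : f.Xq) : ∃ g' : f.X, f.proj g' = g := QuotientGroup.mk_surjective g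

/-- A conjugate of an element of `W` lying in `Wq` lifts. -/
theorem conj_lift {g w : f.X} (hw : w ^ 3 = 1) {p : Fin 3 × Fin 3}
    (h : f.proj g * f.proj w * (f.proj g)⁻¹ = co f.zq f.z'q p) :
    (g : G) * w * (g : G)⁻¹ = co f.z f.z' p := by
  rw [← co_X_val, ← co_proj, ← map_inv, ← map_mul, ← map_mul] at *
  exact congrArg Subtype.val (lift_eq f h (by rw [conj_pow, hw]; group) (co_X_cube f p))

theorem lines (F : Facts f) (g : f.Xq) (hg : g * f.zq * g⁻¹ ∈ Wq f) :
    g * f.zq * g⁻¹ = f.zq ∨ g * f.zq * g⁻¹ = f.zq⁻¹ ∨ g * f.zq * g⁻¹ = f.z'q ∨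
      g * f.zq * g⁻¹ = f.z'q⁻¹ := by
  obtain ⟨g', rfl⟩ := exists_lift f g
  obtain ⟨p, hp⟩ := exists_co (zq_cube f) (z'q_cube f) (zzq_comm f) hg
  have h1 := conj_lift f (zX_cube f) hp
  have hz1 : f.z ≠ 1 := fun e => zq_ne f (by
    rw [show f.zq = f.proj (zX f) from rfl, show zX f = 1 from Subtype.ext e, map_one])
  have hne : (g' : G) * f.z * (g' : G)⁻¹ ≠ 1 := fun e => hz1 (conj_eq_one_iff.1 e)
  have conv : ∀ w : f.X, w ^ 3 = 1 → (g' : G) * f.z * (g' : G)⁻¹ = w →
      f.proj g' * f.zq * (f.proj g')⁻¹ = f.proj w := fun w _ e => by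
    rw [← map_inv, ← map_mul, ← map_mul]
    exact congrArg f.proj (Subtype.ext e)
  rcases F.not_fused g' (h1 ▸ co_mem f.z f.z' p) with h | h
  · rw [← f.hz] at h
    rcases A8ThreeLocal.cases_pow_three (z_cube f) h with e | e | e
    · exact absurd e hne
    · exact Or.inl (conv (zX f) (zX_cube f) e)
    · exact Or.inr (Or.inl ((conv (zX f)⁻¹ (by rw [inv_pow, zX_cube, inv_one]) e).trans (map_inv _ _)))
  · rcases A8ThreeLocal.cases_pow_three (z'_cube f) h with e | e | e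
    · exact absurd e hne
    · exact Or.inr (Or.inr (Or.inl (conv (z'X f) (z'X_cube f) e)))
    · exact Or.inr (Or.inr (Or.inr
        ((conv (z'X f)⁻¹ (by rw [inv_pow, z'X_cube, inv_one]) e).trans (map_inv _ _))))

theorem u_sq : f.u * f.u = 1 := by rw [← pow_two, ← f.u_ord]; exact pow_orderOf_eq_one _

theorem uq_sq : f.uq * f.uq = 1 := by
  rw [← map_mul]
  exact (congrArg f.proj (Subtype.ext (u_sq f))).trans (map_one _)

theorem u_z' : f.u * f.z' * f.u⁻¹ = f.z := by
  rw [← f.u_z, show f.u * (f.u * f.z * f.u⁻¹) * f.u⁻¹ = (f.u * f.u) * f.z * (f.u * f.u)⁻¹ by group,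
    u_sq, one_mul, inv_one, mul_one]

theorem uq_z : f.uq * f.zq * f.uq⁻¹ = f.z'q := by
  rw [← map_inv, ← map_mul, ← map_mul]
  exact congrArg f.proj (Subtype.ext f.u_z)

theorem uq_z' : f.uq * f.z'q * f.uq⁻¹ = f.zq := by
  rw [← map_inv, ← map_mul, ← map_mul]
  exact congrArg f.proj (Subtype.ext (u_z' f))

/-- An inverter of `z'` centralising `z` completes the frame. -/
theorem pair (F : Facts f) {v : f.Xq} (h1 : v * f.zq * v⁻¹ = f.zq) (h2 : v * f.z'q * v⁻¹ = f.z'q⁻¹) :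
    Pair f.zq f.z'q f.uq v :=
  ⟨zq_cube f, z'q_cube f, zzq_comm f, co_q_inj f, uq_z f, uq_z' f, h1, h2, lines f F⟩

variable [Finite G]

/-- The centraliser of `zz'` normalises the image of `W`. -/
theorem cy_le (F : Facts f) : centralizer ({f.zq * f.z'q} : Set f.Xq) ≤
    normalizer (Wq f : Set f.Xq) := by
  intro g hg
  obtain ⟨g', rfl⟩ := exists_lift f g
  have hy : (g' : G) * (f.z * f.z') * (g' : G)⁻¹ = f.z * f.z' := by
    have h1 : f.proj g' * f.proj (zX f * z'X f) * (f.proj g')⁻¹ = co f.zq f.z'q (1, 1) := by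
      rw [map_mul, mem_centralizer_singleton_iff.1 hg, mul_inv_cancel_right]
      simp [co]
    have h2 := conj_lift f (w := zX f * z'X f)
      (by rw [(zzX_comm f).mul_pow, zX_cube, z'X_cube, one_mul]) h1
    simpa [co] using h2
  have hJ : (g' : G) ∈ normalizer (s.J : Set G) :=
    F.cent_y (mem_centralizer_singleton_iff.2 (mul_inv_eq_iff_eq_mul.1 hy))
  have hW : ∀ w : f.X, (w : G) ∈ s.J → f.proj g' * f.proj w * (f.proj g')⁻¹ ∈ Wq f := by
    intro w hw
    have h1 : (g' : G) * w * (g' : G)⁻¹ ∈ f.W := by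
      rw [Frame.W, f.hW]
      exact ⟨(Subgroup.mem_normalizer_iff.1 hJ _).1 hw, (g' * w * g'⁻¹ : f.X).2⟩
    obtain ⟨p, hp⟩ := exists_co (z_cube f) (z'_cube f) (zz_comm f) h1
    have h2 : g' * w * g'⁻¹ = co (zX f) (z'X f) p := Subtype.ext (by rw [co_X_val, ← hp]; rfl)
    rw [← map_inv, ← map_mul, ← map_mul, h2, co_proj]
    exact co_mem _ _ p
  rw [Subgroup.mem_normalizer_iff]
  have hle : (Wq f).map (MulAut.conj (f.proj g')).toMonoidHom ≤ Wq f := by
    rw [MonoidHom.map_closure, closure_le]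
    rintro x ⟨w, hw, rfl⟩
    rcases hw with rfl | rfl
    · exact hW (zX f) (z_mem_J f)
    · exact hW (z'X f) f.z'_mem
  have he := eq_of_le_of_card_ge hle (card_map_of_injective (MulAut.conj (f.proj g')).injective).ge
  intro x
  refine ⟨fun hx => hle ⟨x, hx, rfl⟩, fun hx => ?_⟩
  obtain ⟨w, hw, e⟩ : f.proj g' * x * (f.proj g')⁻¹ ∈
      (Wq f).map (MulAut.conj (f.proj g')).toMonoidHom := he.symm ▸ hx
  exact (MulAut.conj (f.proj g')).injective e ▸ hw

omit [Finite G] in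
theorem card_Wq : Nat.card (Wq f) = 9 := (co_bij (zq_cube f) (z'q_cube f) (zzq_comm f)).2 (co_q_inj f)

/-- The Sylow subgroup. -/
theorem exists_sylow {v : f.Xq} (P : Pair f.zq f.z'q f.uq v)
    (h : ¬ 27 ∣ Nat.card (centralizer (Wq f : Set f.Xq))) :
    ∃ S : Sylow 3 f.Xq, Wq f = S := by
  have : Fact (Nat.Prime 3) := ⟨Nat.prime_three⟩
  have h27 : ¬ 27 ∣ Nat.card f.Xq := by
    intro hd
    obtain ⟨K, hK, hle⟩ := Sylow.exists_subgroup_card_pow_succ (p := 3) (n := 2) (G := f.Xq)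
      (by norm_num; exact hd) (H := Wq f) (by rw [card_Wq f]; norm_num)
    have hidx : ((Wq f).subgroupOf K).index = 3 := by
      have := ((Wq f).subgroupOf K).card_mul_index
      rw [Nat.card_congr (subgroupOfEquivOfLe hle).toEquiv, card_Wq f, hK] at this
      norm_num at this
      omega
    have hn : ((Wq f).subgroupOf K).Normal :=
      normal_of_index_eq_minFac_card (by rw [hidx, hK]; norm_num)
    have hKN : K ≤ normalizer (Wq f : Set f.Xq) := (normal_subgroupOf_iff_le_normalizer hle).1 hn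
    have := Pair.cent_normal (a := f.zq) (b := f.z'q)
    have hKC : K ≤ centralizer (Wq f : Set f.Xq) := by
      intro k hk
      have h8 := pow_index_mem ((centralizer (Wq f : Set f.Xq)).subgroupOf
        (normalizer (Wq f : Set f.Xq))) ⟨k, hKN hk⟩
      rw [show ((centralizer (Wq f : Set f.Xq)).subgroupOf (normalizer (Wq f : Set f.Xq))).index = 8
        from P.card_quot, mem_subgroupOf] at h8
      have h27' : k ^ 27 = 1 := by
        have := congrArg Subtype.val (pow_card_eq_one' (x := (⟨k, hk⟩ : K)))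
        rw [hK] at this
        simpa using this
      have e : (k ^ 8) ^ 17 = k := by
        rw [← pow_mul, show 8 * 17 = 27 * 5 + 1 by norm_num, pow_succ, pow_mul, h27', one_pow, one_mul]
      exact e ▸ pow_mem (show k ^ 8 ∈ centralizer (Wq f : Set f.Xq) from h8) 17
    exact h (by simpa [hK] using card_dvd_of_le hKC)
  have hpos : Nat.card f.Xq ≠ 0 := Nat.card_pos.ne'
  have hd : 3 ^ 2 ∣ Nat.card f.Xq := by
    rw [show (3 : ℕ) ^ 2 = Nat.card (Wq f) by rw [card_Wq f]; norm_num]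
    exact card_subgroup_dvd_card _
  have hf : (Nat.card f.Xq).factorization 3 = 2 := by
    refine le_antisymm ?_ ((Nat.prime_three.pow_dvd_iff_le_factorization hpos).1 hd)
    by_contra hlt
    exact h27 ((Nat.prime_three.pow_dvd_iff_le_factorization (k := 3) hpos).2 (by omega))
  exact ⟨Sylow.ofCard (Wq f) (by rw [hf, card_Wq f]; norm_num), rfl⟩

end Cfsg.Agent.McLLoc.Bar
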