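import Cfsg.Agent.McLLoc.QuotInv

/-!
In the second case the two alternating groups of degree five centralising `zq` and `z'q` do not
commute: otherwise an element of `M` would act as minus one on `J`.
-/

set_option autoImplicit false
set_option synthInstance.maxSize 2000

namespace Cfsg.Agent.McLLoc.Bar

open Equiv Equiv.Perm Subgroup
open Cfsg.Agent.A8ThreeLocal (A5)

variable {G : Type*} [Group G] {s : Setting G} {f : Frame s}

theorem M_conj {g m : G} (hg : g ∈ normalizer (s.J : Set G)) (hm : m ∈ s.M) : g * m * g⁻¹ ∈ s.M := by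
  have hle : s.M ≤ s.M.comap (MulAut.conj g).toMonoidHom := by
    rw [s.hM, closure_le]
    rintro x ⟨hx, k, hk⟩
    exact subset_closure ⟨mul_mem (mul_mem hg hx) (inv_mem hg), k,
      by rw [← hk]; exact (MulAut.conj g).orderOf_eq x⟩
  exact hle hm

theorem M_le_norm : s.M ≤ normalizer (s.J : Set G) := by
  rw [s.hM, closure_le]
  exact fun x hx => hx.1

theorem central_commutator {Y : Type*} [Group Y] {q r a b : Y} (ha : ∀ x, Commute x a)
    (hb : ∀ x, Commute x b) : q * a * (r * b) * (q * a)⁻¹ * (r * b)⁻¹ = q * r * q⁻¹ * r⁻¹ := by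
  calc q * a * (r * b) * (q * a)⁻¹ * (r * b)⁻¹
      = q * (a * (r * b) * a⁻¹) * q⁻¹ * b⁻¹ * r⁻¹ := by group
    _ = q * (r * b) * q⁻¹ * b⁻¹ * r⁻¹ := by rw [(ha (r * b)).symm.eq, mul_inv_cancel_right]
    _ = q * r * (b * q⁻¹) * b⁻¹ * r⁻¹ := by group
    _ = q * r * q⁻¹ * r⁻¹ := by rw [← (hb q⁻¹).eq]; group

variable [Finite G]

/-- An element fixing `z` and inverting `z'` normalises `J`. -/
theorem norm_J (F : Facts f) {g : G} (h1 : g * f.z * g⁻¹ = f.z) (h2 : g * f.z' * g⁻¹ = f.z'⁻¹) :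
    g ∈ normalizer (s.J : Set G) := by
  have : Fact (Nat.Prime 3) := ⟨Nat.prime_three⟩
  set J' := s.J.map (MulAut.conj g).toMonoidHom with hJ'
  have h81 : Nat.card s.J = 3 ^ 4 := s.hJcard
  have hJ'card : Nat.card J' = 3 ^ 4 := by
    rw [hJ', card_map_of_injective (MulAut.conj g).injective, h81]
  have hJ'comm : ∀ a ∈ J', ∀ b ∈ J', Commute a b := by
    rintro _ ⟨a, ha, rfl⟩ _ ⟨b, hb, rfl⟩
    exact (J_comm ha hb).map _
  have hy : f.z * f.z' ∈ J' := by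
    refine ⟨f.z * f.z'⁻¹, mul_mem (z_mem_J f) (inv_mem f.z'_mem), ?_⟩
    show g * (f.z * f.z'⁻¹) * g⁻¹ = f.z * f.z'
    rw [show g * (f.z * f.z'⁻¹) * g⁻¹ = g * f.z * g⁻¹ * (g * f.z' * g⁻¹)⁻¹ by group, h1, h2, inv_inv]
  have hJ'N : J' ≤ normalizer (s.J : Set G) := fun a ha =>
    F.cent_y (mem_centralizer_singleton_iff.2 (hJ'comm a ha _ hy).eq)
  have hJp : IsPGroup 3 s.J := IsPGroup.of_card h81
  have hJ'p : IsPGroup 3 J' := IsPGroup.of_card hJ'card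
  obtain ⟨P, hP⟩ := (hJp.to_sup_of_normal_left' hJ'p hJ'N).exists_le_sylow
  obtain ⟨a, ha⟩ := MulAction.exists_smul_eq G s.S P
  have key : ∀ A : Subgroup G, A ≤ (P : Subgroup G) → (∀ x ∈ A, ∀ y ∈ A, Commute x y) →
      Nat.card A = 3 ^ 4 → A.map (MulAut.conj a⁻¹).toMonoidHom = s.J := by
    intro A hA hc hcard
    refine F.J_unique _ ?_ ?_ ?_
    · rintro _ ⟨x, hx, rfl⟩
      have := hA hx
      rw [← ha, Sylow.coe_subgroup_smul, Subgroup.mem_pointwise_smul_iff_inv_smul_mem] at this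
      simpa [MulAut.smul_def, mul_assoc] using this
    · refine ⟨⟨fun x y => Subtype.ext ?_⟩⟩
      obtain ⟨x', hx', ex⟩ := x.2
      obtain ⟨y', hy', ey⟩ := y.2
      show (x : G) * y = y * x
      rw [← ex, ← ey, ← map_mul, ← map_mul, (hc x' hx' y' hy').eq]
    · rw [card_map_of_injective (MulAut.conj a⁻¹).injective, hcard]
  have e1 := key s.J (le_sup_left.trans hP) (fun x hx y hy => J_comm hx hy) h81
  have e2 := key J' (le_sup_right.trans hP) hJ'comm hJ'card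
  have he : J' = s.J := Subgroup.map_injective (MulAut.conj a⁻¹).injective (e2.trans e1.symm)
  rw [Subgroup.mem_normalizer_iff]
  intro x
  refine ⟨fun hx => he ▸ ⟨x, hx, rfl⟩, fun hx => ?_⟩
  obtain ⟨w, hw, e⟩ : g * x * g⁻¹ ∈ J' := he.symm ▸ hx
  exact (MulAut.conj g).injective e ▸ hw

omit [Finite G] in
theorem c_inv_co (p : Fin 3 × Fin 3) : f.c * co f.z f.z' p * f.c⁻¹ = (co f.z f.z' p)⁻¹ := by
  unfold co
  rw [show f.c * (f.z ^ (p.1 : ℕ) * f.z' ^ (p.2 : ℕ)) * f.c⁻¹ =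
      f.c * f.z ^ (p.1 : ℕ) * f.c⁻¹ * (f.c * f.z' ^ (p.2 : ℕ) * f.c⁻¹) by group,
    ← conj_pow, ← conj_pow, f.c_z, f.c_z', mul_inv_rev, inv_pow, inv_pow]
  exact ((zz_comm f).pow_pow _ _).inv_inv.eq

omit [Finite G] in
/-- An element of the preimage of `Wq` is in `W⟨t⟩`. -/
theorem preimage_W {d : f.X} (hd : f.proj d ∈ Wq f) :
    ∃ (p : Fin 3 × Fin 3) (τ : f.X), τ ∈ f.T0 ∧ d = co (zX f) (z'X f) p * τ := by
  obtain ⟨p, hp⟩ := exists_co (zq_cube f) (z'q_cube f) (zzq_comm f) hd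
  rw [← co_proj] at hp
  obtain ⟨τ, hτ, e⟩ := (proj_eq_iff f).1 hp.symm
  exact ⟨p, τ, hτ, e⟩

omit [Finite G] in
theorem preimage_W_M {d : f.X} (hd : f.proj d ∈ Wq f) : (d : G) ∈ s.M := by
  obtain ⟨p, τ, hτ, rfl⟩ := preimage_W hd
  refine mul_mem ?_ ?_
  · show ((co (zX f) (z'X f) p : f.X) : G) ∈ s.M
    rw [co_X_val]
    exact s.hJM (mul_mem (pow_mem (z_mem_J f) _) (pow_mem f.z'_mem _))
  · rcases mem_T0 f hτ with e | e <;> rw [e]
    · exact one_mem _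
    · exact f.t_memM

omit [Finite G] in
/-- No element of `M` inverts `J`. -/
theorem h_notM (F : Facts f) {h : G} (hh : ∀ j ∈ s.J, h * j * h⁻¹ = j⁻¹) : h ∉ s.M := by
  intro hM
  have := s.hJn
  obtain ⟨e⟩ := s.hMq
  have hz1 : f.z ≠ 1 := fun e => zq_ne f (by
    rw [show f.zq = f.proj (zX f) from rfl, show zX f = 1 from Subtype.ext e, map_one])
  have hcen : e (QuotientGroup.mk' (s.J.subgroupOf s.M) ⟨h, hM⟩) ∈ center (alternatingGroup (Fin 6)) := by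
    rw [mem_center_iff]
    intro x
    obtain ⟨y, rfl⟩ := e.surjective x
    obtain ⟨⟨m, hm⟩, rfl⟩ := QuotientGroup.mk'_surjective (s.J.subgroupOf s.M) y
    rw [← map_mul, ← map_mul, ← map_mul, ← map_mul]
    refine congrArg e (QuotientGroup.eq.2 ?_)
    rw [mem_subgroupOf]
    show (m * h)⁻¹ * (h * m) ∈ s.J
    rw [← F.centJ, mem_centralizer_iff]
    intro j hj
    have hmn := M_le_norm (s := s) hm
    have hhj : ∀ j ∈ s.J, h⁻¹ * j * h = j⁻¹ := fun j hj => by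
      have := hh j⁻¹ (inv_mem hj)
      rw [inv_inv] at this
      conv_lhs => rw [← this]
      group
    have h1 : h * m * j * m⁻¹ * h⁻¹ = (m * j * m⁻¹)⁻¹ := by
      rw [← hh (m * j * m⁻¹) ((Subgroup.mem_normalizer_iff.1 hmn j).1 hj)]; group
    have h2 : ((m * h)⁻¹ * (h * m)) * j * ((m * h)⁻¹ * (h * m))⁻¹ = j := by
      calc ((m * h)⁻¹ * (h * m)) * j * ((m * h)⁻¹ * (h * m))⁻¹
          = h⁻¹ * (m⁻¹ * (h * m * j * m⁻¹ * h⁻¹) * m) * h := by group
        _ = h⁻¹ * j⁻¹ * h := by rw [h1]; group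
        _ = j := by rw [hhj j⁻¹ (inv_mem hj), inv_inv]
    exact (mul_inv_eq_iff_eq_mul.1 h2).symm
  rw [alternatingGroup.center_eq_bot (by simp), mem_bot, ← map_one e] at hcen
  have hJ : h ∈ s.J := by
    have := (QuotientGroup.eq_one_iff _).1 (e.injective hcen)
    exact this
  have h1 := hh f.z (z_mem_J f)
  rw [(J_comm hJ (z_mem_J f)).eq, mul_inv_cancel_right] at h1
  refine hz1 ?_
  calc f.z = f.z ^ 3 * (f.z * f.z)⁻¹ := by group
    _ = 1 := by rw [z_cube]; nth_rw 1 [h1]; group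

/-- A conjugate of the given inverter of `J` centralises `t`. -/
theorem exists_neg (F : Facts f) (h : CaseB f) :
    ∃ h' : f.X, ∀ j ∈ s.J, (h' : G) * j * (h' : G)⁻¹ = j⁻¹ := by
  obtain ⟨g, hg2, hg⟩ := h.neg
  have hgg : g * g = 1 := by rw [← pow_two, ← hg2]; exact pow_orderOf_eq_one g
  have hgi : g⁻¹ = g := inv_eq_of_mul_eq_one_right hgg
  have ht := t_sq f
  have hti : f.t⁻¹ = f.t := inv_eq_of_mul_eq_one_right ht
  have htJ := M_le_norm (s := s) f.t_memM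
  set k := g * f.t * g⁻¹ * f.t⁻¹ with hk
  have hkc : ∀ j ∈ s.J, k * j * k⁻¹ = j := by
    intro j hj
    have hg' : ∀ j ∈ s.J, g⁻¹ * j * g = j⁻¹ := fun j hj => by
      have := hg j hj
      rwa [hgi] at this ⊢
    have hj' : f.t⁻¹ * j * f.t ∈ s.J := by
      have := (Subgroup.mem_normalizer_iff.1 (inv_mem htJ) j).1 hj
      rwa [inv_inv] at this
    calc k * j * k⁻¹ = g * (f.t * (g⁻¹ * (f.t⁻¹ * j * f.t) * g) * f.t⁻¹) * g⁻¹ := by rw [hk]; group
      _ = g * (f.t * (f.t⁻¹ * j * f.t)⁻¹ * f.t⁻¹) * g⁻¹ := by rw [hg' _ hj']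
      _ = g * j⁻¹ * g⁻¹ := by group
      _ = j := by rw [hg _ (inv_mem hj), inv_inv]
  have hkJ : k ∈ s.J := by
    have : k ∈ centralizer (s.J : Set G) :=
      mem_centralizer_iff.2 fun j hj => (mul_inv_eq_iff_eq_mul.1 (hkc j hj)).symm
    rwa [F.centJ] at this
  have hk3 : k ^ 3 = 1 := s.hJexp k hkJ
  have e1 : g * f.t * g⁻¹ = k * f.t := by rw [hk]; group
  have hkt : f.t * k * f.t = k⁻¹ := by
    refine eq_inv_of_mul_eq_one_right ?_
    calc k * (f.t * k * f.t) = (k * f.t) * (k * f.t) := by group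
      _ = g * (f.t * f.t) * g⁻¹ := by rw [← e1]; group
      _ = 1 := by rw [ht, mul_one, mul_inv_cancel]
  have hcen : k * g ∈ f.X := by
    refine mem_centralizer_singleton_iff.2 (mul_inv_eq_iff_eq_mul.1 ?_)
    calc k * g * f.t * (k * g)⁻¹ = k * (g * f.t * g⁻¹) * k⁻¹ := by group
      _ = k * (k * f.t) * (f.t * k * f.t) := by rw [e1, hkt]
      _ = k * k * (f.t * f.t) * k * f.t := by group
      _ = k ^ 3 * f.t := by rw [ht, mul_one]; simp [pow_succ, mul_assoc]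
      _ = f.t := by rw [hk3, one_mul]
  refine ⟨⟨k * g, hcen⟩, fun j hj => ?_⟩
  show k * g * j * (k * g)⁻¹ = j⁻¹
  rw [show k * g * j * (k * g)⁻¹ = k * (g * j * g⁻¹) * k⁻¹ by group, hg j hj, hkc _ (inv_mem hj)]

/-- The two alternating groups do not commute. -/
theorem not_commuting (F : Facts f) (h : CaseB f) {φ : A5 →* f.Xq} {p : A5}
    (P : Pair f.zq f.z'q f.uq (φ p)) (hp2 : p * p = 1)
    (hcomm : ∀ q r : A5, Commute (φ q) (f.uq * φ r * f.uq⁻¹)) : False := by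
  obtain ⟨q, r, hqr⟩ := a5_commutator p
  obtain ⟨q', hq'⟩ := exists_lift f (φ q)
  obtain ⟨r', hr'⟩ := exists_lift f (φ r)
  obtain ⟨e, he⟩ : ∃ e, e = q' * r' * q'⁻¹ * r'⁻¹ := ⟨_, rfl⟩
  have hpe : f.proj e = φ p := by
    rw [he, map_mul, map_mul, map_mul, map_inv, map_inv, hq', hr', hqr, map_mul, map_mul, map_mul,
      map_inv, map_inv]
  let uX : f.X := ⟨f.u, f.u_memX⟩
  obtain ⟨l, hl⟩ : ∃ l, l = uX * e * uX⁻¹ := ⟨_, rfl⟩
  have hpl : f.proj l = f.uq * φ p * f.uq⁻¹ := by rw [hl, map_mul, map_mul, map_inv, hpe]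
  -- the lifts commute
  have hle : Commute l e := by
    obtain ⟨a, ha, ea⟩ := (proj_eq_iff f).1 (show f.proj q' = f.proj (l * q' * l⁻¹) by
      rw [map_mul, map_mul, map_inv, hpl, hq', ← (hcomm q p).eq, mul_inv_cancel_right])
    obtain ⟨b, hb, eb⟩ := (proj_eq_iff f).1 (show f.proj r' = f.proj (l * r' * l⁻¹) by
      rw [map_mul, map_mul, map_inv, hpl, hr', ← (hcomm r p).eq, mul_inv_cancel_right])
    show l * e = e * l
    refine mul_inv_eq_iff_eq_mul.1 ?_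
    calc l * e * l⁻¹ = (l * q' * l⁻¹) * (l * r' * l⁻¹) * (l * q' * l⁻¹)⁻¹ * (l * r' * l⁻¹)⁻¹ := by
          rw [he]; group
      _ = e := by rw [ea, eb, central_commutator (T0_comm f ha) (T0_comm f hb), he]
  obtain ⟨w, hw⟩ : ∃ w, w = l * e⁻¹ := ⟨_, rfl⟩
  -- it is an involution
  have hee : e * e ∈ f.T0 := by
    rw [← proj_one_iff, map_mul, hpe, ← map_mul, hp2, map_one]
  have hww : w * w = 1 := by
    calc w * w = l * l * (e * e)⁻¹ := by
          rw [hw, show l * e⁻¹ * (l * e⁻¹) = l * (e⁻¹ * l) * e⁻¹ by group, ← (hle.inv_right).eq]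
          group
      _ = uX * (e * e) * uX⁻¹ * (e * e)⁻¹ := by rw [hl]; group
      _ = 1 := by rw [(T0_comm f hee uX).eq, mul_inv_cancel_right, mul_inv_cancel]
  -- actions on `W`
  obtain ⟨ea, -, -, eb'⟩ := P.val
  have he1 : (e : G) * f.z * (e : G)⁻¹ = f.z := by
    rw [conj_lift f (g := e) (w := zX f) (zX_cube f) (p := (1, 0)) (by rw [hpe, P.v_a]; exact ea)]
    simp [co]
  have he2 : (e : G) * f.z' * (e : G)⁻¹ = f.z'⁻¹ := by
    rw [conj_lift f (g := e) (w := z'X f) (z'X_cube f) (p := (0, 2)) (by rw [hpe, P.v_b]; exact eb')]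
    refine eq_inv_of_mul_eq_one_left ?_
    simp only [co, Fin.val_zero, pow_zero, one_mul, Fin.val_two]
    rw [← pow_succ, z'_cube]
  have huz : f.u⁻¹ * f.z * f.u = f.z' := by rw [← u_z' f]; group
  have huz' : f.u⁻¹ * f.z' * f.u = f.z := by rw [← f.u_z]; group
  have hl1 : (l : G) * f.z * (l : G)⁻¹ = f.z⁻¹ := by
    rw [hl]
    show f.u * (e : G) * f.u⁻¹ * f.z * (f.u * (e : G) * f.u⁻¹)⁻¹ = f.z⁻¹
    calc f.u * (e : G) * f.u⁻¹ * f.z * (f.u * (e : G) * f.u⁻¹)⁻¹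
        = f.u * ((e : G) * (f.u⁻¹ * f.z * f.u) * (e : G)⁻¹) * f.u⁻¹ := by group
      _ = f.z⁻¹ := by rw [huz, he2, Pair.inv_conj (u_z' f)]
  have hl2 : (l : G) * f.z' * (l : G)⁻¹ = f.z' := by
    rw [hl]
    show f.u * (e : G) * f.u⁻¹ * f.z' * (f.u * (e : G) * f.u⁻¹)⁻¹ = f.z'
    calc f.u * (e : G) * f.u⁻¹ * f.z' * (f.u * (e : G) * f.u⁻¹)⁻¹
        = f.u * ((e : G) * (f.u⁻¹ * f.z' * f.u) * (e : G)⁻¹) * f.u⁻¹ := by group
      _ = f.z' := by rw [huz', he1, f.u_z]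
  have he1' : (e : G)⁻¹ * f.z * (e : G) = f.z := by nth_rw 1 [← he1]; group
  have he2' : (e : G)⁻¹ * f.z' * (e : G) = f.z'⁻¹ := by
    have := Pair.inv_conj he2
    rw [inv_inv] at this
    nth_rw 1 [← this]; group
  have hw1 : (w : G) * f.z * (w : G)⁻¹ = f.z⁻¹ := by
    rw [hw]
    show (l : G) * (e : G)⁻¹ * f.z * ((l : G) * (e : G)⁻¹)⁻¹ = f.z⁻¹
    calc (l : G) * (e : G)⁻¹ * f.z * ((l : G) * (e : G)⁻¹)⁻¹
        = (l : G) * ((e : G)⁻¹ * f.z * (e : G)) * (l : G)⁻¹ := by group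
      _ = f.z⁻¹ := by rw [he1', hl1]
  have hw2 : (w : G) * f.z' * (w : G)⁻¹ = f.z'⁻¹ := by
    rw [hw]
    show (l : G) * (e : G)⁻¹ * f.z' * ((l : G) * (e : G)⁻¹)⁻¹ = f.z'⁻¹
    calc (l : G) * (e : G)⁻¹ * f.z' * ((l : G) * (e : G)⁻¹)⁻¹
        = (l : G) * ((e : G)⁻¹ * f.z' * (e : G)) * (l : G)⁻¹ := by group
      _ = f.z'⁻¹ := by rw [he2', Pair.inv_conj hl2]
  have hwM : (w : G) ∈ s.M := by
    rw [hw, hl]
    show f.u * (e : G) * f.u⁻¹ * (e : G)⁻¹ ∈ s.M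
    rw [show f.u * (e : G) * f.u⁻¹ * (e : G)⁻¹ = f.u * ((e : G) * f.u⁻¹ * (e : G)⁻¹) by group]
    exact mul_mem f.u_memM (M_conj (norm_J F he1 he2) (inv_mem f.u_memM))
  -- compare with `c`
  let cX : f.X := ⟨f.c, f.c_memX⟩
  obtain ⟨d, hd⟩ : ∃ d, d = w * cX⁻¹ := ⟨_, rfl⟩
  have hdM : (d : G) ∈ s.M := by rw [hd]; exact mul_mem hwM (inv_mem f.c_memM)
  have inverter : ∀ x : f.X, (x : G) * f.z * (x : G)⁻¹ = f.z⁻¹ → (x : G) * f.z' * (x : G)⁻¹ = f.z'⁻¹ →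
      f.proj (x * cX⁻¹) ∈ centralizer (Wq f : Set f.Xq) := by
    intro x h1 h2
    have aux : ∀ w : f.X, (x : G) * w * (x : G)⁻¹ = (w : G)⁻¹ → f.c * w * f.c⁻¹ = (w : G)⁻¹ →
        f.proj (x * cX⁻¹) * f.proj w * (f.proj (x * cX⁻¹))⁻¹ = f.proj w := by
      intro w h1 h2
      rw [← map_inv, ← map_mul, ← map_mul]
      refine congrArg f.proj (Subtype.ext ?_)
      show (x : G) * f.c⁻¹ * w * ((x : G) * f.c⁻¹)⁻¹ = w
      calc (x : G) * f.c⁻¹ * w * ((x : G) * f.c⁻¹)⁻¹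
          = (x : G) * (f.c⁻¹ * w * f.c) * (x : G)⁻¹ := by group
        _ = (x : G) * (w : G)⁻¹ * (x : G)⁻¹ := by
          rw [show f.c⁻¹ * w * f.c = (w : G)⁻¹ by
            have := Pair.inv_conj h2
            rw [inv_inv] at this
            conv_lhs => rw [← this]
            group]
        _ = w := by rw [Pair.inv_conj h1, inv_inv]
    exact Pair.cent_of_fix (aux (zX f) h1 f.c_z) (aux (z'X f) h2 f.c_z')
  have hdC : f.proj d ∈ centralizer (Wq f : Set f.Xq) := hd ▸ inverter w hw1 hw2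
  by_cases hdW : f.proj d ∈ Wq f
  · obtain ⟨k, τ, hτ, hk⟩ := preimage_W hdW
    obtain ⟨w0, hw0⟩ : ∃ w0, w0 = co (zX f) (z'X f) k := ⟨_, rfl⟩
    have hwe : w = w0 * τ * cX := by rw [hw0, ← hk, hd, inv_mul_cancel_right]
    have hc0 : cX * w0 * cX⁻¹ = w0⁻¹ := Subtype.ext (by rw [hw0]; exact c_inv_co k)
    have hcc : cX * cX = ⟨f.t, f.t_memX⟩ := Subtype.ext f.c_sq
    refine t_ne f (congrArg Subtype.val ((?_ : (⟨f.t, f.t_memX⟩ : f.X) = 1)))
    calc (⟨f.t, f.t_memX⟩ : f.X) = cX * cX := hcc.symm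
      _ = w0 * (cX * w0 * cX⁻¹) * (cX * cX) * (τ * τ) := by
          rw [hc0, mul_inv_cancel, one_mul, T0_sq f hτ, mul_one]
      _ = w0 * cX * (w0 * (cX * τ)) * τ := by group
      _ = w0 * cX * (w0 * (τ * cX)) * τ := by rw [(T0_comm f hτ cX).eq]
      _ = w0 * cX * (w0 * τ * cX) * τ := by group
      _ = τ * (w0 * cX * (w0 * τ * cX)) := (T0_comm f hτ _).eq
      _ = τ * w0 * cX * (w0 * τ * cX) := by group
      _ = w * w := by rw [← (T0_comm f hτ w0).eq, ← hwe]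
      _ = 1 := hww
  · obtain ⟨h', hh'⟩ := exists_neg F h
    obtain ⟨g, hg⟩ : ∃ g, g = h' * cX⁻¹ := ⟨_, rfl⟩
    have hgC : f.proj g ∈ centralizer (Wq f : Set f.Xq) :=
      hg ▸ inverter h' (hh' _ (z_mem_J f)) (hh' _ f.z'_mem)
    have hWC : Wq f ≤ centralizer (Wq f : Set f.Xq) := fun x hx =>
      mem_centralizer_iff.2 fun y hy =>
        congrArg Subtype.val (P.isComm.is_comm.comm (⟨y, hy⟩ : Wq f) ⟨x, hx⟩)
    have hidx : ((Wq f).subgroupOf (centralizer (Wq f : Set f.Xq))).index = 2 := by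
      have := ((Wq f).subgroupOf (centralizer (Wq f : Set f.Xq))).card_mul_index
      rw [Nat.card_congr (subgroupOfEquivOfLe hWC).toEquiv, card_Wq f,
        show Nat.card (centralizer (Wq f : Set f.Xq)) = 18 from h.centW] at this
      omega
    have hgM : (g : G) ∈ s.M := by
      by_cases hgW : f.proj g ∈ Wq f
      · exact preimage_W_M hgW
      · have := (mul_mem_iff_of_index_two hidx (a := ⟨_, hgC⟩) (b := (⟨_, hdC⟩ :
          centralizer (Wq f : Set f.Xq))⁻¹)).2 (by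
          rw [inv_mem_iff, mem_subgroupOf, mem_subgroupOf]
          exact iff_of_false hgW hdW)
        rw [mem_subgroupOf] at this
        have hm : ((g * d⁻¹ : f.X) : G) ∈ s.M := preimage_W_M (by rw [map_mul, map_inv]; exact this)
        have := mul_mem hm hdM
        simpa [mul_assoc] using this
    refine h_notM F hh' ?_
    have := mul_mem hgM f.c_memM
    rw [hg] at this
    simpa [mul_assoc, cX] using this

end Cfsg.Agent.McLLoc.Bar
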