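import Cfsg.Agent.McLLoc.QuotBase

/-!
An inverter of `z'` in the centraliser of `z`, and the alternating group of degree five there.
-/

set_option autoImplicit false
set_option synthInstance.maxSize 2000

namespace Cfsg.Agent.McLLoc.Bar

open Equiv Equiv.Perm Subgroup
open Cfsg.Agent.A8ThreeLocal (A5)

theorem a5_commutator : ∀ p : A5, ∃ q r : A5, p = q * r * q⁻¹ * r⁻¹ := by decide +kernel

theorem a5_center : ∀ p : A5, (∀ q : A5, p * q = q * p) → p = 1 := by decide +kernel

theorem a5_invert : ∀ p : A5, p ^ 3 = 1 → p ≠ 1 → ∃ q : A5, q * q = 1 ∧ q * p * q⁻¹ = p⁻¹ := by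
  decide +kernel

theorem p5_center : ∀ p : Perm (Fin 5), (∀ q : A5, p * q = q * p) → p = 1 := by decide +kernel

theorem p5_invert : ∀ p : Perm (Fin 5), p ^ 3 = 1 → p ≠ 1 →
    ∃ q : A5, q * q = 1 ∧ (q : Perm (Fin 5)) * p * (q : Perm (Fin 5))⁻¹ = p⁻¹ := by decide +kernel

/-- Homomorphisms to abelian groups are trivial. -/
theorem a5_abelian {C : Type*} [CommGroup C] (φ : A5 →* C) (p : A5) : φ p = 1 := by
  obtain ⟨q, r, rfl⟩ := a5_commutator p
  simp [map_mul, map_inv, mul_comm (φ q) (φ r)]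

variable {G : Type*} [Group G] [Finite G] {s : Setting G} {f : Frame s}

/-- The alternating group inside the centraliser of `zq` and an inverter in it. -/
theorem exists_inverter (F : Facts f) {H : Type*} [Group H]
    (e : centralizer ({f.zq} : Set f.Xq) ≃* Multiplicative (ZMod 3) × H) (ι : A5 →* H)
    (hι : Function.Injective ι) (hcen : ∀ h : H, (∀ q : A5, h * ι q = ι q * h) → h = 1)
    (hinv : ∀ h : H, h ^ 3 = 1 → h ≠ 1 → ∃ q : A5, q * q = 1 ∧ ι q * h * (ι q)⁻¹ = h⁻¹)
    (hlt : Nat.card (centralizer (Wq f : Set f.Xq)) < Nat.card (centralizer ({f.zq} : Set f.Xq))) :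
    ∃ φ : A5 →* f.Xq, Function.Injective φ ∧ (∀ p, φ p * f.zq = f.zq * φ p) ∧
      (∀ (p : A5) (hp : φ p ∈ centralizer ({f.zq} : Set f.Xq)), e ⟨φ p, hp⟩ = (1, ι p)) ∧
      ∃ p : A5, p * p = 1 ∧ Pair f.zq f.z'q f.uq (φ p) := by
  let φ : A5 →* f.Xq := (centralizer ({f.zq} : Set f.Xq)).subtype.comp
    (e.symm.toMonoidHom.comp ((MonoidHom.inr (Multiplicative (ZMod 3)) H).comp ι))
  have hinj : Function.Injective φ :=
    Subtype.val_injective.comp (e.symm.injective.comp
      (show Function.Injective (MonoidHom.inr (Multiplicative (ZMod 3)) H ∘ ι) from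
        fun p q h => hι (congrArg Prod.snd h)))
  have hval : ∀ (p : A5) (hp : φ p ∈ centralizer ({f.zq} : Set f.Xq)), e ⟨φ p, hp⟩ = (1, ι p) :=
    fun p hp => e.apply_symm_apply (1, ι p)
  have hcomm : ∀ p, φ p * f.zq = f.zq * φ p := fun p =>
    mem_centralizer_singleton_iff.1 (e.symm (1, ι p)).2
  let A : centralizer ({f.zq} : Set f.Xq) := ⟨f.zq, mem_centralizer_singleton_iff.2 rfl⟩
  let B : centralizer ({f.zq} : Set f.Xq) := ⟨f.z'q, mem_centralizer_singleton_iff.2 (zzq_comm f).eq.symm⟩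
  have hA : ∀ x : centralizer ({f.zq} : Set f.Xq), x * A = A * x := fun x =>
    Subtype.ext (mem_centralizer_singleton_iff.1 x.2)
  have hA2 : (e A).2 = 1 := hcen _ fun q => by
    have := congrArg Prod.snd (congrArg e (hA (e.symm (1, ι q))))
    rw [map_mul, map_mul, MulEquiv.apply_symm_apply] at this
    exact this.symm
  have hA1 : (e A).1 ≠ 1 := fun h => zq_ne f (congrArg Subtype.val
    (show A = 1 from e.injective (by rw [map_one]; exact Prod.ext h hA2)))
  have hB3 : (e B).2 ^ 3 = 1 := by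
    have h0 : B ^ 3 = 1 := Subtype.ext (z'q_cube f)
    have := congrArg Prod.snd (congrArg e h0)
    rw [map_pow, map_one] at this
    exact this
  have hB1 : (e B).2 ≠ 1 := by
    intro h
    have hle : centralizer ({f.zq} : Set f.Xq) ≤ centralizer (Wq f : Set f.Xq) := by
      intro x hx
      have hxB : (⟨x, hx⟩ : centralizer ({f.zq} : Set f.Xq)) * B = B * ⟨x, hx⟩ := e.injective (by
        rw [map_mul, map_mul]
        refine Prod.ext (mul_comm _ _) ?_
        show _ * (e B).2 = (e B).2 * _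
        rw [h, mul_one, one_mul])
      refine Pair.cent_of_fix ?_ ?_
      · rw [mem_centralizer_singleton_iff.1 hx, mul_inv_cancel_right]
      · rw [show x * f.z'q = f.z'q * x from congrArg Subtype.val hxB, mul_inv_cancel_right]
    exact absurd (Subgroup.card_le_of_le hle) (not_le.2 hlt)
  obtain ⟨p, hp2, hp⟩ := hinv _ hB3 hB1
  refine ⟨φ, hinj, hcomm, hval, p, hp2, ?_⟩
  set V : centralizer ({f.zq} : Set f.Xq) := e.symm (1, ι p) with hV
  have hva : φ p * f.zq * (φ p)⁻¹ = f.zq := by rw [hcomm, mul_inv_cancel_right]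
  -- the conjugate of `z'q` differs from the inverse by a power of `zq`
  have hconj : e (V * B * V⁻¹) = ((e B).1, (e B).2⁻¹) := by
    rw [map_mul, map_mul, map_inv, hV, MulEquiv.apply_symm_apply]
    refine Prod.ext ?_ ?_
    · simp
    · exact hp
  have hgen : ∀ a b : Multiplicative (ZMod 3), a ≠ 1 → b = 1 ∨ b = a ∨ b = a⁻¹ := by decide
  have hAe : e A = ((e A).1, 1) := Prod.ext rfl hA2
  have hmem : φ p * f.z'q * (φ p)⁻¹ ∈ Wq f := by
    have key : ∀ x : Multiplicative (ZMod 3), (e.symm (x, 1) : f.Xq) ∈ Wq f := by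
      intro x
      rcases hgen _ x hA1 with rfl | rfl | rfl
      · rw [show ((1 : Multiplicative (ZMod 3)), (1 : H)) = 1 from rfl, map_one]
        exact one_mem _
      · rw [← hAe, MulEquiv.symm_apply_apply]
        exact subset_closure (Set.mem_insert _ _)
      · rw [show ((e A).1⁻¹, (1 : H)) = (e A)⁻¹ from Prod.ext rfl (show (1 : H) = (e A).2⁻¹ by rw [hA2, inv_one]), map_inv,
          MulEquiv.symm_apply_apply]
        exact inv_mem (subset_closure (Set.mem_insert _ _))
    have h1 : V * B * V⁻¹ = e.symm ((e B).1 * (e B).1, 1) * B⁻¹ := e.injective (by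
      rw [hconj, map_mul, map_inv, MulEquiv.apply_symm_apply]
      exact Prod.ext (by simp) (by simp))
    rw [show φ p * f.z'q * (φ p)⁻¹ = ((V * B * V⁻¹ : centralizer ({f.zq} : Set f.Xq)) : f.Xq) from rfl,
      h1, Subgroup.coe_mul, Subgroup.coe_inv]
    exact mul_mem (key _) (inv_mem (subset_closure (Set.mem_insert_of_mem _ (Set.mem_singleton _))))
  refine pair f F hva ?_
  have hl := lines f F (φ p * f.uq) (by
    rw [show φ p * f.uq * f.zq * (φ p * f.uq)⁻¹ = φ p * (f.uq * f.zq * f.uq⁻¹) * (φ p)⁻¹ by group,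
      uq_z]
    exact hmem)
  rw [show φ p * f.uq * f.zq * (φ p * f.uq)⁻¹ = φ p * (f.uq * f.zq * f.uq⁻¹) * (φ p)⁻¹ by group,
    uq_z] at hl
  have hne : e (V * B * V⁻¹) ≠ e A ∧ e (V * B * V⁻¹) ≠ (e A)⁻¹ ∧ e (V * B * V⁻¹) ≠ e B := by
    refine ⟨fun h => ?_, fun h => ?_, fun h => ?_⟩ <;> rw [hconj] at h <;>
      have h2 := congrArg Prod.snd h <;> simp only [Prod.snd_inv, hA2, inv_one, inv_eq_one] at h2
    · exact hB1 h2
    · exact hB1 h2
    · refine hB1 ?_
      calc (e B).2 = (e B).2 ^ 3 * ((e B).2 * (e B).2)⁻¹ := by group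
        _ = 1 := by rw [hB3]; nth_rw 1 [← h2]; group
  rcases hl with h | h | h | h
  · exact absurd (congrArg e (show V * B * V⁻¹ = A from Subtype.ext h)) hne.1
  · exact absurd ((congrArg e (show V * B * V⁻¹ = A⁻¹ from Subtype.ext h)).trans (map_inv _ _)) hne.2.1
  · exact absurd (congrArg e (show V * B * V⁻¹ = B from Subtype.ext h)) hne.2.2
  · exact h

end Cfsg.Agent.McLLoc.Bar
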