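import Cfsg.Agent.McLLoc.CentZSL
import Cfsg.Agent.McLLoc.Six
import Cfsg.Agent.S2119
import Cfsg.Agent.Layer.FStar

/-!
# A group with `F* ≅ SL(2,5)` has it with index at most 2
-/

set_option autoImplicit false
set_option linter.unusedSectionVars false

namespace Cfsg.Agent.McLLoc

open Subgroup

open scoped MatrixGroups

/-- A homomorphism of `SL(2,5)` into a group of order 2 is trivial. -/
theorem sl25_hom_trivial {A : Type*} [Group A] [Finite A] (hA : Nat.card A ≤ 2)
    (f : SL(2, ZMod 5) →* A) : ∀ g, f g = 1 := by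
  obtain ⟨r, hrs, hr⟩ := exists_red
  have hs : IsSimpleGroup (alternatingGroup (Fin 5)) := alternatingGroup.isSimpleGroup (by simp)
  have hmap : (f.ker.map r).Normal := Subgroup.Normal.map inferInstance r hrs
  have hmul := f.ker.card_mul_index
  rw [Six.card_SL25, index_ker] at hmul
  have hle : Nat.card f.range ≤ 2 := (card_le_card_group _).trans hA
  have hge : 60 ≤ Nat.card f.ker := by nlinarith
  have h60 : Nat.card (alternatingGroup (Fin 5)) = 60 := by
    rw [nat_card_alternatingGroup, Nat.card_fin]; rfl
  have htop : f.ker.map r = ⊤ := by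
    rcases hmap.eq_bot_or_eq_top with h | h
    · exfalso
      have hsub : (f.ker : Set SL(2, ZMod 5)) ⊆ {1, -1} := fun g hg => by
        have : r g ∈ f.ker.map r := ⟨g, hg, rfl⟩
        rw [h, mem_bot] at this
        rcases (hr g).1 this with rfl | rfl <;> simp
      have h2 := Set.ncard_le_ncard hsub (by simp)
      rw [← Nat.card_coe_set_eq, show Nat.card ↥(f.ker : Set SL(2, ZMod 5)) = Nat.card f.ker from rfl]
        at h2
      have h3 := Set.ncard_insert_le (1 : SL(2, ZMod 5)) ({-1} : Set SL(2, ZMod 5))
      rw [Set.ncard_singleton] at h3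
      omega
    · exact h
  -- the kernel has an involution, hence contains `-1`
  have hneg : (-1 : SL(2, ZMod 5)) ∈ f.ker := by
    have heven : 2 ∣ Nat.card f.ker := by
      have h := card_dvd_of_surjective (r.comp f.ker.subtype)
        (MonoidHom.range_eq_top.1 (by rw [MonoidHom.range_comp, range_subtype, htop]))
      rw [h60] at h
      exact (by norm_num : 2 ∣ 60).trans h
    obtain ⟨i, hi⟩ := exists_prime_orderOf_dvd_card' (G := f.ker) 2 (hp := ⟨Nat.prime_two⟩) heven
    have hi2 : (i : SL(2, ZMod 5)) * i = 1 := by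
      rw [← pow_two, ← orderOf_dvd_iff_pow_eq_one, Subgroup.orderOf_coe, hi]
    rcases sl25_sq _ hi2 with h | h
    · rw [← Subgroup.orderOf_coe, h, orderOf_one] at hi
      norm_num at hi
    · exact h ▸ i.2
  intro g
  obtain ⟨k, hk, hkg⟩ : r g ∈ f.ker.map r := htop ▸ mem_top _
  have h1 : r (k⁻¹ * g) = 1 := by rw [map_mul, map_inv, hkg, inv_mul_cancel]
  have : g ∈ f.ker := by
    rcases (hr _).1 h1 with h | h
    · rw [inv_mul_eq_one] at h
      exact h ▸ hk
    · rw [inv_mul_eq_iff_eq_mul] at h
      exact h ▸ mul_mem hk hneg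
  exact this

/-- If `F*(H) ≅ SL(2,5)` then every element of odd order lies in `F*(H)`. -/
theorem mem_fstar_of_odd {H : Type*} [Group H] [Finite H]
    (e : generalizedFittingSubgroup H ≃* SL(2, ZMod 5)) {g : H} (hg : Odd (orderOf g)) :
    g ∈ generalizedFittingSubgroup H := by
  classical
  set F := generalizedFittingSubgroup H with hF
  obtain ⟨r, hrs, hr⟩ := exists_red
  let q : F →* alternatingGroup (Fin 5) := r.comp e.toMonoidHom
  have hq : Function.Surjective q := hrs.comp e.surjective
  have hN : F.Normal := inferInstance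
  have hker : ∀ (h : H) (x : F), q x = 1 → q ((MulAut.conjNormal h : MulAut F) x) = 1 := by
    intro h x hx
    have hx' : x * x = 1 := by
      apply e.injective
      rcases (hr _).1 hx with he | he <;>
        rw [map_mul, map_one, show e x = _ from he] <;> simp
    have h2 : (MulAut.conjNormal h : MulAut F) x * (MulAut.conjNormal h : MulAut F) x = 1 := by
      rw [← map_mul, hx', map_one]
    have h3 : e ((MulAut.conjNormal h : MulAut F) x) * e ((MulAut.conjNormal h : MulAut F) x) = 1 := by
      rw [← map_mul, h2, map_one]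
    exact (hr _).2 (sl25_sq _ h3)
  have hmap : ∀ h : H, q.ker.map (MulAut.conjNormal h : MulAut F).toMonoidHom = q.ker := fun h => by
    refine eq_of_le_of_card_ge ?_ ?_
    · rintro _ ⟨x, hx, rfl⟩
      exact hker h x hx
    · exact (Nat.card_congr (equivMapOfInjective q.ker (MulAut.conjNormal h : MulAut F).toMonoidHom
        (MulAut.conjNormal h : MulAut F).injective).toEquiv).le
  let eq := QuotientGroup.quotientKerEquivOfSurjective q hq
  let θ : H → MulAut (alternatingGroup (Fin 5)) := fun h =>
    eq.symm.trans ((QuotientGroup.congr q.ker q.ker (MulAut.conjNormal h) (hmap h)).trans eq)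
  have hθ : ∀ (h : H) (x : F), θ h (q x) = q ((MulAut.conjNormal h : MulAut F) x) := by
    intro h x
    show eq ((QuotientGroup.congr q.ker q.ker (MulAut.conjNormal h) (hmap h)) (eq.symm (q x))) = _
    rw [show eq.symm (q x) = QuotientGroup.mk x from eq.symm_apply_eq.2 rfl]
    rfl
  let Θ : H →* MulAut (alternatingGroup (Fin 5)) := MonoidHom.mk' θ fun a b => by
    apply MulEquiv.ext
    intro y
    obtain ⟨x, rfl⟩ := hq y
    show θ (a * b) (q x) = θ a (θ b (q x))
    rw [hθ, hθ, hθ]
    rw [map_mul]
    rfl
  have hcentral : ∀ {k : SL(2, ZMod 5)}, k = 1 ∨ k = -1 → ∀ y, k * y = y * k := by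
    rintro k (rfl | rfl) y <;> simp
  have hΘ : ∀ h : H, Θ h = 1 → h ∈ centralizer (F : Set H) := by
    intro h hh
    let χ : F →* q.ker := MonoidHom.mk'
      (fun x => ⟨(MulAut.conjNormal h : MulAut F) x * x⁻¹, by
        rw [MonoidHom.mem_ker, map_mul, map_inv, ← hθ, show θ h = (1 : MulAut _) from hh]
        simp⟩) (by
        intro x y
        apply Subtype.ext
        show (MulAut.conjNormal h : MulAut F) (x * y) * (x * y)⁻¹ =
          (MulAut.conjNormal h : MulAut F) x * x⁻¹ * ((MulAut.conjNormal h : MulAut F) y * y⁻¹)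
        have hc : ((MulAut.conjNormal h : MulAut F) y * y⁻¹) * x⁻¹ =
            x⁻¹ * ((MulAut.conjNormal h : MulAut F) y * y⁻¹) := by
          apply e.injective
          rw [map_mul e, map_mul e x⁻¹]
          exact hcentral ((hr _).1 (show q _ = 1 by
            rw [map_mul, map_inv, ← hθ, show θ h = (1 : MulAut _) from hh]; simp)) _
        rw [map_mul, mul_inv_rev]
        calc (MulAut.conjNormal h : MulAut F) x * (MulAut.conjNormal h : MulAut F) y * (y⁻¹ * x⁻¹)
            = (MulAut.conjNormal h : MulAut F) x *
              (((MulAut.conjNormal h : MulAut F) y * y⁻¹) * x⁻¹) := by group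
          _ = _ := by rw [hc]; group)
    have hcard : Nat.card q.ker ≤ 2 := by
      have hsub : (q.ker : Set F) ⊆ {1, e.symm (-1)} := fun x hx => by
        rcases (hr _).1 hx with he | he
        · exact Or.inl (e.injective (he.trans (map_one e).symm))
        · refine Or.inr ?_
          rw [Set.mem_singleton_iff, ← e.symm_apply_apply x]
          exact congrArg e.symm he
      have h2 := Set.ncard_le_ncard hsub (by simp)
      rw [← Nat.card_coe_set_eq] at h2
      have h3 := Set.ncard_insert_le (1 : F) ({e.symm (-1)} : Set F)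
      rw [Set.ncard_singleton] at h3
      exact h2.trans h3
    have htriv := sl25_hom_trivial hcard (χ.comp e.symm.toMonoidHom)
    rw [mem_centralizer_iff]
    intro x hx
    have h1 := htriv (e ⟨x, hx⟩)
    simp only [MonoidHom.comp_apply, MulEquiv.coe_toMonoidHom, MulEquiv.symm_apply_apply] at h1
    have h2 := congrArg (fun z : q.ker => ((z : F) : H)) h1
    simp only [χ, MonoidHom.mk'_apply, Subgroup.coe_mul, Subgroup.coe_inv,
      MulAut.conjNormal_apply, OneMemClass.coe_one] at h2
    have := mul_inv_eq_one.1 h2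
    rw [mul_inv_eq_iff_eq_mul] at this
    exact this.symm
  have hkerle : Θ.ker ≤ F := fun h hh => Layer.centralizer_generalizedFitting_le (hΘ h hh)
  -- `MulAut` of `Alt 5` is `Sym 5`, so the image of `F` has index at most 2
  have hbij := S2119.result 5 (by norm_num) (by norm_num)
  have hA : Nat.card (MulAut (alternatingGroup (Fin 5))) = 120 := by
    rw [← Nat.card_eq_of_bijective _ hbij, Nat.card_perm, Nat.card_fin]; rfl
  have hFimg : 60 ≤ Nat.card (F.map Θ) := by
    have hinner : ∀ x : F, ∀ y, Θ (x : H) y = q x * y * (q x)⁻¹ := by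
      intro x y
      obtain ⟨w, rfl⟩ := hq y
      show θ (x : H) (q w) = _
      rw [hθ, ← map_inv, ← map_mul, ← map_mul]
      exact congrArg q (Subtype.ext (by simp [MulAut.conjNormal_apply]))
    have hinj : Function.Injective (MulAut.conj : alternatingGroup (Fin 5) → MulAut _) := by
      intro a b hab
      have hs : IsSimpleGroup (alternatingGroup (Fin 5)) := alternatingGroup.isSimpleGroup (by simp)
      have hkey : (MulAut.conj : alternatingGroup (Fin 5) →* MulAut _).ker = ⊥ := by
        rcases (inferInstance : (MulAut.conj : alternatingGroup (Fin 5) →* MulAut _).ker.Normal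
          ).eq_bot_or_eq_top with h | h
        · exact h
        · exfalso
          obtain ⟨v, w, r', -, -, -, hne, -, hrv, -⟩ := Six.alt5_four_three
          have hm : r' ∈ (MulAut.conj : alternatingGroup (Fin 5) →* MulAut _).ker := h ▸ mem_top _
          have := DFunLike.congr_fun (MonoidHom.mem_ker.1 hm) v
          rw [MulAut.conj_apply, hrv] at this
          exact hne (by simpa using this.symm)
      exact (MonoidHom.ker_eq_bot_iff _).1 hkey hab
    have hsub : Set.range (MulAut.conj : alternatingGroup (Fin 5) → MulAut _) ⊆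
        (F.map Θ : Set (MulAut _)) := by
      rintro _ ⟨a, rfl⟩
      obtain ⟨x, rfl⟩ := hq a
      exact ⟨x, x.2, MulEquiv.ext fun y => by rw [hinner, MulAut.conj_apply]⟩
    have h := Set.ncard_le_ncard hsub
    rw [← Nat.card_coe_set_eq, Nat.card_range_of_injective hinj, ← Nat.card_coe_set_eq,
      nat_card_alternatingGroup, Nat.card_fin] at h
    exact h
  have hindex : (F.map Θ).index ≤ 2 := by
    have hmul := card_mul_index (F.map Θ)
    rw [hA] at hmul
    nlinarith
  obtain ⟨k, hk⟩ := hg
  have hsq : ∀ a : MulAut (alternatingGroup (Fin 5)), a * a ∈ F.map Θ := by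
    intro a
    rcases (by have := index_ne_zero_of_finite (H := F.map Θ); omega :
      (F.map Θ).index = 1 ∨ (F.map Θ).index = 2) with h | h
    · rw [index_eq_one.1 h]; exact mem_top _
    · exact (mul_mem_iff_of_index_two h).2 Iff.rfl
  have hmem : Θ g ∈ F.map Θ := by
    have e1 : g = g ^ (k + 1) * g ^ (k + 1) := by
      rw [← pow_add, show k + 1 + (k + 1) = 2 * k + 1 + 1 by omega, pow_succ, ← hk,
        pow_orderOf_eq_one, one_mul]
    rw [e1, map_mul]
    exact hsq _
  obtain ⟨x, hx, hxg⟩ := hmem
  have : x⁻¹ * g ∈ F := hkerle (by rw [MonoidHom.mem_ker, map_mul, map_inv, hxg, inv_mul_cancel])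
  simpa using mul_mem hx this

end Cfsg.Agent.McLLoc
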