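import Cfsg.Agent.McLLoc.RedTwo

/-!
# `F*` of a group isomorphic to `McL` or to its automorphism group
-/

set_option autoImplicit false
set_option linter.unusedSectionVars false

namespace Cfsg.Agent.McLLoc

open Subgroup
open scoped commutatorElement

theorem mcl_center : center ↥Cfsg.Spor.McL = ⊥ ∧ Group.IsPerfect ↥Cfsg.Spor.McL := by
  obtain ⟨hcard, hs⟩ := McL.card_and_simple
  have hnc : ¬ ∀ a b : ↥Cfsg.Spor.McL, a * b = b * a := by
    intro h
    let _ : CommGroup ↥Cfsg.Spor.McL := { (inferInstance : Group _) with mul_comm := h }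
    have hp := IsSimpleGroup.prime_card (α := ↥Cfsg.Spor.McL)
    rw [hcard] at hp
    norm_num at hp
  constructor
  · rcases (inferInstance : (center ↥Cfsg.Spor.McL).Normal).eq_bot_or_eq_top with h | h
    · exact h
    · exact absurd (fun a b => (Subgroup.mem_center_iff.1 (h ▸ mem_top a) b).symm) hnc
  · rcases (inferInstance : (commutator ↥Cfsg.Spor.McL).Normal).eq_bot_or_eq_top with h | h
    · refine absurd (fun a b => ?_) hnc
      apply commutatorElement_eq_one_iff_mul_comm.1
      have : ⁅a, b⁆ ∈ commutator ↥Cfsg.Spor.McL := commutator_mem_commutator (mem_top _) (mem_top _)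
      rwa [h, mem_bot] at this
    · exact ⟨h⟩

theorem mcl_qs : Cfsg.IsQuasisimple ↥Cfsg.Spor.McL := by
  obtain ⟨hz, hp⟩ := mcl_center
  refine ⟨hp, ?_⟩
  have := McL.card_and_simple.2
  have e : (↥Cfsg.Spor.McL ⧸ center ↥Cfsg.Spor.McL) ≃* ↥Cfsg.Spor.McL :=
    (QuotientGroup.quotientMulEquivOfEq hz).trans QuotientGroup.quotientBot
  exact MulEquiv.isSimpleGroup e

/-- The generalized Fitting subgroup of `McL` or of `Aut McL` is `McL`. -/
theorem fstar_iso {G : Type*} [Group G] [Finite G]
    (h : Nonempty (G ≃* Cfsg.Spor.McL) ∨ Nonempty (G ≃* MulAut Cfsg.Spor.McL)) :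
    Cfsg.Spor.IsoMcL ↥(Cfsg.generalizedFittingSubgroup G) := by
  obtain ⟨hcard, hs⟩ := McL.card_and_simple
  have hz := mcl_center.1
  have hfin : Finite ↥Cfsg.Spor.McL := Nat.finite_of_card_ne_zero (by rw [hcard]; norm_num)
  rcases h with h | h <;> obtain ⟨e⟩ := h
  · have hq : Cfsg.IsQuasisimple ↥(⊤ : Subgroup G) :=
      Layer.isQuasisimple_congr (e.symm.trans Subgroup.topEquiv.symm) mcl_qs
    have hF := ThreeTrans.genFitting_eq_of_qs (K := (⊤ : Subgroup G)) hq le_top
    exact ⟨((MulEquiv.subgroupCongr hF).trans Subgroup.topEquiv).trans e⟩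
  · let ι : ↥Cfsg.Spor.McL →* MulAut ↥Cfsg.Spor.McL := MulAut.conj
    have hinj : Function.Injective ι := by
      rw [injective_iff_map_eq_one]
      intro a ha
      rw [← mem_bot, ← hz, mem_center_iff]
      intro b
      have := DFunLike.congr_fun ha b
      simp only [ι, MulAut.conj_apply, MulAut.one_apply] at this
      exact (mul_inv_eq_iff_eq_mul.1 this).symm
    let K : Subgroup G := ι.range.map e.symm.toMonoidHom
    have hKn : K.Normal := by
      have hn : ι.range.Normal := by
        constructor
        rintro _ ⟨a, rfl⟩ α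
        refine ⟨α a, MulEquiv.ext fun b => ?_⟩
        simp [ι, MulAut.conj_apply]
      exact hn.map _ e.symm.surjective
    let eK : ↥Cfsg.Spor.McL ≃* K :=
      (MonoidHom.ofInjective hinj).trans (ι.range.equivMapOfInjective _ e.symm.injective)
    have hq : Cfsg.IsQuasisimple ↥K := Layer.isQuasisimple_congr eK mcl_qs
    have hc : centralizer (K : Set G) ≤ K := by
      intro g hg
      have hg1 : e g = 1 := by
        apply MulEquiv.ext
        intro a
        have h1 := mem_centralizer_iff.1 hg (e.symm (ι a)) ⟨ι a, ⟨a, rfl⟩, rfl⟩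
        have h2 : ι a * e g = e g * ι a := by
          have := congrArg e h1
          simpa using this
        have h3 : ι (e g a) = ι a := by
          apply MulEquiv.ext
          intro b
          have h4 := DFunLike.congr_fun h2 ((e g).symm b)
          simp only [MulAut.mul_apply, MulEquiv.apply_symm_apply, ι, MulAut.conj_apply,
            map_mul, map_inv] at h4
          simp [ι, MulAut.conj_apply, h4]
        exact hinj h3
      have : g = 1 := e.injective (hg1.trans (map_one e).symm)
      rw [this]
      exact one_mem _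
    have hF := ThreeTrans.genFitting_eq_of_qs (K := K) hq hc
    exact ⟨(MulEquiv.subgroupCongr hF).trans eK.symm⟩

end Cfsg.Agent.McLLoc
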