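import Cfsg.Agent.McLLoc.LocalM
import Cfsg.Agent.McLLoc.RedOne
import Cfsg.Agent.ThreeTrans.TripleM24
import Cfsg.Agent.LargeExtra.SingularSubgroup
import Cfsg.Agent.McL.Model
import Cfsg.Agent.S2073
import Cfsg.Prelude.Def_Spor_Conway

/-!
# The setting from the generalized Fitting subgroups of the two local subgroups,
and `F*` of a group isomorphic to `McL` or `Aut McL`
-/

set_option autoImplicit false
set_option linter.unusedSectionVars false

namespace Cfsg.Agent.McLLoc

open Subgroup
open scoped Pointwise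

variable {G : Type*} [Group G] [Finite G]

theorem exists_setting_of_fstar (Z : Subgroup G) (hZ : Nat.card ↥Z = 3)
    (S : Sylow 3 ↥(centralizer (Z : Set G))) (J : Subgroup G)
    (hJS : J ≤ ((S : Subgroup ↥(centralizer (Z : Set G))).map (centralizer (Z : Set G)).subtype))
    (hJ : Cfsg.IsElementaryAbelian 3 J) (hJcard : Nat.card ↥J = 3 ^ 4)
    (hQ : Cfsg.IsExtraspecial 3 ↥(Cfsg.generalizedFittingSubgroup ↥(centralizer (Z : Set G))))
    (hQcard : Nat.card ↥(Cfsg.generalizedFittingSubgroup ↥(centralizer (Z : Set G))) = 3 ^ 5)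
    [hQn : (Cfsg.generalizedFittingSubgroup ↥(centralizer (Z : Set G))).Normal]
    (hexp : ∀ x ∈ Cfsg.generalizedFittingSubgroup ↥(centralizer (Z : Set G)), x ^ 3 = 1)
    (hFMQ : Nonempty (↥(Cfsg.generalizedFittingSubgroup (↥(centralizer (Z : Set G)) ⧸
      Cfsg.generalizedFittingSubgroup ↥(centralizer (Z : Set G)))) ≃*
        Matrix.SpecialLinearGroup (Fin 2) (ZMod 5)))
    [hJn : (J.subgroupOf (normalizer (J : Set G))).Normal]
    (hA6 : Nonempty (↥(closure {x : ↥(normalizer (J : Set G)) ⧸ J.subgroupOf (normalizer (J : Set G)) |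
      ∃ k : ℕ, orderOf x = 3 ^ k}) ≃* ↥(alternatingGroup (Fin 6)))) :
    ∃ s : Setting G, s.Z = Z ∧ s.J = J := by
  classical
  let C : Subgroup G := centralizer (Z : Set G)
  have hC : C = centralizer (Z : Set G) := rfl
  let F : Subgroup C := Cfsg.generalizedFittingSubgroup ↥C
  have hFn : F.Normal := hQn
  let Q : Subgroup G := F.map C.subtype
  have hFp : IsPGroup 3 F := IsPGroup.of_card hQcard
  have hQp : IsPGroup 3 Q := hFp.map _
  have hCN : C ≤ normalizer (Z : Set G) := centralizer_le_normalizer _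
  have hZc : ∀ z ∈ Z, ∀ g ∈ C, z * g = g * z := fun z hz g hg => mem_centralizer_iff.1 hg z hz
  have hZC : Z ≤ C := fun z hz => mem_centralizer_iff.2 fun y hy => by
    have : IsCyclic Z := isCyclic_of_prime_card (p := 3) hZ
    exact congrArg Subtype.val (mul_comm' (⟨y, hy⟩ : Z) ⟨z, hz⟩)
  have hCF : centralizer (F : Set C) ≤ F := Layer.centralizer_generalizedFitting_le
  -- `Z` is the centre of `F`
  have hZF : Z.subgroupOf C ≤ F := fun z hz =>
    hCF (mem_centralizer_iff.2 fun g _ => Subtype.ext (hZc _ hz _ g.2).symm)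
  have hcenter : ∀ a : C, a ∈ F → (∀ b ∈ F, a * b = b * a) → (a : G) ∈ Z := by
    have hle : (Z.subgroupOf C).subgroupOf F ≤ center F := fun z hz =>
      Subgroup.mem_center_iff.2 fun g => Subtype.ext (Subtype.ext (hZc _ hz _ (g : C).2).symm)
    have he := eq_of_le_of_card_ge hle (by
      rw [hQ.2, Nat.card_congr (subgroupOfEquivOfLe hZF).toEquiv,
        Nat.card_congr (subgroupOfEquivOfLe hZC).toEquiv, hZ])
    intro a ha hb
    have : (⟨a, ha⟩ : F) ∈ (Z.subgroupOf C).subgroupOf F := he.symm ▸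
      Subgroup.mem_center_iff.2 fun g => Subtype.ext (hb g g.2).symm
    exact this
  have hFS : F ≤ S := hFp.le_sylow_of_normal S
  let S' : Subgroup G := (S : Subgroup C).map C.subtype
  have hS'p : IsPGroup 3 S' := S.2.map _
  -- `Z` is the centre of the Sylow subgroup
  have hZS : ∀ a ∈ S', (∀ b ∈ S', a * b = b * a) → a ∈ Z := by
    rintro _ ⟨a, ha, rfl⟩ hb
    have haF : a ∈ F := hCF (mem_centralizer_iff.2 fun b hb' =>
      Subtype.ext (hb b ⟨b, hFS hb', rfl⟩).symm)
    exact hcenter a haF fun b hb' => Subtype.ext (hb b ⟨b, hFS hb', rfl⟩)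
  have hZle : Z ≤ S' := fun z hz => ⟨⟨z, hZC hz⟩, hFS (hZF hz), rfl⟩
  -- `S'` is a Sylow subgroup of `G`
  obtain ⟨P, hP⟩ := hS'p.exists_le_sylow
  have hPS : (P : Subgroup G) = S' := by
    by_contra hne
    have : Group.IsNilpotent (P : Subgroup G) := P.2.isNilpotent
    have hlt : S'.subgroupOf (P : Subgroup G) < ⊤ := lt_top_iff_ne_top.2 fun h => hne
      (le_antisymm (subgroupOf_eq_top.1 h) hP)
    obtain ⟨⟨g, hgP⟩, hgN, hgS⟩ := SetLike.exists_of_lt
      (Group.normalizerCondition_of_isNilpotent (S'.subgroupOf (P : Subgroup G)) hlt)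
    have hgnorm : ∀ x ∈ S', g * x * g⁻¹ ∈ S' := fun x hx =>
      (mem_normalizer_iff.1 hgN ⟨x, hP hx⟩).1 hx
    have hgnorm' : ∀ x ∈ S', g⁻¹ * x * g ∈ S' := fun x hx => by
      have := (mem_normalizer_iff.1 (inv_mem hgN) ⟨x, hP hx⟩).1 hx
      simpa [mem_subgroupOf] using this
    have hgZ : ∀ z ∈ Z, g * z * g⁻¹ ∈ Z := by
      intro z hz
      refine hZS _ (hgnorm z (hZle hz)) fun b hb => ?_
      obtain ⟨⟨b', hb'C⟩, -, hb'⟩ := hgnorm' b hb
      have hc := hZc z hz (g⁻¹ * b * g) (hb' ▸ hb'C)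
      calc g * z * g⁻¹ * b = g * (z * (g⁻¹ * b * g)) * g⁻¹ := by group
        _ = g * ((g⁻¹ * b * g) * z) * g⁻¹ := by rw [hc]
        _ = b * (g * z * g⁻¹) := by group
    -- an element of 3-power order normalising a group of order 3 centralises it
    have hgC : g ∈ C := by
      obtain ⟨k, hk⟩ := IsPGroup.iff_orderOf.1 P.2 ⟨g, hgP⟩
      rw [Subgroup.orderOf_mk] at hk
      rw [hC, mem_centralizer_iff]
      intro z hz
      by_cases hz1 : z = 1
      · simp [hz1]
      have hz3 : orderOf z = 3 := by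
        have hd : orderOf z ∣ 3 := hZ ▸ (Subgroup.orderOf_mk z hz ▸ orderOf_dvd_natCard _)
        rcases (Nat.dvd_prime Nat.prime_three).1 hd with h | h
        · exact absurd (orderOf_eq_one_iff.1 h) hz1
        · exact h
      have hgen : zpowers z = Z := eq_of_le_of_card_ge (zpowers_le.2 hz)
        (by rw [hZ, Nat.card_zpowers, hz3])
      have hm := hgZ z hz
      rw [← hgen, mem_zpowers_iff] at hm
      obtain ⟨i, hi⟩ := hm
      have hpow : ∀ n : ℕ, g ^ n * z * (g ^ n)⁻¹ = z ^ (i ^ n) := by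
        intro n
        induction n with
        | zero => simp
        | succ n ih =>
          rw [pow_succ', show g * g ^ n * z * (g * g ^ n)⁻¹ = g * (g ^ n * z * (g ^ n)⁻¹) * g⁻¹ by
            group, ih, ← conj_zpow, ← hi, ← zpow_mul, pow_succ' i]
      have h1 := hpow (orderOf g)
      rw [pow_orderOf_eq_one, one_mul, inv_one, mul_one] at h1
      have h0 : z ^ (i ^ orderOf g - 1) = 1 := by rw [zpow_sub, zpow_one, ← h1, mul_inv_cancel]
      rw [← orderOf_dvd_iff_zpow_eq_one, hz3] at h0
      have hodd : Odd (orderOf g) := hk ▸ (by decide : Odd 3).pow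
      have hi1 : i % 3 = 1 := by
        obtain ⟨m, hm⟩ := hodd
        have hmod : (i ^ orderOf g - 1) % 3 = 0 := Int.emod_eq_zero_of_dvd h0
        rw [hm] at hmod
        rcases (by omega : i % 3 = 0 ∨ i % 3 = 1 ∨ i % 3 = 2) with h | h | h
        · exfalso
          rw [pow_succ] at hmod
          simp [Int.sub_emod, Int.mul_emod, h] at hmod
        · exact h
        · exfalso
          have h4 : (i ^ 2) % 3 = 1 := by rw [pow_two, Int.mul_emod, h]; rfl
          have h5 : ((i ^ 2) ^ m) % 3 = 1 := by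
            clear hmod hm
            induction m with
            | zero => simp
            | succ m ih => rw [pow_succ, Int.mul_emod, ih, h4]; rfl
          rw [pow_succ, pow_mul, Int.sub_emod, Int.mul_emod, h5, h] at hmod
          simp at hmod
      have : g * z * g⁻¹ = z := by
        rw [← hi, ← zpow_mod_orderOf, hz3, show i % ((3 : ℕ) : ℤ) = 1 from hi1, zpow_one]
      exact (mul_inv_eq_iff_eq_mul.1 this).symm
    have hle : S' ≤ (P : Subgroup G) ⊓ C := le_inf hP (map_subtype_le _)
    have hmax := S.is_maximal' (Q := (((P : Subgroup G) ⊓ C).subgroupOf C))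
      ((P.2.to_le inf_le_left).comap_of_injective C.subtype C.subtype_injective)
      (fun x hx => hle ⟨x, hx, rfl⟩)
    exact hgS ⟨⟨g, hgC⟩, hmax ▸ ⟨hgP, hgC⟩, rfl⟩
  have hcC : core3 C = Q := by
    refine le_antisymm (map_mono ?_) (le_core3 (map_subtype_le _) ?_ hQp)
    · exact (Core.pCore_le_fittingSubgroup 3).trans Layer.fitting_le_generalizedFitting
    · intro g hg
      rw [mem_normalizer_iff]
      intro x
      constructor
      · rintro ⟨y, hy, rfl⟩
        exact ⟨⟨g, hg⟩ * y * ⟨g, hg⟩⁻¹, hFn.conj_mem y hy _, rfl⟩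
      · rintro ⟨y, hy, he⟩
        refine ⟨⟨g, hg⟩⁻¹ * y * (⟨g, hg⟩⁻¹)⁻¹, hFn.conj_mem y hy _, ?_⟩
        have he' : (y : G) = g * x * g⁻¹ := he
        simp [he', mul_assoc]
  have hCn : (C.subgroupOf (normalizer (Z : Set G))).Normal := by
    rw [show C.subgroupOf (normalizer (Z : Set G)) = (normalizerMonoidHom Z).ker from
      (normalizerMonoidHom_ker Z).symm]
    infer_instance
  have hthree : ∀ a ∈ normalizer (Z : Set G), (∃ k, orderOf a = 3 ^ k) → a ∈ C := by
    intro a ha hk
    obtain ⟨k, hk⟩ := hk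
    rw [hC, mem_centralizer_iff]
    intro z hz
    -- `a` centralises the group of order 3 since its order is odd
    have hmem : (⟨a, ha⟩ : normalizer (Z : Set G)) ∈ (normalizerMonoidHom Z).ker := by
      have : IsCyclic Z := isCyclic_of_prime_card (p := 3) hZ
      have hcard : Nat.card (MulAut Z) = 2 := by
        rw [IsCyclic.card_mulAut, hZ]; rfl
      have hd := orderOf_dvd_natCard ((normalizerMonoidHom Z) ⟨a, ha⟩)
      rw [hcard] at hd
      have hd2 := orderOf_map_dvd (normalizerMonoidHom Z) ⟨a, ha⟩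
      rw [Subgroup.orderOf_mk, hk] at hd2
      rw [MonoidHom.mem_ker, ← orderOf_eq_one_iff]
      exact Nat.eq_one_of_dvd_coprimes ((by norm_num : Nat.Coprime 2 3).pow_right k) hd hd2
    rw [normalizerMonoidHom_ker] at hmem
    exact (mem_centralizer_iff.1 (mem_subgroupOf.1 hmem)) z hz
  have hcN : core3 (normalizer (Z : Set G)) = Q := by
    refine le_antisymm ((le_core3 ?_ (hCN.trans (le_normalizer_core3 _)) (core3_isPGroup _)).trans hcC.le) ?_
    · intro a ha
      obtain ⟨k, hk⟩ := IsPGroup.iff_orderOf.1 (core3_isPGroup _) ⟨a, ha⟩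
      exact hthree a (core3_le _ ha) ⟨k, by rw [← hk, Subgroup.orderOf_mk]⟩
    · refine le_core3 ((map_subtype_le _).trans hCN) ?_ hQp
      rw [← hcC]
      intro g hg
      have key : ∀ g ∈ normalizer (Z : Set G), (core3 C).map (MulAut.conj g).toMonoidHom ≤ core3 C := by
        intro g hg
        refine le_core3 ?_ ?_ ((core3_isPGroup _).map _)
        · rintro _ ⟨y, hy, rfl⟩
          have hy' : y ∈ C := core3_le _ hy
          exact mem_subgroupOf.1 (hCn.conj_mem ⟨y, hCN hy'⟩ hy' ⟨g, hg⟩)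
        · intro a ha
          have ha' : g⁻¹ * a * g ∈ C := by
            simpa using mem_subgroupOf.1 (hCn.conj_mem ⟨a, hCN ha⟩ ha ⟨g, hg⟩⁻¹)
          have h1 := mem_normalizer_iff.1 (le_normalizer_core3 _ ha')
          rw [mem_normalizer_iff]
          intro x
          simp only [Subgroup.mem_map_equiv, MulAut.conj_symm_apply]
          rw [h1 (g⁻¹ * x * g)]
          simp [mul_assoc]
      rw [mem_normalizer_iff]
      intro x
      refine ⟨fun hx => key g hg ⟨x, hx, rfl⟩, fun hx => ?_⟩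
      have := key g⁻¹ (inv_mem hg) ⟨_, hx, rfl⟩
      simpa [mul_assoc] using this
  -- the subgroup generated by the 3-elements of `N(Z)`
  obtain ⟨eF⟩ := hFMQ
  let π : C →* C ⧸ F := QuotientGroup.mk' F
  let E : Subgroup (C ⧸ F) := Cfsg.generalizedFittingSubgroup (C ⧸ F)
  let L : Subgroup G := closure {a : G | a ∈ normalizer (Z : Set G) ∧ ∃ k : ℕ, orderOf a = 3 ^ k}
  have hLC : L ≤ C := (closure_le _).2 fun a ha => hthree a ha.1 ha.2
  have hQL : Q ≤ L := fun a ha => subset_closure ⟨hCN (map_subtype_le _ ha),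
    by obtain ⟨k, hk⟩ := IsPGroup.iff_orderOf.1 hQp ⟨a, ha⟩
       exact ⟨k, by rw [← hk, Subgroup.orderOf_mk]⟩⟩
  let π' : L →* C ⧸ F := π.comp (inclusion hLC)
  have hrange : π'.range = E := by
    refine le_antisymm ?_ ?_
    · have : closure {a : G | a ∈ normalizer (Z : Set G) ∧ ∃ k : ℕ, orderOf a = 3 ^ k} ≤
          (E.comap π).map C.subtype := by
        rw [closure_le]
        rintro a ⟨ha, k, hk⟩
        refine ⟨⟨a, hthree a ha ⟨k, hk⟩⟩, ?_, rfl⟩
        refine mem_fstar_of_odd eF ?_
        have hd : orderOf (π ⟨a, hthree a ha ⟨k, hk⟩⟩) ∣ 3 ^ k := by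
          refine (orderOf_map_dvd π _).trans ?_
          rw [Subgroup.orderOf_mk, hk]
        obtain ⟨j, -, hj⟩ := (Nat.dvd_prime_pow Nat.prime_three).1 hd
        rw [hj]
        exact (by decide : Odd 3).pow
      rintro _ ⟨⟨a, ha⟩, rfl⟩
      obtain ⟨b, hb, hba⟩ := this ha
      have : b = inclusion hLC ⟨a, ha⟩ := Subtype.ext hba
      rw [this] at hb
      exact hb
    · -- `SL(2,5)` is generated by its elements of order 3
      let N : Subgroup E := π'.range.subgroupOf E
      have hmemN : ∀ a : E, a ^ 3 = 1 → a ∈ N := by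
        intro a ha
        obtain ⟨b, hb⟩ := QuotientGroup.mk'_surjective F (a : C ⧸ F)
        have hb3 : b ^ 3 ∈ F := by
          rw [← QuotientGroup.ker_mk' F, MonoidHom.mem_ker, map_pow, hb, ← SubmonoidClass.coe_pow,
            ha, OneMemClass.coe_one]
        obtain ⟨j, hj⟩ := IsPGroup.iff_orderOf.1 hFp ⟨b ^ 3, hb3⟩
        rw [Subgroup.orderOf_mk] at hj
        have hbo : orderOf b ∣ 3 ^ (j + 1) := orderOf_dvd_of_pow_eq_one (by
          rw [pow_succ' 3 j, pow_mul, ← hj, pow_orderOf_eq_one])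
        obtain ⟨i, -, hi⟩ := (Nat.dvd_prime_pow Nat.prime_three).1 hbo
        exact ⟨⟨b, subset_closure ⟨hCN b.2, i, by rw [Subgroup.orderOf_coe, hi]⟩⟩, hb⟩
      intro a ha
      obtain ⟨r, hrs, hr⟩ := exists_red
      let M : Subgroup (Matrix.SpecialLinearGroup (Fin 2) (ZMod 5)) :=
        closure {g | g ^ 3 = 1}
      have hM : M = ⊤ := by
        have hs : IsSimpleGroup (alternatingGroup (Fin 5)) := alternatingGroup.isSimpleGroup (by simp)
        have hn : M.Normal := by
          rw [← normalizer_eq_top_iff, eq_top_iff]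
          intro g _
          have key : ∀ g, M.map (MulAut.conj g).toMonoidHom ≤ M := by
            intro g
            rw [MonoidHom.map_closure, closure_le]
            rintro _ ⟨b, hb, rfl⟩
            refine subset_closure ?_
            show ((MulAut.conj g).toMonoidHom b) ^ 3 = 1
            rw [← map_pow, show b ^ 3 = 1 from hb, map_one]
          rw [mem_normalizer_iff]
          intro b
          refine ⟨fun hb => key g ⟨b, hb, rfl⟩, fun hb => ?_⟩
          have := key g⁻¹ ⟨_, hb, rfl⟩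
          simpa [mul_assoc] using this
        have hcardM : M.index ≤ 2 := by
          have hmn : (M.map r).Normal := hn.map r hrs
          obtain ⟨x, hx⟩ := exists_prime_orderOf_dvd_card'
            (G := Matrix.SpecialLinearGroup (Fin 2) (ZMod 5)) 3 (by rw [Six.card_SL25]; norm_num)
          have hxM : x ∈ M := subset_closure (by
            show x ^ 3 = 1
            rw [← hx]; exact pow_orderOf_eq_one x)
          rcases hmn.eq_bot_or_eq_top with h | h
          · exfalso
            have : r x ∈ M.map r := ⟨x, hxM, rfl⟩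
            rw [h, mem_bot] at this
            rcases (hr x).1 this with h1 | h1
            · rw [h1, orderOf_one] at hx; norm_num at hx
            · have hd := orderOf_dvd_of_pow_eq_one (show x ^ 2 = 1 by rw [h1, neg_one_sq])
              rw [hx] at hd; norm_num at hd
          · have h60 := card_dvd_of_surjective (r.comp M.subtype)
              (MonoidHom.range_eq_top.1 (by rw [MonoidHom.range_comp, range_subtype, h]))
            rw [nat_card_alternatingGroup, Nat.card_fin, show (Nat.factorial 5) / 2 = 60 from rfl] at h60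
            have hpos := Nat.le_of_dvd Nat.card_pos h60
            have hmul := card_mul_index M
            rw [Six.card_SL25] at hmul
            nlinarith
        rw [← QuotientGroup.ker_mk' M]
        rw [eq_top_iff]
        intro g _
        exact sl25_hom_trivial (A := Matrix.SpecialLinearGroup (Fin 2) (ZMod 5) ⧸ M)
          hcardM (QuotientGroup.mk' M) g
      have hMN : M.map eF.symm.toMonoidHom ≤ N := by
        rw [MonoidHom.map_closure, closure_le]
        rintro _ ⟨g, hg, rfl⟩
        exact hmemN _ (by rw [← map_pow, show g ^ 3 = 1 from hg, map_one])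
      exact hMN ⟨eF ⟨a, ha⟩, hM ▸ mem_top _, eF.symm_apply_apply _⟩
  have hker : π'.ker = Q.subgroupOf L := by
    ext a
    rw [MonoidHom.mem_ker, mem_subgroupOf]
    show π (inclusion hLC a) = 1 ↔ _
    rw [← MonoidHom.mem_ker, QuotientGroup.ker_mk']
    exact ⟨fun h => ⟨_, h, rfl⟩, fun ⟨b, hb, hba⟩ => (Subtype.ext hba : b = inclusion hLC a) ▸ hb⟩
  have hLn : (Q.subgroupOf L).Normal := hker ▸ inferInstance
  -- the subgroup generated by the 3-elements of `N(J)`
  obtain ⟨eA⟩ := hA6
  let NJ : Subgroup G := normalizer (J : Set G)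
  let M₀ : Subgroup G := closure {a : G | a ∈ NJ ∧ ∃ k : ℕ, orderOf a = 3 ^ k}
  have hMN : M₀ ≤ NJ := (closure_le _).2 fun a ha => ha.1
  have hJp : IsPGroup 3 J := IsPGroup.of_card hJcard
  have hJM : J ≤ M₀ := fun a ha => subset_closure ⟨le_normalizer ha,
    by obtain ⟨k, hk⟩ := IsPGroup.iff_orderOf.1 hJp ⟨a, ha⟩
       exact ⟨k, by rw [← hk, Subgroup.orderOf_mk]⟩⟩
  let ρ : M₀ →* NJ ⧸ J.subgroupOf NJ := (QuotientGroup.mk' _).comp (inclusion hMN)
  have hρ : ρ.range = closure {x : NJ ⧸ J.subgroupOf NJ | ∃ k : ℕ, orderOf x = 3 ^ k} := by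
    refine le_antisymm ?_ ?_
    · have : M₀ ≤ ((closure {x : NJ ⧸ J.subgroupOf NJ | ∃ k : ℕ, orderOf x = 3 ^ k}).comap
          (QuotientGroup.mk' _)).map NJ.subtype := by
        rw [closure_le]
        rintro a ⟨ha, k, hk⟩
        refine ⟨⟨a, ha⟩, subset_closure ?_, rfl⟩
        have hd : orderOf ((QuotientGroup.mk' (J.subgroupOf NJ)) ⟨a, ha⟩) ∣ 3 ^ k := by
          refine (orderOf_map_dvd _ _).trans ?_
          rw [Subgroup.orderOf_mk, hk]
        obtain ⟨j, -, hj⟩ := (Nat.dvd_prime_pow Nat.prime_three).1 hd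
        exact ⟨j, hj⟩
      rintro _ ⟨⟨a, ha⟩, rfl⟩
      obtain ⟨b, hb, hba⟩ := this ha
      have : b = inclusion hMN ⟨a, ha⟩ := Subtype.ext hba
      rw [this] at hb
      exact hb
    · rw [closure_le]
      rintro x ⟨k, hk⟩
      obtain ⟨b, rfl⟩ := QuotientGroup.mk'_surjective (J.subgroupOf NJ) x
      have hb : (b : G) ^ 3 ^ k ∈ J := by
        have h1 : (QuotientGroup.mk' (J.subgroupOf NJ)) (b ^ 3 ^ k) = 1 := by
          rw [map_pow, ← hk, pow_orderOf_eq_one]
        rw [← MonoidHom.mem_ker, QuotientGroup.ker_mk', mem_subgroupOf] at h1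
        simpa using h1
      have hbo : orderOf (b : G) ∣ 3 ^ (k + 1) := orderOf_dvd_of_pow_eq_one (by
        rw [pow_succ, pow_mul]; exact hJ.2 _ hb)
      obtain ⟨i, -, hi⟩ := (Nat.dvd_prime_pow Nat.prime_three).1 hbo
      exact ⟨⟨b, subset_closure ⟨b.2, i, hi⟩⟩, rfl⟩
  have hρker : ρ.ker = J.subgroupOf M₀ := by
    ext a
    rw [MonoidHom.mem_ker, mem_subgroupOf]
    show (QuotientGroup.mk' (J.subgroupOf NJ)) (inclusion hMN a) = 1 ↔ _
    rw [← MonoidHom.mem_ker, QuotientGroup.ker_mk', mem_subgroupOf]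
    rfl
  have hMn : (J.subgroupOf M₀).Normal := hρker ▸ inferInstance
  have hSP : (P : Subgroup G) = S' := hPS
  refine ⟨{
    S := P
    Z := Z
    J := J
    M := M₀
    L := L
    Q := Q
    hZ := ?_
    hJS := fun a ha => by rw [hSP]; exact hJS ha
    hJcomm := hJ.1
    hJexp := hJ.2
    hJcard := hJcard
    hM := rfl
    hJM := hJM
    hJn := hMn
    hMq := ⟨((QuotientGroup.quotientMulEquivOfEq hρker.symm).trans
      (QuotientGroup.quotientKerEquivRange ρ)).trans ((MulEquiv.subgroupCongr hρ).trans eA)⟩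
    hL := rfl
    hQ := hcN.symm
    hQex := ?_
    hQcard := by rw [card_map_of_injective C.subtype_injective, hQcard]
    hQexp := ?_
    hQL := hQL
    hQn := hLn
    hLq := ⟨((QuotientGroup.quotientMulEquivOfEq hker.symm).trans
      (QuotientGroup.quotientKerEquivRange π')).trans ((MulEquiv.subgroupCongr hrange).trans eF)⟩
    hiiiZ := ?_ }, rfl, rfl⟩
  · rw [hSP]
    refine le_antisymm ?_ ?_
    · intro z hz
      refine ⟨hZle hz, ?_⟩
      show z ∈ centralizer (S' : Set G)
      rw [mem_centralizer_iff]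
      intro b hb
      obtain ⟨b, -, rfl⟩ := hb
      exact (hZc z hz b b.2).symm
    · rintro a ⟨ha, hac⟩
      exact hZS a ha fun b hb => ((mem_centralizer_iff.1 hac) b hb).symm
  · let e : F ≃* Q := F.equivMapOfInjective C.subtype C.subtype_injective
    exact LargeExtra.extraspecial_congr e hQ
  · rintro _ ⟨a, ha, rfl⟩
    exact congrArg Subtype.val (hexp a ha)
  · show centralizer ((core3 C : Subgroup G) : Set G) ≤ core3 C
    rw [hcC]
    intro a ha
    have haC : a ∈ C := mem_centralizer_iff.2 fun z hz =>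
      mem_centralizer_iff.1 ha z ⟨⟨z, hZC hz⟩, hZF hz, rfl⟩
    refine ⟨⟨a, haC⟩, hCF (mem_centralizer_iff.2 fun b hb => Subtype.ext
      (mem_centralizer_iff.1 ha b ⟨b, hb, rfl⟩)), rfl⟩

end Cfsg.Agent.McLLoc
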