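import Cfsg.Agent.McLLoc.LocalBasic
import Cfsg.Agent.Fusion.Extraspecial

/-!
# The condition at the centre of `S` follows from the condition at all points of `J`
-/

set_option autoImplicit false
set_option linter.unusedSectionVars false

namespace Cfsg.Agent.McLLoc.Weak

open Subgroup
open scoped commutatorElement

/-- An abelian subgroup of an extraspecial group of order `3 ^ 5` has order less than `3 ^ 4`. -/
theorem abelian_card {E : Type*} [Group E] [Finite E] (h : Cfsg.IsExtraspecial 3 E)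
    (hcard : Nat.card E = 3 ^ 5) {A : Subgroup E} (hc : ∀ a ∈ A, ∀ b ∈ A, Commute a b)
    (hA : 3 ^ 4 ≤ Nat.card A) : False := by
  have : Fact (Nat.Prime 3) := ⟨Nat.prime_three⟩
  by_cases hall : ∀ q, q ∈ A
  · have h3 := card_dvd_of_le (show (⊤ : Subgroup E) ≤ center E from fun x _ =>
      Subgroup.mem_center_iff.2 fun y => (hc _ (hall y) _ (hall x)).eq)
    rw [card_top, hcard, h.2] at h3
    norm_num at h3
  push Not at hall
  obtain ⟨q, hq⟩ := hall
  let f : A →* center E := MonoidHom.mk' (fun a => ⟨⁅q, (a : E)⁆, Fusion.es_commutator_mem h _ _⟩)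
    fun a b => Subtype.ext
      (Fusion.commutatorElement_mul_right_of_le_center (Fusion.es_commutator_le h) q a b)
  have hsub : f.ker.map A.subtype ≤ center E := by
    rintro _ ⟨⟨a, ha⟩, haK, rfl⟩
    have hqa : Commute q a :=
      commutatorElement_eq_one_iff_mul_comm.1 (congrArg Subtype.val haK)
    refine Subgroup.mem_center_iff.2 fun p => ?_
    have hAB : A ≤ centralizer ({a} : Set E) := fun b hb =>
      mem_centralizer_singleton_iff.2 (hc b hb a ha).eq
    have htop : centralizer ({a} : Set E) = ⊤ := by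
      refine eq_top_of_card_eq _ ?_
      have hd := card_subgroup_dvd_card (centralizer ({a} : Set E))
      rw [hcard] at hd ⊢
      obtain ⟨m, hm5, hm⟩ := (Nat.dvd_prime_pow Nat.prime_three).1 hd
      have hlt : 3 ^ 4 < 3 ^ m := by
        rw [← hm]
        refine lt_of_le_of_lt hA (lt_of_le_of_ne (card_le_of_le hAB) fun he => hq ?_)
        rw [eq_of_le_of_card_ge hAB he.ge]
        exact mem_centralizer_singleton_iff.2 hqa.eq
      have := (Nat.pow_lt_pow_iff_right (by norm_num : 1 < 3)).1 hlt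
      rw [hm, show m = 5 by omega]
    exact mem_centralizer_singleton_iff.1 (htop ▸ mem_top p : p ∈ centralizer ({a} : Set E))
  have h1 := card_eq_card_quotient_mul_card_subgroup f.ker
  have h2 : Nat.card (A ⧸ f.ker) ≤ 3 := by
    rw [Nat.card_congr (QuotientGroup.quotientKerEquivRange f).toEquiv]
    exact (card_le_card_group _).trans h.2.le
  have h3 : Nat.card f.ker ≤ 3 := by
    have := card_le_of_le hsub
    rwa [card_map_of_injective A.subtype_injective, h.2] at this
  nlinarith

variable {G : Type*} [Group G] [Finite G]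

/-- The centre of `S` has order 3 and lies in `J`. -/
theorem center_le {S : Sylow 3 G} {Z J L Q : Subgroup G}
    (hZ : Z = (S : Subgroup G) ⊓ centralizer ((S : Subgroup G) : Set G))
    (hJS : J ≤ S) (hJcomm : IsMulCommutative J) (hJcard : Nat.card J = 3 ^ 4)
    (hL : L = closure {g : G | g ∈ normalizer (Z : Set G) ∧ ∃ k : ℕ, orderOf g = 3 ^ k})
    (hQ : Q = core3 (normalizer (Z : Set G)))
    (hQex : Cfsg.IsExtraspecial 3 Q) (hQcard : Nat.card Q = 3 ^ 5) (hQL : Q ≤ L)
    [(Q.subgroupOf L).Normal]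
    (eL : L ⧸ Q.subgroupOf L ≃* Matrix.SpecialLinearGroup (Fin 2) (ZMod 5)) :
    Nat.card Z = 3 ∧ Z ≤ J := by
  have hcomm : ∀ z ∈ Z, ∀ g ∈ (S : Subgroup G), Commute z g := fun z hz g hg =>
    ((mem_centralizer_iff.1 (hZ.le hz).2) g hg).symm
  have hSN : (S : Subgroup G) ≤ normalizer (Z : Set G) := fun g hg =>
    centralizer_le_normalizer _ (mem_centralizer_iff.2 fun z hz => (hcomm z hz g hg).eq)
  have hSL : (S : Subgroup G) ≤ L := fun g hg => by
    obtain ⟨k, hk⟩ := IsPGroup.iff_orderOf.1 S.2 ⟨g, hg⟩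
    exact hL ▸ subset_closure ⟨hSN hg, k, by rw [← hk, Subgroup.orderOf_mk]⟩
  have hQS : Q ≤ S := by
    have h := IsPGroup.to_sup_of_normal_right' S.2 (IsPGroup.of_card hQcard)
      (hSN.trans (hQ ▸ le_normalizer_core3 _))
    exact le_sup_right.trans (S.is_maximal' h le_sup_left).le
  have hZQ : Z ≤ Q := by
    rw [hQ]
    exact le_core3 le_normalizer le_rfl (S.2.to_le (hZ.le.trans inf_le_left))
  have hcardZ : Nat.card Z = 3 := by
    have hne : Z ≠ ⊥ := by
      intro h
      have hS : Nontrivial (S : Subgroup G) := (Finite.one_lt_card_iff_nontrivial).1 (by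
        refine lt_of_lt_of_le ?_ (card_le_of_le hQS)
        rw [hQcard]; norm_num)
      obtain ⟨⟨z, hz⟩, hz1⟩ := (nontrivial_iff_exists_ne (1 : center (S : Subgroup G))).1
        S.2.center_nontrivial
      have : (z : G) ∈ Z := by
        rw [hZ]
        exact ⟨z.2, mem_centralizer_iff.2 fun g hg => congrArg Subtype.val
          (Subgroup.mem_center_iff.1 hz ⟨g, hg⟩)⟩
      rw [h, mem_bot] at this
      exact hz1 (Subtype.ext (Subtype.ext this))
    have hd := card_dvd_of_le (show Z ≤ (center Q).map Q.subtype from fun z hz =>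
      ⟨⟨z, hZQ hz⟩, Subgroup.mem_center_iff.2 fun g =>
        Subtype.ext (hcomm z hz g (hQS g.2)).eq.symm, rfl⟩)
    rw [card_map_of_injective Q.subtype_injective, hQex.2] at hd
    exact ((Nat.dvd_prime Nat.prime_three).1 hd).resolve_left fun h => hne (card_eq_one.1 h)
  refine ⟨hcardZ, fun z hz => by_contra fun hzJ => ?_⟩
  have hLc : Nat.card L = 3 ^ 5 * 120 := by
    rw [card_eq_card_quotient_mul_card_subgroup (Q.subgroupOf L), Nat.card_congr eL.toEquiv,
      Six.card_SL25, Nat.card_congr (subgroupOfEquivOfLe hQL).toEquiv, hQcard, mul_comm]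
  obtain ⟨k, hk⟩ := IsPGroup.iff_card.1 S.2
  have hk6 : k ≤ 6 := by
    by_contra hh
    have h1 : 3 ^ k ∣ 3 ^ 5 * 120 := hk ▸ hLc ▸ card_dvd_of_le hSL
    have h7 : 3 ^ 7 ∣ 3 ^ 5 * 120 := (pow_dvd_pow 3 (by omega : 7 ≤ k)).trans h1
    norm_num at h7
  -- `J ⊓ Q` has order at least `3 ^ 3`
  have hJQ : 3 ^ 3 ≤ Nat.card (Q ⊓ J : Subgroup G) := by
    have hQi := card_mul_index (Q.subgroupOf (S : Subgroup G))
    rw [Nat.card_congr (subgroupOfEquivOfLe hQS).toEquiv, hQcard, hk] at hQi
    have h36 : 3 ^ k ≤ 3 ^ 6 := Nat.pow_le_pow_right (by norm_num) hk6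
    have hrel : Q.relIndex (S : Subgroup G) ≤ 3 := by
      rw [relIndex]
      nlinarith
    have hne : Q.relIndex (S : Subgroup G) ≠ 0 := by
      rw [relIndex]
      intro h0
      rw [h0, mul_zero] at hQi
      exact (pow_ne_zero k (by norm_num)) hQi.symm
    have hle := relIndex_le_of_le_right hJS hne
    have hmul := card_mul_index ((Q ⊓ J).subgroupOf J)
    rw [Nat.card_congr (subgroupOfEquivOfLe inf_le_right).toEquiv, hJcard,
      show ((Q ⊓ J).subgroupOf J).index = Q.relIndex J from inf_relIndex_right Q J] at hmul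
    nlinarith
  -- together with `z` it gives an abelian subgroup of order at least `3 ^ 4`
  let A : Subgroup G := (Q ⊓ J) ⊔ zpowers z
  have hA : A ≤ Q := sup_le inf_le_left (zpowers_le.2 (hZQ hz))
  have hm : IsMulCommutative A := by
    have hA2 : A = closure ((↑(Q ⊓ J) : Set G) ∪ {z}) := by
      rw [Subgroup.closure_union, closure_eq, ← zpowers_eq_closure]
    rw [hA2]
    refine Subgroup.isMulCommutative_closure ?_
    rintro x (hx | hx) y (hy | hy)
    · exact congrArg Subtype.val (mul_comm' (⟨x, hx.2⟩ : J) ⟨y, hy.2⟩)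
    · exact (Set.mem_singleton_iff.1 hy ▸ (hcomm z hz x (hQS hx.1)).symm).eq
    · exact (Set.mem_singleton_iff.1 hx ▸ hcomm z hz y (hQS hy.1)).eq
    · rw [Set.mem_singleton_iff.1 hx, Set.mem_singleton_iff.1 hy]
  refine abelian_card hQex hQcard (A := A.subgroupOf Q) (fun a ha b hb => ?_) ?_
  · exact Subtype.ext (congrArg Subtype.val (mul_comm' (⟨(a : G), ha⟩ : A) ⟨(b : G), hb⟩) :)
  · rw [Nat.card_congr (subgroupOfEquivOfLe hA).toEquiv]
    have hd : Nat.card A ∣ 3 ^ 5 := hQcard ▸ card_dvd_of_le hA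
    obtain ⟨a, -, ha⟩ := (Nat.dvd_prime_pow Nat.prime_three).1 hd
    have hlt : 3 ^ 3 < Nat.card A := by
      refine lt_of_le_of_lt hJQ (lt_of_le_of_ne (card_le_of_le le_sup_left) fun he => hzJ ?_)
      exact (eq_of_le_of_card_ge (le_sup_left : Q ⊓ J ≤ A) he.ge ▸
        (le_sup_right : zpowers z ≤ A) (mem_zpowers z) : z ∈ Q ⊓ J).2
    rw [ha] at hlt ⊢
    exact Nat.pow_le_pow_right (by norm_num) ((Nat.pow_lt_pow_iff_right (by norm_num)).1 hlt)

/-- Condition (iii) at the centre of `S` from condition (iii) at all points of `J`. -/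
theorem at_center {Z J : Subgroup G} (hcard : Nat.card Z = 3) (hle : Z ≤ J)
    (hiii : ∀ x ∈ J, x ≠ 1 →
      centralizer ((core3 (centralizer ({x} : Set G)) : Subgroup G) : Set G) ≤
        core3 (centralizer ({x} : Set G))) :
    centralizer ((core3 (centralizer (Z : Set G)) : Subgroup G) : Set G) ≤
      core3 (centralizer (Z : Set G)) := by
  have : Fact (Nat.Prime 3) := ⟨Nat.prime_three⟩
  obtain ⟨⟨z, hz⟩, hz1⟩ :=
    exists_prime_orderOf_dvd_card' (G := Z) 3 (hcard ▸ dvd_refl _)
  rw [Subgroup.orderOf_mk] at hz1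
  have hne : z ≠ 1 := fun h => by rw [h, orderOf_one] at hz1; norm_num at hz1
  have hgen : zpowers z = Z :=
    eq_of_le_of_card_ge (zpowers_le.2 hz) (by rw [Nat.card_zpowers, hz1, hcard])
  have hc : centralizer (Z : Set G) = centralizer ({z} : Set G) := by
    rw [← hgen, zpowers_eq_closure, centralizer_closure]
  rw [hc]
  exact hiii z (hle hz) hne

end Cfsg.Agent.McLLoc.Weak
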